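import Cfsg.Agent.Lib.Classical.UnitaryDecompMax.Spread
import Cfsg.Agent.Lib.Classical.WittExtension

set_option autoImplicit false
set_option linter.unusedSectionVars false

/-!
Isometries inside a non-degenerate subspace of a Hermitian space.
-/

namespace CfsgLib.Classical.HermDecompMax

open Matrix Cfsg CfsgLib.Classical.Herm
open CfsgLib.ClassicalAut (Unitary.Conj Unitary.space Unitary.herm_apply)

variable {F : Type*} [Field F] [Finite F] {q : ℕ} (K : Unitary.Conj F q) {n : ℕ}

local notation "H" => hermForm n F q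
local notation "V" => (Fin n → F)
local notation "G" => SU n F q
local notation "e[" s "]" => (Pi.single s 1 : Fin n → F)

include K

theorem exists_aniso {U : Submodule F V} (hU : Nondeg (q := q) U) (h0 : U ≠ ⊥) :
    ∃ p ∈ U, H p p ≠ 0 := by
  obtain ⟨x, hx, hx0⟩ := Submodule.exists_mem_ne_zero_of_ne_bot h0
  obtain ⟨y, hy, hxy⟩ := hU x hx hx0
  by_contra hc
  push Not at hc
  obtain ⟨t, ht⟩ := K.exists_trace
  have h1 := hc _ (U.add_mem hx (U.smul_mem (K.bar (t / H x y)) hy))
  simp only [h_add_left K, h_add_right K, h_smul_left K, h_smul_right K, hc x hx, hc y hy,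
    h_swap K x y, mul_zero, add_zero, zero_add, ← map_mul, K.bar_bar, div_mul_cancel₀ _ hxy] at h1
  exact ht h1

theorem nondeg_inf_orth {U P : Submodule F V} (hU : Nondeg (q := q) U) (hP : Nondeg (q := q) P)
    (hPU : P ≤ U) : Nondeg (q := q) (U ⊓ orth K P) := by
  intro b hb hb0
  obtain ⟨y, hy, hby⟩ := hU b hb.1 hb0
  obtain ⟨a, ha, hya⟩ := exists_split K hP y
  exact ⟨y - a, ⟨U.sub_mem hy (hPU ha), hya⟩, by
    rwa [h_sub_right K, h_eq_zero_symm K (hb.2 a ha), sub_zero]⟩

/-- A vector with prescribed product with `x`. -/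
theorem exists_partner_one {U : Submodule F V} (hU : Nondeg (q := q) U) {x : V} (hx : x ∈ U)
    (hx0 : x ≠ 0) : ∃ z ∈ U, H x z = 1 := by
  obtain ⟨y, hy, hxy⟩ := hU x hx hx0
  exact ⟨K.bar (H x y)⁻¹ • y, U.smul_mem _ hy, by rw [h_smul_right K, K.bar_bar, inv_mul_cancel₀ hxy]⟩

/-- An isotropic partner of an isotropic vector. -/
theorem exists_iso_partner {U : Submodule F V} (hU : Nondeg (q := q) U) {x : V} (hx : x ∈ U)
    (hx0 : x ≠ 0) (hxx : H x x = 0) : ∃ f ∈ U, H f f = 0 ∧ H f x = 1 ∧ H x f = 1 := by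
  obtain ⟨z, hz, hxz⟩ := exists_partner_one K hU hx hx0
  have hzx : H z x = 1 := by rw [h_swap K x z, hxz, map_one]
  obtain ⟨c, hc⟩ := (Unitary.space (n := n) K).tr z
  replace hc : H z z + 1 * c + K.bar c = 0 := hc
  refine ⟨z + c • x, U.add_mem hz (U.smul_mem _ hx), ?_, ?_, ?_⟩
  · simp only [h_add_left K, h_add_right K, h_smul_left K, h_smul_right K, hzx, hxz, hxx]
    linear_combination hc
  · rw [h_add_left K, h_smul_left K, hzx, hxx, mul_zero, add_zero]
  · rw [h_add_right K, h_smul_right K, hxz, hxx, mul_zero, add_zero]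

theorem exists_aniso_orth_one {U : Submodule F V} (hU : Nondeg (q := q) U) {x : V} (hx : x ∈ U)
    (h : (2 ≤ Module.finrank F U ∧ H x x ≠ 0) ∨ 3 ≤ Module.finrank F U) :
    ∃ p ∈ U, H p x = 0 ∧ H p p ≠ 0 := by
  rcases eq_or_ne x 0 with rfl | hx0
  · obtain ⟨p, hp, hpp⟩ := exists_aniso K hU (fun e => by
      rw [e, finrank_bot] at h; omega)
    exact ⟨p, hp, h_zero_right K _, hpp⟩
  suffices ∃ P : Submodule F V, x ∈ P ∧ Nondeg (q := q) P ∧ P ≤ U ∧ U ⊓ orth K P ≠ ⊥ by
    obtain ⟨P, hxP, hP, hPU, hne⟩ := this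
    obtain ⟨p, hp, hpp⟩ := exists_aniso K (nondeg_inf_orth K hU hP hPU) hne
    exact ⟨p, hp.1, h_eq_zero_symm K (hp.2 x hxP), hpp⟩
  by_cases hxx : H x x = 0
  · have h3 : 3 ≤ Module.finrank F U := h.elim (fun h' => absurd hxx h'.2) id
    obtain ⟨f, hf, hff, hfx, hxf⟩ := exists_iso_partner K hU hx hx0 hxx
    refine ⟨Submodule.span F (Set.range ![x, f]), Submodule.subset_span ⟨0, rfl⟩, fun y hy hy0 => ?_, ?_,
      fun e => ?_⟩
    · rw [Matrix.range_cons, Matrix.range_cons, Matrix.range_empty, Set.union_empty, Set.singleton_union]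
        at hy ⊢
      rw [Submodule.mem_span_pair] at hy
      obtain ⟨a, b, rfl⟩ := hy
      by_cases hb : b = 0
      · refine ⟨f, Submodule.mem_span_pair.2 ⟨0, 1, by simp⟩, ?_⟩
        have ha : a ≠ 0 := fun e => hy0 (by simp [e, hb])
        simp [h_add_left K, h_smul_left K, hb, hxf, ha]
      · refine ⟨x, Submodule.mem_span_pair.2 ⟨1, 0, by simp⟩, ?_⟩
        simp [h_add_left K, h_smul_left K, hxx, hfx, hb]
    · rw [Submodule.span_le]
      rintro _ ⟨i, rfl⟩
      fin_cases i <;> assumption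
    · have := finrank_inf_orth_le K U 2 ![x, f]
      rw [e, finrank_bot] at this
      omega
  · refine ⟨Submodule.span F (Set.range ![x]), Submodule.subset_span ⟨0, rfl⟩, fun y hy hy0 => ?_, ?_,
      fun e => ?_⟩
    · simp only [Matrix.range_cons, Matrix.range_empty, Set.union_empty, Submodule.mem_span_singleton] at hy
      obtain ⟨a, rfl⟩ := hy
      refine ⟨x, Submodule.subset_span ⟨0, rfl⟩, ?_⟩
      rw [h_smul_left K]
      exact mul_ne_zero (fun e => hy0 (by rw [e, zero_smul])) hxx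
    · rw [Submodule.span_le]
      rintro _ ⟨i, rfl⟩
      fin_cases i
      exact hx
    · have := finrank_inf_orth_le K U 1 ![x]
      rw [e, finrank_bot] at this
      rcases h with ⟨h, -⟩ | h <;> omega

/-- A vector with prescribed norm and product with an anisotropic one. -/
theorem exists_prescribed_norm {U : Submodule F V} (hU : Nondeg (q := q) U)
    (h2 : 2 ≤ Module.finrank F U) {v : V} (hv : v ∈ U) (hvv : H v v ≠ 0) {s : F} (hs : K.bar s = s)
    (a : F) : ∃ x ∈ U, H x x = s ∧ H x v = a := by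
  obtain ⟨p, hp, hpv, hpp⟩ := exists_aniso_orth_one K hU hv (Or.inl ⟨h2, hvv⟩)
  obtain ⟨t, ht, htt⟩ := exists_scaled K hp hpp (s := s - a * K.bar a / H v v)
    (by rw [map_sub, map_div₀, hs, bar_norm K, bar_self K])
  refine ⟨(a / H v v) • v + t • p, U.add_mem (U.smul_mem _ hv) ht, ?_, ?_⟩
  · have e : K.bar (a / H v v) = K.bar a / H v v := by rw [map_div₀, bar_self K]
    rw [h_add_left K, h_add_right K, h_add_right K, htt]
    simp only [h_smul_left K, h_smul_right K, hpv, h_eq_zero_symm K hpv, mul_zero, add_zero, zero_add, e]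
    field_simp
    ring
  · rw [h_add_left K, h_smul_left K, h_smul_left K, hpv, mul_zero, add_zero, div_mul_cancel₀ _ hvv]

/-- The isotropic vectors span a subspace of dimension at least two. -/
theorem exists_iso_pairing {U : Submodule F V} (hU : Nondeg (q := q) U)
    (h2 : 2 ≤ Module.finrank F U) {v : V} (hv : ∃ y ∈ U, H y v ≠ 0) :
    ∃ a ∈ U, H a a = 0 ∧ H a v ≠ 0 := by
  by_contra hc
  push Not at hc
  obtain ⟨y, hy, hyv⟩ := hv
  by_cases hyy : H y y = 0
  · exact hyv (hc y hy hyy)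
  obtain ⟨p, hp, hpy, hpp⟩ := exists_aniso_orth_one K hU hy (Or.inl ⟨h2, hyy⟩)
  obtain ⟨t, ht, htt⟩ := exists_scaled K hp hpp (s := -(H y y)) (by rw [map_neg, bar_self K])
  have key : ∀ ζ : F, Circ K ζ → H y v + ζ * H (t • p) v = 0 := fun ζ hζ => by
    have hζ' : ζ * K.bar ζ = 1 := hζ
    have h := hc _ (U.add_mem hy (U.smul_mem ζ ht)) (by
      have e1 : H y (t • p) = 0 := by rw [h_smul_right K, h_eq_zero_symm K hpy, mul_zero]
      simp only [h_add_left K, h_add_right K, h_smul_left K ζ, h_smul_right K ζ, htt, e1,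
        h_eq_zero_symm K e1, mul_zero, add_zero, zero_add]
      linear_combination -(H y y) * hζ')
    rwa [h_add_left K, h_smul_left K ζ] at h
  obtain ⟨ζ, hζ, hζ1⟩ := exists_circ_ne_one K
  have h1 := key 1 (circ_one K)
  have h2' := key ζ hζ
  have : (1 - ζ) * H (t • p) v = 0 := by linear_combination h1 - h2'
  rw [(mul_eq_zero.1 this).resolve_left (sub_ne_zero.2 (Ne.symm hζ1)), mul_zero, add_zero] at h1
  exact hyv h1

/-! ### Moving a vector -/

theorem det_norm {A : Matrix (Fin n) (Fin n) F} (hA : ∀ x y, H (A *ᵥ x) (A *ᵥ y) = H x y) :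
    A.det * K.bar A.det = 1 := by
  have h : Aᵀ * A.map K.bar = 1 := by
    ext i j
    have e := hA e[i] e[j]
    rw [Unitary.herm_apply K, mulVec_single_one, mulVec_single_one, h_single_single K] at e
    rw [Matrix.mul_apply, Matrix.one_apply, ← e]
    rfl
  have e := congrArg Matrix.det h
  rw [det_mul, det_transpose, det_one] at e
  rw [← e]
  congr 1
  exact RingEquiv.map_det K.bar A

/-- An element of `SU` acting inside `U`, up to a determinant correction along `p`. -/
theorem exists_move {U : Submodule F V} (hU : Nondeg (q := q) U) {x x' : V} (hx : x ∈ U)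
    (hx' : x' ∈ U) (hx0 : x ≠ 0) (hx'0 : x' ≠ 0) (hn : H x x = H x' x') {p : V} (hpp : H p p ≠ 0)
    (hpx : H p x' = 0) :
    ∃ g : G, app g x = x' ∧ (∀ y ∈ orth K U, H y p = 0 → app g y = y) ∧
      ∀ y, ∃ a ∈ U, ∃ c : F, app g y = y + a + c • p ∧ (H y p = 0 → (∀ u ∈ U, H u p = 0) → c = 0) := by
  classical
  obtain ⟨z, hz, hxz⟩ := exists_partner_one K hU hx hx0
  let L : V →ₗ[F] V :=
    { toFun := fun v => v + H v z • (x' - x)
      map_add' := fun a b => by rw [h_add_left K]; module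
      map_smul' := fun c a => by rw [h_smul_left K, RingHom.id_apply]; module }
  set X := Submodule.span F {x} ⊔ orth K U
  have hdec : ∀ v ∈ X, ∃ (c : F) (w : V), w ∈ orth K U ∧ v = c • x + w ∧ L v = c • x' + w := by
    intro v hv
    obtain ⟨a, ha, w, hw, rfl⟩ := Submodule.mem_sup.1 hv
    obtain ⟨c, rfl⟩ := Submodule.mem_span_singleton.1 ha
    refine ⟨c, w, hw, rfl, ?_⟩
    show c • x + w + H (c • x + w) z • (x' - x) = _
    rw [h_add_left K, h_smul_left K, hxz, h_eq_zero_symm K (hw z hz)]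
    module
  let φ₀ : X →ₗ[F] V := L.comp X.subtype
  have hiso : ∀ a b : X, H (φ₀ a) (φ₀ b) = H (a : V) (b : V) := by
    intro a b
    obtain ⟨c, w, hw, ea, ea'⟩ := hdec a a.2
    obtain ⟨d, w', hw', eb, eb'⟩ := hdec b b.2
    show H (L a) (L b) = _
    rw [ea', eb', ea, eb]
    simp only [h_add_left K, h_add_right K, h_smul_left K, h_smul_right K, hn, hw' x hx, hw' x' hx',
      h_eq_zero_symm K (hw x hx), h_eq_zero_symm K (hw x' hx')]
  have hinj : Function.Injective φ₀ := by
    rw [← LinearMap.ker_eq_bot, Submodule.eq_bot_iff]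
    intro a ha
    rw [LinearMap.mem_ker] at ha
    obtain ⟨c, w, hw, ea, ea'⟩ := hdec a a.2
    have e : c • x' + w = 0 := ea'.symm.trans ha
    have hc : c • x' = 0 := by
      refine (Submodule.eq_bot_iff _).1 (isCompl_orth K hU).inf_eq_bot _ ⟨U.smul_mem _ hx', ?_⟩
      rw [eq_neg_of_add_eq_zero_left e]
      exact (orth K U).neg_mem hw
    rw [hc, zero_add] at e
    refine Subtype.ext ?_
    rw [ea, e, (smul_eq_zero.1 hc).resolve_right hx'0, zero_smul, add_zero]
    rfl
  let B : V →ₛₗ[K.bar.toRingHom] V →ₗ[F] F :=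
    LinearMap.mk₂'ₛₗ K.bar.toRingHom (RingHom.id F) (fun v u : V => H u v)
      (fun a b u => h_add_right K _ _ _) (fun c a u => h_smul_right K c _ _)
      (fun v a b => h_add_left K _ _ _) (fun c v a => h_smul_left K c _ _)
  obtain ⟨T, hT, hTX⟩ := Witt.witt_hermitian K.bar.toRingHom
    (fun h => by obtain ⟨y, hy⟩ := K.exists_moved; exact hy (RingHom.congr_fun h y))
    K.bar_bar B (fun u v => (h_swap K v u).symm)
    (fun v hv => h_nondeg K fun w => h_eq_zero_symm K (hv w))
    X (LinearMap.range φ₀) (LinearEquiv.ofInjective φ₀ hinj) (fun a b => hiso b a)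
  have hTH : ∀ a b, H (T a) (T b) = H a b := fun a b => hT b a
  have hTX' : ∀ v ∈ X, T v = L v := fun v hv => hTX ⟨v, hv⟩
  have hTx : T x = x' := by
    rw [hTX' x (Submodule.mem_sup_left (Submodule.mem_span_singleton_self x))]
    show x + H x z • (x' - x) = x'
    rw [hxz]; module
  have hTfix : ∀ w ∈ orth K U, T w = w := fun w hw => by
    rw [hTX' w (Submodule.mem_sup_right hw)]
    show w + H w z • (x' - x) = w
    rw [h_eq_zero_symm K (hw z hz), zero_smul, add_zero]
  have hTU : ∀ u ∈ U, T u ∈ U := fun u hu => mem_of_orth_orth K fun w hw => by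
    rw [← hTfix w hw, hTH]
    exact hw u hu
  set A := LinearMap.toMatrix' T.toLinearMap with hAdef
  have hA : ∀ y, A *ᵥ y = T y := fun y => by rw [hAdef, LinearMap.toMatrix'_mulVec]; rfl
  have hd := det_norm K (A := A) (fun a b => by rw [hA, hA, hTH])
  set d := A.det
  set lam := (d⁻¹ - 1) / H p p
  have hd0 : d ≠ 0 := fun e => by rw [e, zero_mul] at hd; exact zero_ne_one hd
  have hlam : lam + K.bar lam + lam * K.bar lam * H p p = 0 := by
    simp only [lam, map_div₀, map_sub, map_one, map_inv₀, bar_self K]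
    rw [show K.bar d = d⁻¹ from eq_inv_of_mul_eq_one_right hd, inv_inv]
    field_simp
    ring
  have hdet : (quasi K p lam * A).det = 1 := by
    rw [det_mul, det_quasi, div_mul_cancel₀ _ hpp, add_sub_cancel, inv_mul_cancel₀ hd0]
  let g : G := ⟨⟨quasi K p lam * A, hdet⟩, fun a b => by
    show H ((quasi K p lam * A) *ᵥ a) ((quasi K p lam * A) *ᵥ b) = _
    rw [← mulVec_mulVec, ← mulVec_mulVec, quasi_isometry K hlam, hA, hA, hTH]⟩
  have hg : ∀ y, app g y = T y + (lam * H (T y) p) • p := fun y => by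
    show (quasi K p lam * A) *ᵥ y = _
    rw [← mulVec_mulVec, quasi_apply, hA]
  refine ⟨g, ?_, fun y hy hyp => ?_, fun y => ?_⟩
  · rw [hg, hTx, h_eq_zero_symm K hpx, mul_zero, zero_smul, add_zero]
  · rw [hg, hTfix y hy, hyp, mul_zero, zero_smul, add_zero]
  · obtain ⟨u, hu, hyu⟩ := exists_split K hU y
    have hTy : T y = y + (T u - u) := by
      conv_lhs => rw [← add_sub_cancel u y, map_add, hTfix _ hyu]
      abel
    refine ⟨T u - u, U.sub_mem (hTU u hu) hu, lam * H (T y) p, by rw [hg, ← hTy], fun h1 h2 => ?_⟩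
    rw [hTy, h_add_left K, h1, h2 _ (U.sub_mem (hTU u hu) hu), add_zero, mul_zero]

end CfsgLib.Classical.HermDecompMax
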