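import Cfsg.Agent.Lib.Classical.UnitaryMax

set_option autoImplicit false
set_option linter.unusedSectionVars false

/-!
Sums of norm-one scalars in a field with `q²` elements.
-/

namespace CfsgLib.Classical.HermDecompMax

open CfsgLib.Classical.Herm
open CfsgLib.ClassicalAut (Unitary.Conj Unitary.normOne Unitary.mem_normOne Unitary.card_normOne
  Unitary.closure_eq_top)

variable {F : Type*} [Field F] [Finite F] {q : ℕ} (K : Unitary.Conj F q)

/-- The norm-one scalars. -/
def Circ (z : F) : Prop := z * K.bar z = 1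

theorem circ_one : Circ K 1 := by simp [Circ]

variable {K}

theorem Circ.ne_zero {z : F} (h : Circ K z) : z ≠ 0 := fun e => by simp [Circ, e] at h

theorem Circ.bar_eq {z : F} (h : Circ K z) : K.bar z = z⁻¹ := eq_inv_of_mul_eq_one_right h

theorem Circ.mul {a b : F} (ha : Circ K a) (hb : Circ K b) : Circ K (a * b) := by
  unfold Circ at *
  rw [map_mul, mul_mul_mul_comm, ha, hb, one_mul]

theorem Circ.inv {a : F} (ha : Circ K a) : Circ K a⁻¹ := by
  unfold Circ at *
  rw [map_inv₀, ← mul_inv, ha, inv_one]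

theorem Circ.bar {a : F} (ha : Circ K a) : Circ K (K.bar a) := ha.bar_eq ▸ ha.inv

theorem Circ.pow {a : F} (ha : Circ K a) (k : ℕ) : Circ K (a ^ k) := by
  induction k with
  | zero => simpa using circ_one K
  | succ k ih => rw [pow_succ]; exact ih.mul ha

theorem Circ.neg {a : F} (ha : Circ K a) : Circ K (-a) := by
  unfold Circ at *
  rw [map_neg, neg_mul_neg, ha]

theorem Circ.zpow {a : F} (ha : Circ K a) (k : ℤ) : Circ K (a ^ k) := by
  rcases k with k | k
  · rw [Int.ofNat_eq_natCast, zpow_natCast]; exact ha.pow k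
  · rw [zpow_negSucc]; exact (ha.pow _).inv

theorem circ_prod {ι : Type*} {s : Finset ι} {f : ι → F} (h : ∀ i ∈ s, Circ K (f i)) :
    Circ K (∏ i ∈ s, f i) :=
  Finset.prod_induction f (Circ K) (fun _ _ => Circ.mul) (circ_one K) h

variable (K)

/-- A generator of the norm-one scalars. -/
theorem exists_circ_gen : ∃ ζ : F, Circ K ζ ∧ orderOf ζ = q + 1 := by
  obtain ⟨g, hg⟩ := IsCyclic.exists_ofOrder_eq_natCard (α := Unitary.normOne K)
  exact ⟨((g : Fˣ) : F), (Unitary.mem_normOne K).1 g.2, by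
    rw [orderOf_units, Subgroup.orderOf_coe, hg, Unitary.card_normOne K]⟩

theorem exists_circ_ne_one : ∃ ζ : F, Circ K ζ ∧ ζ ≠ 1 := by
  obtain ⟨ζ, hζ, ho⟩ := exists_circ_gen K
  refine ⟨ζ, hζ, fun e => ?_⟩
  have := K.two_le
  rw [e, orderOf_one] at ho
  omega

/-- A norm-one scalar different from its inverse. -/
theorem exists_circ_sq_ne_one : ∃ ζ : F, Circ K ζ ∧ ζ ≠ 1 ∧ ζ ^ 2 ≠ 1 := by
  obtain ⟨ζ, hζ, ho⟩ := exists_circ_gen K
  have h2 : ζ ^ 2 ≠ 1 := fun e => by
    have := Nat.le_of_dvd two_pos (orderOf_dvd_of_pow_eq_one e)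
    have := K.two_le
    omega
  exact ⟨ζ, hζ, fun e => h2 (by rw [e, one_pow]), h2⟩

theorem norm_eq_zero {a : F} (h : a * K.bar a = 0) : a = 0 :=
  (mul_eq_zero.1 h).elim id fun e => (map_eq_zero_iff _ K.bar.injective).1 e

theorem card_fibre_le [DecidableEq F] {y : F} (hy : y ≠ 0) (C : Finset F) (hC : ∀ z ∈ C, Circ K z) :
    C.card ≤ 2 * (C.image fun z => y * z + K.bar (y * z)).card := by
  refine Finset.card_le_mul_card_image C 2 fun r _ => ?_
  by_cases hne : (C.filter fun z => y * z + K.bar (y * z) = r).Nonempty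
  · obtain ⟨z₀, hz₀⟩ := hne
    rw [Finset.mem_filter] at hz₀
    calc (C.filter fun z => y * z + K.bar (y * z) = r).card
        ≤ ({z₀, K.bar y * K.bar z₀ / y} : Finset F).card := by
          refine Finset.card_le_card fun z hz => ?_
          rw [Finset.mem_filter] at hz
          rw [Finset.mem_insert, Finset.mem_singleton]
          have h1 : z * K.bar z = 1 := hC z hz.1
          have h2 : z₀ * K.bar z₀ = 1 := hC z₀ hz₀.1
          have h3 : (y * z - y * z₀) * (y * z - K.bar y * K.bar z₀) = 0 := by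
            have e := hz.2.trans hz₀.2.symm
            rw [map_mul, map_mul] at e
            linear_combination (y * z) * e - y * K.bar y * h1 + y * K.bar y * h2
          rcases mul_eq_zero.1 h3 with h | h
          · exact Or.inl (mul_left_cancel₀ hy (sub_eq_zero.1 h))
          · right
            rw [eq_div_iff hy]
            linear_combination h
      _ ≤ 2 := Finset.card_le_two
  · rw [Finset.not_nonempty_iff_eq_empty.1 hne]; simp

/-- Three scaled norm-one scalars reach every non-zero value. -/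
theorem circ_three {a b c t : F} (ha : a ≠ 0) (hb : b ≠ 0) (hc : c ≠ 0) (ht : t ≠ 0) :
    ∃ z₁ z₂ z₃ : F, Circ K z₁ ∧ Circ K z₂ ∧ Circ K z₃ ∧ a * z₁ + b * z₂ + c * z₃ = t := by
  classical
  cases nonempty_fintype F
  set C := Finset.univ.filter fun z : F => Circ K z with hC
  have hCc : C.card = q + 1 := by
    rw [hC, ← card_norm_one K, Nat.card_eq_fintype_card, Fintype.card_subtype]
    rfl
  have hCm : ∀ z ∈ C, Circ K z := fun z hz => (Finset.mem_filter.1 hz).2
  set Φ := Finset.univ.filter fun r : F => K.bar r = r with hΦ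
  have hΦc : Φ.card ≤ q := by
    have h : Φ ⊆ insert 0 (Finset.univ.filter fun r : F => K.bar r = r ∧ r ≠ 0) := fun r hr => by
      rw [Finset.mem_insert, Finset.mem_filter]
      rcases eq_or_ne r 0 with h | h
      · exact Or.inl h
      · exact Or.inr ⟨Finset.mem_univ _, (Finset.mem_filter.1 hr).2, h⟩
    refine (Finset.card_le_card h).trans ((Finset.card_insert_le _ _).trans ?_)
    have h' := card_fixed K
    rw [Nat.card_eq_fintype_card, Fintype.card_subtype] at h'
    have := K.two_le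
    omega
  let f : F → F → Finset F := fun u v => C.image fun z => (u * z + v) * K.bar (u * z + v)
  have hf : ∀ u v : F, u ≠ 0 → v ≠ 0 → q + 1 ≤ 2 * (f u v).card := by
    intro u v hu hv
    have h := card_fibre_le K (y := u * K.bar v) (mul_ne_zero hu ((map_ne_zero K.bar).2 hv)) C hCm
    rw [hCc] at h
    refine h.trans (Nat.mul_le_mul_left 2 (le_of_eq ?_))
    rw [show f u v = (C.image fun z => u * K.bar v * z + K.bar (u * K.bar v * z)).image
      (fun r => u * K.bar u + v * K.bar v + r) from ?_]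
    · exact (Finset.card_image_of_injective _ (add_right_injective _)).symm
    · rw [Finset.image_image]
      refine Finset.image_congr fun z hz => ?_
      have hz' : z * K.bar z = 1 := hCm z hz
      simp only [Function.comp_apply, map_add, map_mul, K.bar_bar]
      linear_combination (u * K.bar u) * hz'
  have h1 := hf a b ha hb
  have h2 := hf (-c) t (neg_ne_zero.2 hc) ht
  have hsub : ∀ u v : F, f u v ⊆ Φ := fun u v r hr => by
    obtain ⟨z, -, rfl⟩ := Finset.mem_image.1 hr
    rw [hΦ, Finset.mem_filter]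
    exact ⟨Finset.mem_univ _, bar_norm K _⟩
  obtain ⟨r, hr⟩ : (f a b ∩ f (-c) t).Nonempty := by
    by_contra hne
    rw [Finset.not_nonempty_iff_eq_empty, ← Finset.disjoint_iff_inter_eq_empty] at hne
    have := Finset.card_le_card (Finset.union_subset (hsub a b) (hsub (-c) t))
    rw [Finset.card_union_of_disjoint hne] at this
    omega
  rw [Finset.mem_inter] at hr
  obtain ⟨⟨z, hz, hzr⟩, ⟨w, hw, hwr⟩⟩ := Finset.mem_image.1 hr.1, Finset.mem_image.1 hr.2
  have hz' := hCm z hz
  have hw' := hCm w hw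
  by_cases hX : a * z + b = 0
  · rw [hX, zero_mul] at hzr
    have h0 : -c * w + t = 0 := norm_eq_zero K (hwr.trans hzr.symm)
    exact ⟨z, 1, w, hz', circ_one K, hw', by linear_combination hX - h0⟩
  · set ρ := (-c * w + t) / (a * z + b) with hρ
    have hρc : Circ K ρ := by
      unfold Circ
      have hX' : K.bar (a * z + b) ≠ 0 := (map_ne_zero K.bar).2 hX
      rw [hρ, map_div₀, div_mul_div_comm, hwr, ← hzr, div_self (mul_ne_zero hX hX')]
    refine ⟨z * ρ, ρ, w, hz'.mul hρc, hρc, hw', ?_⟩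
    have e : ρ * (a * z + b) = -c * w + t := by rw [hρ]; exact div_mul_cancel₀ _ hX
    linear_combination e

/-- Four or more scaled norm-one scalars reach every value. -/
theorem circ_sum {ι : Type*} [DecidableEq ι] {A : Finset ι} (hA : 4 ≤ A.card) {f : ι → F}
    (hf : ∀ i ∈ A, f i ≠ 0) (t : F) :
    ∃ z : ι → F, (∀ i, Circ K (z i)) ∧ (∀ i ∉ A, z i = 1) ∧ ∑ i ∈ A, f i * z i = t := by
  obtain ⟨B, hBA, hB⟩ := Finset.exists_subset_card_eq hA
  obtain ⟨d, B', hd, rfl, hB'⟩ := Finset.card_eq_succ.1 hB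
  obtain ⟨a, b, c, hab, hac, hbc, rfl⟩ := Finset.card_eq_three.1 hB'
  simp only [Finset.mem_insert, Finset.mem_singleton, not_or] at hd
  simp only [Finset.insert_subset_iff, Finset.singleton_subset_iff] at hBA
  obtain ⟨hdA, haA, hbA, hcA⟩ := hBA
  obtain ⟨hda, hdb, hdc⟩ := hd
  set t' := t - ∑ i ∈ (((A.erase d).erase a).erase b).erase c, f i with ht'
  obtain ⟨z₄, hz₄, hz₄t⟩ : ∃ z₄ : F, Circ K z₄ ∧ t' - f d * z₄ ≠ 0 := by
    obtain ⟨ζ, hζ, hζ1⟩ := exists_circ_ne_one K
    by_cases h : t' - f d * 1 = 0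
    · exact ⟨ζ, hζ, fun h' => hζ1 (mul_left_cancel₀ (hf d hdA) (by linear_combination h - h'))⟩
    · exact ⟨1, circ_one K, h⟩
  obtain ⟨z₁, z₂, z₃, h1, h2, h3, h⟩ := circ_three K (hf a haA) (hf b hbA) (hf c hcA) hz₄t
  refine ⟨Function.update (Function.update (Function.update (Function.update (fun _ => 1) d z₄) a z₁)
    b z₂) c z₃, fun i => ?_, fun i hi => ?_, ?_⟩
  · simp only [Function.update_apply]
    split_ifs <;> first | assumption | exact circ_one K
  · have e : ∀ j ∈ A, i ≠ j := fun j hj e => hi (e ▸ hj)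
    simp [e a haA, e b hbA, e c hcA, e d hdA]
  · set z := Function.update (Function.update (Function.update (Function.update (fun _ : ι => (1 : F))
      d z₄) a z₁) b z₂) c z₃
    set A' := (((A.erase d).erase a).erase b).erase c
    have m1 : a ∈ A.erase d := Finset.mem_erase.2 ⟨Ne.symm hda, haA⟩
    have m2 : b ∈ (A.erase d).erase a :=
      Finset.mem_erase.2 ⟨hab.symm, Finset.mem_erase.2 ⟨Ne.symm hdb, hbA⟩⟩
    have m3 : c ∈ ((A.erase d).erase a).erase b :=
      Finset.mem_erase.2 ⟨hbc.symm, Finset.mem_erase.2 ⟨hac.symm, Finset.mem_erase.2 ⟨Ne.symm hdc, hcA⟩⟩⟩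
    have hrest : ∀ i ∈ A', f i * z i = f i := fun i hi => by
      simp only [A', Finset.mem_erase] at hi
      simp [z, hi.1, hi.2.1, hi.2.2.1, hi.2.2.2.1]
    rw [← Finset.add_sum_erase _ _ hdA, ← Finset.add_sum_erase _ _ m1, ← Finset.add_sum_erase _ _ m2,
      ← Finset.add_sum_erase _ _ m3, Finset.sum_congr rfl hrest]
    have e1 : z d = z₄ := by simp [z, hdc, hdb, hda]
    have e2 : z a = z₁ := by simp [z, hac, hab]
    have e3 : z b = z₂ := by simp [z, hbc]
    have e4 : z c = z₃ := by simp [z]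
    rw [e1, e2, e3, e4]
    linear_combination h + ht'

/-- Two phases with a skew, non-zero weighted sum. -/
theorem exists_phase_pair {n₁ n₂ : F} (h₁ : K.bar n₁ = n₁) (h₂ : K.bar n₂ = n₂) (h₁0 : n₁ ≠ 0)
    (h₂0 : n₂ ≠ 0) (h : n₁ + n₂ ≠ 0 ∨ (2 : F) = 0) :
    ∃ ν μ : F, Circ K ν ∧ Circ K μ ∧ ν ≠ 1 ∧ μ ≠ 1 ∧ (ν - 1) * n₁ + (μ - 1) * n₂ ≠ 0 ∧
      (ν - 1) * n₁ + (μ - 1) * n₂ + K.bar ((ν - 1) * n₁ + (μ - 1) * n₂) = 0 := by
  classical
  cases nonempty_fintype F
  set C := (Finset.univ.filter fun z : F => Circ K z).erase 1 with hC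
  have hCm : ∀ z ∈ C, Circ K z ∧ z ≠ 1 := fun z hz =>
    ⟨(Finset.mem_filter.1 (Finset.mem_of_mem_erase hz)).2, Finset.ne_of_mem_erase hz⟩
  have hCc : C.card = q := by
    rw [hC, Finset.card_erase_of_mem (by simp [circ_one K])]
    have : (Finset.univ.filter fun z : F => Circ K z).card = q + 1 := by
      rw [← card_norm_one K, Nat.card_eq_fintype_card, Fintype.card_subtype]; rfl
    omega
  set S := C.image fun z => 2 - ((1 : F) * z + K.bar (1 * z)) with hS
  have hSc : q ≤ 2 * S.card := by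
    have := card_fibre_le K (one_ne_zero (α := F)) C fun z hz => (hCm z hz).1
    rw [hCc] at this
    rw [hS, show (fun z => 2 - ((1 : F) * z + K.bar (1 * z))) =
      (fun r : F => 2 - r) ∘ (fun z => 1 * z + K.bar (1 * z)) from rfl, ← Finset.image_image]
    rwa [Finset.card_image_of_injective _ sub_right_injective]
  have hN : ∀ z : F, Circ K z → 2 - ((1 : F) * z + K.bar (1 * z)) = (1 - z) * K.bar (1 - z) :=
    fun z hz => by
      unfold Circ at hz
      rw [one_mul, map_sub, map_one]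
      linear_combination -hz
  set Φ := Finset.univ.filter fun r : F => K.bar r = r ∧ r ≠ 0 with hΦ
  have hΦc : Φ.card = q - 1 := by
    rw [← card_fixed K, Nat.card_eq_fintype_card, Fintype.card_subtype]
  have hsub1 : S.image (fun r => n₁ * r) ⊆ Φ := fun r hr => by
    obtain ⟨s, hs, rfl⟩ := Finset.mem_image.1 hr
    obtain ⟨z, hz, rfl⟩ := Finset.mem_image.1 hs
    rw [hN z (hCm z hz).1, hΦ, Finset.mem_filter]
    exact ⟨Finset.mem_univ _, by rw [map_mul, h₁, bar_norm K],
      mul_ne_zero h₁0 fun e => (hCm z hz).2 (sub_eq_zero.1 (norm_eq_zero K e)).symm⟩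
  have hsub2 : S.image (fun r => -n₂ * r) ⊆ Φ := fun r hr => by
    obtain ⟨s, hs, rfl⟩ := Finset.mem_image.1 hr
    obtain ⟨z, hz, rfl⟩ := Finset.mem_image.1 hs
    rw [hN z (hCm z hz).1, hΦ, Finset.mem_filter]
    exact ⟨Finset.mem_univ _, by rw [map_mul, map_neg, h₂, bar_norm K],
      mul_ne_zero (neg_ne_zero.2 h₂0) fun e => (hCm z hz).2 (sub_eq_zero.1 (norm_eq_zero K e)).symm⟩
  obtain ⟨r, hr⟩ : (S.image (fun r => n₁ * r) ∩ S.image (fun r => -n₂ * r)).Nonempty := by
    by_contra hne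
    rw [Finset.not_nonempty_iff_eq_empty, ← Finset.disjoint_iff_inter_eq_empty] at hne
    have := Finset.card_le_card (Finset.union_subset hsub1 hsub2)
    rw [Finset.card_union_of_disjoint hne,
      Finset.card_image_of_injective _ (mul_right_injective₀ h₁0),
      Finset.card_image_of_injective _ (mul_right_injective₀ (neg_ne_zero.2 h₂0)), hΦc] at this
    have := K.two_le
    omega
  rw [Finset.mem_inter] at hr
  obtain ⟨s, hs, hs'⟩ := Finset.mem_image.1 hr.1
  obtain ⟨s₂, hs₂, hs₂'⟩ := Finset.mem_image.1 hr.2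
  obtain ⟨ν, hν, rfl⟩ := Finset.mem_image.1 hs
  obtain ⟨μ, hμ, rfl⟩ := Finset.mem_image.1 hs₂
  have key : ∀ a b : F, Circ K a → Circ K b → a + K.bar a = ν + K.bar ν → b + K.bar b = μ + K.bar μ →
      (a - 1) * n₁ + (b - 1) * n₂ + K.bar ((a - 1) * n₁ + (b - 1) * n₂) = 0 := by
    intro a b _ _ ea eb
    have e := hs'.trans hs₂'.symm
    simp only [one_mul] at e
    simp only [map_add, map_mul, map_sub, map_one, h₁, h₂]
    linear_combination n₁ * ea + n₂ * eb - e
  obtain ⟨hν', hν1⟩ := hCm ν hν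
  obtain ⟨hμ', hμ1⟩ := hCm μ hμ
  have hb1 : ∀ z : F, z ≠ 1 → K.bar z ≠ 1 := fun z hz e => hz (by rw [← K.bar_bar z, e, map_one])
  by_cases c1 : (ν - 1) * n₁ + (μ - 1) * n₂ ≠ 0
  · exact ⟨ν, μ, hν', hμ', hν1, hμ1, c1, key ν μ hν' hμ' rfl rfl⟩
  push Not at c1
  by_cases c2 : (ν - 1) * n₁ + (K.bar μ - 1) * n₂ ≠ 0
  · exact ⟨ν, K.bar μ, hν', hμ'.bar, hν1, hb1 μ hμ1, c2,
      key ν _ hν' hμ'.bar rfl (by rw [K.bar_bar, add_comm])⟩
  push Not at c2
  by_cases c3 : (K.bar ν - 1) * n₁ + (μ - 1) * n₂ ≠ 0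
  · exact ⟨K.bar ν, μ, hν'.bar, hμ', hb1 ν hν1, hμ1, c3,
      key _ μ hν'.bar hμ' (by rw [K.bar_bar, add_comm]) rfl⟩
  push Not at c3
  exfalso
  have eμ : K.bar μ = μ := mul_right_cancel₀ h₂0 (by linear_combination c2 - c1)
  have eν : K.bar ν = ν := mul_right_cancel₀ h₁0 (by linear_combination c3 - c1)
  have hm : ∀ z : F, Circ K z → K.bar z = z → z ≠ 1 → z = -1 := fun z hz ez hz1 => by
    unfold Circ at hz
    rw [ez] at hz
    exact (mul_self_eq_one_iff.1 hz).resolve_left hz1
  have nν := hm ν hν' eν hν1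
  have nμ := hm μ hμ' eμ hμ1
  have h2 : (2 : F) ≠ 0 := fun e => hν1 (by rw [nν]; linear_combination -e)
  rw [nν, nμ] at c1
  have : (2 : F) * (n₁ + n₂) = 0 := by linear_combination -c1
  exact (h.resolve_right h2) ((mul_eq_zero.1 this).resolve_left h2)

/-- An additive condition on skew scalars holding for all `s (z - z̄)`, `z` of norm one, holds
everywhere. -/
theorem skew_induction {P : F → Prop} (h0 : P 0) (hadd : ∀ a b, P a → P b → P (a + b))
    (hneg : ∀ a, P a → P (-a)) {s : F} (hs0 : s ≠ 0) (hs : K.bar s = s)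
    (hz : ∀ z, Circ K z → P (s * (z - K.bar z))) {c : F} (hc : c + K.bar c = 0) : P c := by
  obtain ⟨y, hy⟩ := K.exists_trace
  set x := c / s * (y / (y + K.bar y)) with hx
  have hxc : s * (x - K.bar x) = c := by
    rw [hx, map_mul, map_div₀, map_div₀, map_add, K.bar_bar, hs, add_comm (K.bar y) y,
      show K.bar c = -c by linear_combination hc]
    field_simp
    ring
  have htop := Unitary.closure_eq_top K (Unitary.normOne K) (by rw [Unitary.card_normOne K]; omega)
  have hmem : x ∈ AddSubgroup.closure {a : F | ∃ u ∈ Unitary.normOne K, (u : F) = a} := by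
    rw [htop]; trivial
  have key : P (s * (x - K.bar x)) := by
    clear hxc hx
    clear_value x
    induction hmem using AddSubgroup.closure_induction with
    | mem a ha =>
      obtain ⟨u, hu, rfl⟩ := ha
      exact hz _ ((Unitary.mem_normOne K).1 hu)
    | zero => simpa using h0
    | add a b _ _ ha hb =>
      rw [show s * (a + b - K.bar (a + b)) = s * (a - K.bar a) + s * (b - K.bar b) by
        rw [map_add]; ring]
      exact hadd _ _ ha hb
    | neg a _ ha =>
      rw [show s * (-a - K.bar (-a)) = -(s * (a - K.bar a)) by rw [map_neg]; ring]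
      exact hneg _ ha
  rwa [hxc] at key

/-- Two different non-zero skew scalars when `q ≥ 3`. -/
theorem exists_two_skew (hq : 3 ≤ q) : ∃ a b : F, a + K.bar a = 0 ∧ b + K.bar b = 0 ∧ a ≠ 0 ∧ b ≠ 0 ∧
    a ≠ b := by
  obtain ⟨θ, hθ0, hθ⟩ := exists_skew K
  obtain ⟨⟨r, hr, hr0⟩, hr1⟩ : ∃ r : {c : F // K.bar c = c ∧ c ≠ 0}, r ≠ ⟨1, map_one _, one_ne_zero⟩ := by
    have : Nontrivial {c : F // K.bar c = c ∧ c ≠ 0} :=
      (Finite.one_lt_card_iff_nontrivial).1 (by rw [card_fixed K]; omega)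
    exact exists_ne _
  refine ⟨θ, r * θ, hθ, by rw [map_mul, hr]; linear_combination r * hθ, hθ0, mul_ne_zero hr0 hθ0,
    fun e => hr1 (Subtype.ext ?_)⟩
  exact mul_right_cancel₀ hθ0 (by linear_combination -e)

end CfsgLib.Classical.HermDecompMax
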