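import Cfsg.Agent.Lib.Classical.UnitaryDecompMax.Local

set_option autoImplicit false
set_option linter.unusedSectionVars false

/-!
The stabiliser of a coordinate decomposition of a Hermitian space into blocks of size at least two is
maximal.
-/

namespace CfsgLib.Classical.HermDecompMax

open Matrix Cfsg CfsgLib.Classical.Herm
open CfsgLib.ClassicalAut (Unitary.Conj Unitary.space Unitary.herm_apply)

variable {F : Type*} [Field F] [Finite F] {q : ℕ} (K : Unitary.Conj F q) {n t k : ℕ}
  (e : Fin n ≃ Fin t × Fin k)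

local notation "H" => hermForm n F q
local notation "V" => (Fin n → F)
local notation "G" => SU n F q
local notation "e[" s "]" => (Pi.single s 1 : Fin n → F)

/-- The vectors supported on one block. -/
def bsub (F : Type*) [Field F] (i : Fin t) : Submodule F (Fin n → F) where
  carrier := {v | ∀ s, (e s).1 ≠ i → v s = 0}
  add_mem' {a b} ha hb s hs := by simp [ha s hs, hb s hs]
  zero_mem' _ _ := rfl
  smul_mem' c x hx s hs := by simp [hx s hs]

/-- The component in one block. -/
def comp (i : Fin t) (v : V) : V := fun s => if (e s).1 = i then v s else 0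

/-- Permuting the blocks. -/
def BStab (g : G) : Prop := ∀ i, ∃ j, ∀ v ∈ bsub e F i, app g v ∈ bsub e F j

omit [Finite F] in
theorem comp_mem (i : Fin t) (v : V) : comp e i v ∈ bsub e F i := fun s hs => if_neg hs

omit [Finite F] in
theorem comp_of_mem {i : Fin t} {v : V} (hv : v ∈ bsub e F i) : comp e i v = v := funext fun s => by
  by_cases h : (e s).1 = i
  · exact if_pos h
  · simp [comp, h, hv s h]

omit [Finite F] in
theorem comp_of_mem_ne {i j : Fin t} (h : j ≠ i) {v : V} (hv : v ∈ bsub e F j) : comp e i v = 0 :=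
  funext fun s => by
    by_cases hs : (e s).1 = i
    · simp [comp, hs, hv s (hs ▸ Ne.symm h)]
    · simp [comp, hs]

omit [Finite F] in
theorem comp_add (i : Fin t) (v w : V) : comp e i (v + w) = comp e i v + comp e i w :=
  funext fun s => by simp only [comp, Pi.add_apply]; split_ifs <;> simp

omit [Finite F] in
theorem comp_sub (i : Fin t) (v w : V) : comp e i (v - w) = comp e i v - comp e i w :=
  funext fun s => by simp only [comp, Pi.sub_apply]; split_ifs <;> simp

omit [Finite F] in
theorem mem_of_comp {i : Fin t} {v : V} (h : ∀ j, j ≠ i → comp e j v = 0) : v ∈ bsub e F i :=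
  fun s hs => by simpa [comp] using congrFun (h _ hs) s

theorem finrank_bsub (i : Fin t) : Module.finrank F (bsub e F i) = k := by
  let L : bsub e F i ≃ₗ[F] (Fin k → F) :=
    { toFun := fun v a => (v : V) (e.symm (i, a))
      map_add' := fun v w => rfl
      map_smul' := fun c v => rfl
      invFun := fun f => ⟨fun s => if (e s).1 = i then f (e s).2 else 0, fun s hs => if_neg hs⟩
      left_inv := fun v => Subtype.ext (funext fun s => by
        show (if (e s).1 = i then (v : V) (e.symm (i, (e s).2)) else 0) = (v : V) s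
        split_ifs with h
        · rw [show (i, (e s).2) = e s from Prod.ext h.symm rfl, e.symm_apply_apply]
        · exact (v.2 s h).symm)
      right_inv := fun f => funext fun a => by simp }
  rw [L.finrank_eq, Module.finrank_fin_fun]

include K

theorem h_comp (i : Fin t) (v : V) {w : V} (hw : w ∈ bsub e F i) : H (comp e i v) w = H v w := by
  rw [Unitary.herm_apply K, Unitary.herm_apply K]
  refine Finset.sum_congr rfl fun s _ => ?_
  by_cases h : (e s).1 = i
  · simp [comp, h]
  · simp [hw s h]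

theorem h_comp' (i : Fin t) (v : V) {w : V} (hw : w ∈ bsub e F i) : H w (comp e i v) = H w v := by
  rw [h_swap K (comp e i v) w, h_swap K v w, h_comp K e i v hw]

theorem h_disjoint {i j : Fin t} (hij : i ≠ j) {v w : V} (hv : v ∈ bsub e F i) (hw : w ∈ bsub e F j) :
    H v w = 0 := by
  rw [← h_comp K e j v hw, comp_of_mem_ne e hij hv, h_zero_left K]

theorem mem_orth_of_comp {i : Fin t} {v : V} (h : comp e i v = 0) : v ∈ orth K (bsub e F i) :=
  fun w hw => by rw [← h_comp' K e i v hw, h, h_zero_right K]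

theorem nondeg_bsub (i : Fin t) : Nondeg (q := q) (bsub e F i) := fun x hx hx0 => by
  obtain ⟨s, hs⟩ := Function.ne_iff.1 hx0
  refine ⟨e[s], fun r hr => Pi.single_eq_of_ne (by rintro rfl; exact hs (hx r hr)) _, ?_⟩
  rwa [h_single K]

theorem h_add_add {i j : Fin t} (hij : i ≠ j) {v w : V} (hv : v ∈ bsub e F i) (hw : w ∈ bsub e F j) :
    H (v + w) (v + w) = H v v + H w w := by
  rw [h_add_left K, h_add_right K, h_add_right K, h_disjoint K e hij hv hw,
    h_disjoint K e hij.symm hw hv, add_zero, zero_add]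

/-- A single block is preserved by its transvections. -/
theorem bstab_T {i : Fin t} {v : V} (hv : v ∈ bsub e F i) {g : G} {c : F} (hT : IsT K g v c) :
    BStab e g := fun l => ⟨l, fun x hx => by
  rw [hT.2.2]
  rcases eq_or_ne i l with rfl | h
  · exact (bsub e F i).add_mem hx ((bsub e F i).smul_mem _ hv)
  · rw [h_disjoint K e h.symm hx hv, mul_zero, zero_smul, add_zero]; exact hx⟩

theorem exists_move_block {i l : Fin t} {x x' : V} (hx : x ∈ bsub e F i) (hx' : x' ∈ bsub e F i)
    (hx0 : x ≠ 0) (hx'0 : x' ≠ 0) (hn : H x x = H x' x') {p : V} (hp : p ∈ bsub e F l)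
    (hpp : H p p ≠ 0) (hpx : H p x' = 0) :
    ∃ g : G, BStab e g ∧ app g x = x' ∧ ∀ y, comp e i y = 0 → H y p = 0 → app g y = y := by
  obtain ⟨g, hgx, hgfix, hg⟩ := exists_move K (nondeg_bsub K e i) hx hx' hx0 hx'0 hn hpp hpx
  refine ⟨g, fun j => ⟨j, fun y hy => ?_⟩, hgx, fun y h1 h2 => hgfix y (mem_orth_of_comp K e h1) h2⟩
  rcases eq_or_ne j i with rfl | hji
  · obtain ⟨a, ha, c, hgy, hc⟩ := hg y
    rw [hgy]
    refine (bsub e F j).add_mem ((bsub e F j).add_mem hy ha) ?_
    rcases eq_or_ne l j with rfl | hlj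
    · exact (bsub e F l).smul_mem _ hp
    · rw [hc (h_disjoint K e hlj.symm hy hp) (fun u hu => h_disjoint K e hlj.symm hu hp), zero_smul]
      exact zero_mem _
  · obtain ⟨a, ha, c, hgy, hc⟩ := hg y
    have hcomp : comp e i y = 0 := comp_of_mem_ne e hji hy
    rcases eq_or_ne l j with rfl | hlj
    · -- the correcting vector lies in this block
      have hzero : ∀ u ∈ bsub e F i, H u p = 0 := fun u hu => h_disjoint K e hji.symm hu hp
      have h' : ∀ w ∈ bsub e F i, H w (app g y) = 0 := by
        intro w hw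
        obtain ⟨w', hw', hww⟩ : ∃ w' ∈ bsub e F i, app g w' = w := by
          have hmaps : ∀ u ∈ bsub e F i, app g u ∈ bsub e F i := fun u hu => by
            obtain ⟨a', ha', c', hgu, hc'⟩ := hg u
            rw [hgu, hc' (hzero u hu) hzero, zero_smul, add_zero]
            exact (bsub e F i).add_mem hu ha'
          exact exists_preimage (W := bsub e F i) hmaps hw
        rw [← hww, h_app]
        exact mem_orth_of_comp K e hcomp w' hw'
      have ha0 : a = 0 := by
        refine (Submodule.eq_bot_iff _).1 (isCompl_orth K (nondeg_bsub K e i)).inf_eq_bot _ ⟨ha, fun w hw => ?_⟩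
        have := h' w hw
        rwa [hgy, h_add_right K, h_add_right K, h_smul_right K, hzero w hw,
          mem_orth_of_comp K e hcomp w hw, mul_zero, zero_add, add_zero] at this
      rw [hgy, ha0, add_zero]
      exact (bsub e F l).add_mem hy ((bsub e F l).smul_mem _ hp)
    · rw [hgfix y (mem_orth_of_comp K e hcomp) (h_disjoint K e hlj.symm hy hp)]
      exact hy

/-- Moving a vector inside its block. -/
theorem exists_move_one {i : Fin t} {x x' : V} (hx : x ∈ bsub e F i) (hx' : x' ∈ bsub e F i)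
    (hx0 : x ≠ 0) (hx'0 : x' ≠ 0) (hn : H x x = H x' x') (hk : (2 ≤ k ∧ H x x ≠ 0) ∨ 3 ≤ k) :
    ∃ g : G, BStab e g ∧ app g x = x' ∧ ∀ y, comp e i y = 0 → app g y = y := by
  obtain ⟨p, hp, hpx, hpp⟩ := exists_aniso_orth_one K (nondeg_bsub K e i) hx'
    (by rw [finrank_bsub e i, ← hn]; exact hk)
  obtain ⟨g, hg, hgx, hfix⟩ := exists_move_block K e hx hx' hx0 hx'0 hn hp hpp hpx
  exact ⟨g, hg, hgx, fun y hy => hfix y hy (by rw [← h_comp K e i y hp, hy, h_zero_left K])⟩

/-- Moving the first component of a two-block vector. -/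
theorem exists_move_pair (hn' : 5 ≤ n) (hk2 : 2 ≤ k) {i j : Fin t} (hij : i ≠ j) {x x' y : V}
    (hx : x ∈ bsub e F i) (hx' : x' ∈ bsub e F i) (hy : y ∈ bsub e F j) (hx0 : x ≠ 0) (hx'0 : x' ≠ 0)
    (hn : H x x = H x' x') : ∃ g : G, BStab e g ∧ app g x = x' ∧ app g y = y := by
  by_cases h3 : ∃ l, l ≠ i ∧ l ≠ j
  · obtain ⟨l, hli, hlj⟩ := h3
    obtain ⟨p, hp, hpp⟩ := exists_aniso K (nondeg_bsub K e l) (fun h => by
      have := finrank_bsub (F := F) e l
      rw [h, finrank_bot] at this
      omega)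
    obtain ⟨g, hg, hgx, hfix⟩ := exists_move_block K e hx hx' hx0 hx'0 hn hp hpp (h_disjoint K e hli hp hx')
    exact ⟨g, hg, hgx, hfix y (comp_of_mem_ne e hij.symm hy) (h_disjoint K e hlj.symm hy hp)⟩
  · push Not at h3
    have ht : t ≤ 2 := by
      have : Finset.univ ⊆ ({i, j} : Finset (Fin t)) := fun l _ => by
        rcases eq_or_ne l i with rfl | h
        · simp
        · simp [h3 l h]
      simpa using (Finset.card_le_card this).trans Finset.card_le_two
    have hnk : n = t * k := by simpa using Fintype.card_congr e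
    have hk3 : 3 ≤ k := by
      by_contra hc
      have := Nat.mul_le_mul ht (show k ≤ 2 by omega)
      omega
    obtain ⟨g, hg, hgx, hfix⟩ := exists_move_one K e hx hx' hx0 hx'0 hn (Or.inr hk3)
    exact ⟨g, hg, hgx, hfix y (comp_of_mem_ne e hij.symm hy)⟩

theorem exists_perm (hn : 5 ≤ n) {i j i' j' : Fin t} (hij : i ≠ j) (hij' : i' ≠ j') :
    ∃ g : G, BStab e g ∧ (∀ v ∈ bsub e F i, app g v ∈ bsub e F i') ∧
      ∀ v ∈ bsub e F j, app g v ∈ bsub e F j' := by
  classical
  set π := Equiv.swap (Equiv.swap i i' j) j' * Equiv.swap i i'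
  have hm : Equiv.swap i i' j ≠ i' := fun h =>
    hij ((Equiv.swap i i').injective (by rw [Equiv.swap_apply_left, h]))
  have e1 : π i = i' := by
    rw [Equiv.Perm.mul_apply, Equiv.swap_apply_left, Equiv.swap_apply_of_ne_of_ne hm.symm hij']
  have e2 : π j = j' := by rw [Equiv.Perm.mul_apply, Equiv.swap_apply_left]
  let σ : Equiv.Perm (Fin n) := e.trans ((π.prodCongr (Equiv.refl _)).trans e.symm)
  set b : Fin n := ⟨0, by omega⟩
  have hs : Circ K (((Equiv.Perm.sign σ : ℤ) : F)) := by
    rcases Int.units_eq_one_or (Equiv.Perm.sign σ) with h | h <;> rw [h] <;> simp [Circ]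
  obtain ⟨g, -, hg⟩ := exists_mon K σ (Function.update (fun _ => 1) b ((Equiv.Perm.sign σ : ℤ) : F)⁻¹)
    (fun s => by rw [Function.update_apply]; split_ifs <;> first | exact hs.inv | exact circ_one K) (by
      rw [Finset.prod_update_of_mem (Finset.mem_univ b), Finset.prod_const_one, mul_one]
      exact mul_inv_cancel₀ hs.ne_zero)
  have hmap : ∀ a, ∀ v ∈ bsub e F a, app g v ∈ bsub e F (π a) := by
    intro a v hv r hr
    obtain ⟨s, rfl⟩ := σ.surjective r
    rw [hg, hv s, mul_zero]
    intro h
    exact hr (by simp [σ, h])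
  exact ⟨g, fun a => ⟨π a, hmap a⟩, fun v hv => e1 ▸ hmap i v hv, fun v hv => e2 ▸ hmap j v hv⟩

variable {M : Subgroup (SU n F q)}

theorem block_centre (hM : ∀ g, BStab e g → g ∈ M) {i : Fin t} {v : V} (hv : v ∈ bsub e F i)
    (hvv : H v v = 0) : v ∈ centres K M :=
  ⟨hvv, fun _ _ hT => hM _ (bstab_T K e hv hT)⟩

/-- All isotropic vectors of two blocks are centres. -/
def FullPair (M : Subgroup G) (i j : Fin t) : Prop :=
  ∀ x ∈ bsub e F i, ∀ y ∈ bsub e F j, hermForm n F q x x + hermForm n F q y y = 0 →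
    x + y ∈ centres K M

theorem fullPair_of_iso (hn : 5 ≤ n) (hk : 2 ≤ k) (hM : ∀ g, BStab e g → g ∈ M) {i j : Fin t}
    (hij : i ≠ j) {a b : V} (ha : a ∈ bsub e F i) (hb : b ∈ bsub e F j) (ha0 : a ≠ 0) (hb0 : b ≠ 0)
    (haa : H a a = 0) (hbb : H b b = 0) (hab : a + b ∈ centres K M) : FullPair K e M i j := by
  -- moving both components
  have move : ∀ a b a' b' : V, a ∈ bsub e F i → b ∈ bsub e F j → a' ∈ bsub e F i → b' ∈ bsub e F j →
      a ≠ 0 → b ≠ 0 → a' ≠ 0 → b' ≠ 0 → H a a = H a' a' → H b b = H b' b' → a + b ∈ centres K M →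
      a' + b' ∈ centres K M := by
    intro a b a' b' ha hb ha' hb' ha0 hb0 ha'0 hb'0 hna hnb hab
    obtain ⟨g, hg, hga, hgb⟩ := exists_move_pair K e hn hk hij ha ha' hb ha0 ha'0 hna
    obtain ⟨g', hg', hgb', hga'⟩ := exists_move_pair K e hn hk hij.symm hb hb' ha' hb0 hb'0 hnb
    have := app_mem_centres K (hM _ hg') (app_mem_centres K (hM _ hg) hab)
    rwa [app_add, hga, hgb, app_add, hga', hgb'] at this
  have iso : ∀ x ∈ bsub e F i, ∀ y ∈ bsub e F j, H x x = 0 → H y y = 0 → x + y ∈ centres K M := by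
    intro x hx y hy hxx hyy
    rcases eq_or_ne x 0 with rfl | hx0
    · rw [zero_add]; exact block_centre K e hM hy hyy
    rcases eq_or_ne y 0 with rfl | hy0
    · rw [add_zero]; exact block_centre K e hM hx hxx
    exact move a b x y ha hb hx hy ha0 hb0 hx0 hy0 (haa.trans hxx.symm) (hbb.trans hyy.symm) hab
  obtain ⟨f, hf, hff, hfa, -⟩ := exists_iso_partner K (nondeg_bsub K e i) ha ha0 haa
  obtain ⟨f', hf', hf'f', hf'b, -⟩ := exists_iso_partner K (nondeg_bsub K e j) hb hb0 hbb
  obtain ⟨w, hw⟩ := K.exists_moved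
  have hu := iso f hf (w • f') ((bsub e F j).smul_mem _ hf') hff
    (by rw [h_smul_left K, h_smul_right K, hf'f', mul_zero, mul_zero])
  obtain ⟨θ, hθ0, hθ⟩ := exists_skew K
  obtain ⟨T, hT⟩ := exists_T K hab.1 hθ
  have hu' := app_mem_centres K (hab.2 T θ hT) hu
  have hS : H (f + w • f') (a + b) = 1 + w := by
    rw [h_add_left K, h_add_right K, h_add_right K, h_smul_left K, h_smul_left K, hfa, hf'b,
      h_disjoint K e hij hf hb, h_disjoint K e hij.symm hf' ha]
    ring
  rw [hT.2.2, hS, smul_add, add_add_add_comm] at hu'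
  set x₀ := f + (θ * (1 + w)) • a
  set y₀ := w • f' + (θ * (1 + w)) • b
  have hx₀ : x₀ ∈ bsub e F i := (bsub e F i).add_mem hf ((bsub e F i).smul_mem _ ha)
  have hy₀ : y₀ ∈ bsub e F j :=
    (bsub e F j).add_mem ((bsub e F j).smul_mem _ hf') ((bsub e F j).smul_mem _ hb)
  have hxy₀ : H x₀ x₀ + H y₀ y₀ = 0 := by
    have := hu'.1
    rwa [h_add_add K e hij hx₀ hy₀] at this
  have hne : H x₀ x₀ ≠ 0 := by
    simp only [x₀, h_add_left K, h_add_right K, h_smul_left K, h_smul_right K, hff, haa, hfa,
      h_swap K f a, map_one, mul_zero, add_zero, zero_add, mul_one]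
    intro h0
    refine hw ?_
    rw [map_mul, map_add, map_one] at h0
    have : θ * (w - K.bar w) = 0 := by linear_combination h0 - (1 + K.bar w) * hθ
    exact (sub_eq_zero.1 ((mul_eq_zero.1 this).resolve_left hθ0)).symm
  have hne' : H y₀ y₀ ≠ 0 := fun h => hne (by rw [h, add_zero] at hxy₀; exact hxy₀)
  intro x hx y hy hxy
  by_cases hxx : H x x = 0
  · exact iso x hx y hy hxx (by rwa [hxx, zero_add] at hxy)
  have hyy : H y y ≠ 0 := fun h => hxx (by rwa [h, add_zero] at hxy)
  obtain ⟨c, hc⟩ := K.exists_norm (H x x / H x₀ x₀) (by rw [map_div₀, bar_self K, bar_self K])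
  have hcx : H x x = H (c • x₀) (c • x₀) := by
    rw [h_smul_left K, h_smul_right K, ← mul_assoc, hc, div_mul_cancel₀ _ hne]
  have hcy : H y y = H (c • y₀) (c • y₀) := by
    rw [h_smul_left K, h_smul_right K, ← mul_assoc, hc]
    rw [h_smul_left K, h_smul_right K, ← mul_assoc, hc] at hcx
    linear_combination hxy - hcx - (H x x / H x₀ x₀) * hxy₀
  refine move (c • x₀) (c • y₀) x y ((bsub e F i).smul_mem _ hx₀) ((bsub e F j).smul_mem _ hy₀) hx hy
    (ne_zero_of_h K (hcx ▸ hxx)) (ne_zero_of_h K (hcy ▸ hyy)) (ne_zero_of_h K hxx) (ne_zero_of_h K hyy)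
    hcx.symm hcy.symm ?_
  rw [← smul_add]
  exact smul_mem_centres K c hu'

theorem fullPair_all (hn : 5 ≤ n) (hM : ∀ g, BStab e g → g ∈ M) {i j : Fin t} (hij : i ≠ j)
    (h : FullPair K e M i j) {i' j' : Fin t} (hij' : i' ≠ j') : FullPair K e M i' j' := by
  intro x hx y hy hxy
  obtain ⟨g, hg, hgi, hgj⟩ := exists_perm K e hn hij' hij
  have h' := h _ (hgi x hx) _ (hgj y hy) (by rw [h_app, h_app]; exact hxy)
  rw [← app_add] at h'
  have := app_mem_centres K (M.inv_mem (hM g hg)) h'
  rwa [app_inv] at this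

theorem sub_isotropic {U : Submodule F V} {x v : V} (_ : x ∈ U) (hn : H x x = H v v)
    (hd : H x v - H v v + K.bar (H x v - H v v) = 0) : H (x - v) (x - v) = 0 := by
  rw [map_sub, bar_self K] at hd
  rw [h_sub_left K, h_sub_right K, h_sub_right K, h_swap K x v, hn]
  linear_combination -hd

/-- From a centre meeting two blocks, an isotropic pair. -/
theorem exists_iso_pair (hk : 2 ≤ k) (hex : q = 2 → 3 ≤ k) (hM : ∀ g, BStab e g → g ∈ M) {v : V}
    (hv : v ∈ centres K M) {i j : Fin t} (hij : i ≠ j) (hi : comp e i v ≠ 0) (hj : comp e j v ≠ 0) :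
    ∃ a ∈ bsub e F i, ∃ b ∈ bsub e F j, a ≠ 0 ∧ b ≠ 0 ∧ H a a = 0 ∧ H b b = 0 ∧ a + b ∈ centres K M := by
  suffices ∃ v' ∈ centres K M, ∃ a ∈ bsub e F i, ∃ b ∈ bsub e F j, a ≠ 0 ∧ b ≠ 0 ∧ H a a = 0 ∧
      H b b = 0 ∧ v' = v + a + b ∧ H v' v ≠ 0 by
    obtain ⟨v', hv', a, ha, b, hb, ha0, hb0, haa, hbb, he, hne⟩ := this
    have h2 : H (a + b) (a + b) = 0 := by
      rw [h_add_left K, h_add_right K, h_add_right K, haa, hbb, h_disjoint K e hij ha hb,
        h_disjoint K e hij.symm hb ha]; ring
    have hskew : H v' v + K.bar (H v' v) = 0 := by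
      have h' := hv'.1
      rw [he, add_assoc] at h'
      rw [h_add_left K, h_add_right K v v (a + b), h_add_right K (a + b) v (a + b), hv.1, h2,
        h_swap K (a + b) v] at h'
      rw [he, add_assoc, h_add_left K, hv.1, zero_add]
      linear_combination h'
    obtain ⟨T, hT⟩ := exists_T K hv.1 (c := -(H v' v)⁻¹) (by
      rw [map_neg, map_inv₀, show K.bar (H v' v) = -H v' v by linear_combination hskew, inv_neg]; ring)
    refine ⟨a, ha, b, hb, ha0, hb0, haa, hbb, ?_⟩
    have := app_mem_centres K (hv.2 T _ hT) hv'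
    rw [hT.2.2, neg_mul, inv_mul_cancel₀ hne, he, neg_one_smul] at this
    convert this using 1
    abel
  rcases eq_or_lt_of_le K.two_le with hq | hq
  · have hk3 := hex hq.symm
    have h2 := two_eq_zero K hq.symm
    have hN : ∀ x : V, H x x = 0 ∨ H x x = 1 := fun x => by
      by_cases h0 : H x x = 0
      · exact Or.inl h0
      right
      have hb : H x x ^ 2 = H x x := by
        have h := bar_self K x
        rw [K.bar_apply] at h
        convert h
      exact mul_left_cancel₀ h0 (by linear_combination hb)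
    set vi := comp e i v with hvi
    set vj := comp e j v with hvj
    have hviU := comp_mem e i v
    have hvjU := comp_mem e j v
    rw [← hvi] at hviU
    rw [← hvj] at hvjU
    obtain ⟨x, hx, hxx, hxv⟩ : ∃ x ∈ bsub e F i, H x x = H vi vi ∧ H x vi = H vi vi + 1 := by
      rcases hN vi with h | h
      · obtain ⟨f, hf, hff, hfv, -⟩ := exists_iso_partner K (nondeg_bsub K e i) hviU hi h
        exact ⟨f, hf, by rw [hff, h], by rw [hfv, h, zero_add]⟩
      · exact exists_prescribed_norm K (nondeg_bsub K e i) (by rw [finrank_bsub e i]; omega) hviU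
          (by rw [h]; exact one_ne_zero) (bar_self K vi) _
    obtain ⟨y, hy, hyy, hyv, hyne, hy0⟩ : ∃ y ∈ bsub e F j, H y y = H vj vj ∧ H y vj = H vj vj ∧
        y ≠ vj ∧ y ≠ 0 := by
      rcases hN vj with h | h
      · obtain ⟨ω, hω, hω3⟩ := exists_omega K hq.symm
        refine ⟨ω • vj, (bsub e F j).smul_mem _ hvjU, ?_, ?_, fun e' => ?_,
          smul_ne_zero (fun h0 => by simp [h0] at hω) hj⟩
        · rw [h_smul_left K, h_smul_right K, h, mul_zero, mul_zero]
        · rw [h_smul_left K, h, mul_zero]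
        · have : (ω - 1) • vj = 0 := by rw [sub_smul, one_smul, e', sub_self]
          have hω1 := sub_eq_zero.1 ((smul_eq_zero.1 this).resolve_right hj)
          rw [hω1] at hω
          exact one_ne_zero (α := F) (by linear_combination hω - h2)
      · have hP : Nondeg (q := q) (Submodule.span F {vj}) := fun z hz hz0 => by
          obtain ⟨c, rfl⟩ := Submodule.mem_span_singleton.1 hz
          refine ⟨vj, Submodule.mem_span_singleton_self _, ?_⟩
          rw [h_smul_left K, h, mul_one]
          exact fun e' => hz0 (by rw [e', zero_smul])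
        have hd2 : 2 ≤ Module.finrank F (bsub e F j ⊓ orth K (Submodule.span F {vj}) : Submodule F V) := by
          have := finrank_inf_orth_le K (bsub e F j) 1 ![vj]
          rw [finrank_bsub e j, Matrix.range_cons, Matrix.range_empty, Set.union_empty] at this
          omega
        obtain ⟨d, hd, hd0, hdd⟩ := exists_isotropic_ne K hd2
        have hdv : H vj d = 0 := hd.2 vj (Submodule.mem_span_singleton_self _)
        refine ⟨vj + d, (bsub e F j).add_mem hvjU hd.1, ?_, ?_, fun e' => hd0 (by simpa using e'),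
          fun e' => one_ne_zero (α := F) (by
            have : H (vj + d) vj = 1 := by rw [h_add_left K, h_eq_zero_symm K hdv, h, add_zero]
            rw [← this, e', h_zero_left K])⟩
        · rw [h_add_left K, h_add_right K, h_add_right K, hdv, h_eq_zero_symm K hdv, hdd]; ring
        · rw [h_add_left K, h_eq_zero_symm K hdv, add_zero]
    have hxne : x ≠ vi := fun e' => one_ne_zero (α := F) (by rw [e'] at hxv; linear_combination -hxv)
    have hx0 : x ≠ 0 := fun e' => by
      rw [e', h_zero_left K] at hxx hxv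
      exact one_ne_zero (α := F) (by linear_combination hxx - hxv)
    obtain ⟨g, hg, hgx, hgf⟩ := exists_move_one K e hviU hx hi hx0 hxx.symm (Or.inr hk3)
    obtain ⟨g', hg', hgy, hgf'⟩ := exists_move_one K e hvjU hy hj hy0 hyy.symm (Or.inr hk3)
    have hgv : app g v = v + (x - vi) := by
      have h0 : comp e i (v - vi) = 0 := by rw [comp_sub, comp_of_mem e hviU, hvi, sub_self]
      conv_lhs => rw [← add_sub_cancel vi v, app_add, hgx, hgf _ h0]
      abel
    have hgv' : app g' (app g v) = v + (x - vi) + (y - vj) := by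
      have h0 : comp e j (v + (x - vi) - vj) = 0 := by
        rw [comp_sub, comp_add, comp_sub, comp_of_mem e hvjU, comp_of_mem_ne e hij hx,
          comp_of_mem_ne e hij hviU, ← hvj]
        simp
      rw [hgv]
      conv_lhs => rw [← add_sub_cancel vj (v + (x - vi)), app_add, hgy, hgf' _ h0]
      abel
    refine ⟨_, app_mem_centres K (hM _ hg') (app_mem_centres K (hM _ hg) hv), x - vi,
      (bsub e F i).sub_mem hx hviU, y - vj, (bsub e F j).sub_mem hy hvjU, sub_ne_zero.2 hxne,
      sub_ne_zero.2 hyne, sub_isotropic K hx hxx ?_, sub_isotropic K hy hyy ?_, hgv', ?_⟩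
    · rw [hxv, add_sub_cancel_left, map_one]; linear_combination h2
    · rw [hyv, sub_self, map_zero, add_zero]
    · rw [hgv', h_add_left K, h_add_left K, hv.1, zero_add,
        ← h_comp' K e i v ((bsub e F i).sub_mem hx hviU), ← h_comp' K e j v ((bsub e F j).sub_mem hy hvjU),
        ← hvi, ← hvj, h_sub_left K, h_sub_left K, hxv, hyv]
      intro e'
      exact one_ne_zero (α := F) (by linear_combination e')
  · have hne : ∀ l, comp e l v ≠ 0 → ∃ a ∈ bsub e F l, H a a = 0 ∧ H a v ≠ 0 := fun l hl => by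
      refine exists_iso_pairing K (nondeg_bsub K e l) (by rw [finrank_bsub e l]; exact hk) ?_
      obtain ⟨y, hy, h⟩ := nondeg_bsub K e l _ (comp_mem e l v) hl
      exact ⟨y, hy, fun h' => h (by rw [h_comp K e l v hy]; exact h_eq_zero_symm K h')⟩
    obtain ⟨a, ha, haa, hav⟩ := hne i hi
    obtain ⟨b, hb, hbb, hbv⟩ := hne j hj
    obtain ⟨θ, hθ0, hθ⟩ := exists_skew K
    obtain ⟨c₁, c₂, hc₁, hc₂, hc₁0, hc₂0, hcc⟩ := exists_two_skew K hq
    have hNa := norm_ne_zero K hav
    have hNb := norm_ne_zero K hbv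
    obtain ⟨c, hc, hc0, hsum⟩ : ∃ c : F, c + K.bar c = 0 ∧ c ≠ 0 ∧
        c * (H a v * K.bar (H a v)) + θ * (H b v * K.bar (H b v)) ≠ 0 := by
      by_contra hc'
      push Not at hc'
      exact hcc (mul_right_cancel₀ hNa (by linear_combination hc' c₁ hc₁ hc₁0 - hc' c₂ hc₂ hc₂0))
    obtain ⟨Ta, hTa⟩ := exists_T K haa hc
    obtain ⟨Tb, hTb⟩ := exists_T K hbb hθ
    have h1 := app_mem_centres K (hM _ (bstab_T K e hb hTb))
      (app_mem_centres K (hM _ (bstab_T K e ha hTa)) hv)
    have hva : H v a = K.bar (H a v) := h_swap K a v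
    have hvb : H v b = K.bar (H b v) := h_swap K b v
    have e1 : app Tb (app Ta v) = v + (c * H v a) • a + (θ * H v b) • b := by
      rw [hTa.2.2, hTb.2.2, h_add_left K, h_smul_left K, h_disjoint K e hij ha hb, mul_zero, add_zero]
    refine ⟨_, h1, (c * H v a) • a, (bsub e F i).smul_mem _ ha, (θ * H v b) • b,
      (bsub e F j).smul_mem _ hb, smul_ne_zero (mul_ne_zero hc0 (h_ne_zero_symm K hav)) (ne_zero_of_h K hav),
      smul_ne_zero (mul_ne_zero hθ0 (h_ne_zero_symm K hbv)) (ne_zero_of_h K hbv),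
      by rw [h_smul_left K, h_smul_right K, haa, mul_zero, mul_zero],
      by rw [h_smul_left K, h_smul_right K, hbb, mul_zero, mul_zero], e1, ?_⟩
    rw [e1, h_add_left K, h_add_left K, h_smul_left K, h_smul_left K, hv.1, hva, hvb]
    intro e'
    exact hsum (by linear_combination e')

/-- The stabiliser of the blocks is maximal. -/
theorem blocks_le_or_top (hn : 5 ≤ n) (hk : 2 ≤ k) (hex : q = 2 → 3 ≤ k)
    (hM : ∀ g, BStab e g → g ∈ M) : M = ⊤ ∨ ∀ g ∈ M, BStab e g := by
  classical
  by_cases hmix : ∃ v ∈ centres K M, ∃ i j, i ≠ j ∧ comp e i v ≠ 0 ∧ comp e j v ≠ 0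
  · left
    obtain ⟨v, hv, i, j, hij, hi, hj⟩ := hmix
    obtain ⟨a, ha, b, hb, ha0, hb0, haa, hbb, hab⟩ := exists_iso_pair K e hk hex hM hv hij hi hj
    have hfull : ∀ i' j', i' ≠ j' → FullPair K e M i' j' := fun i' j' h =>
      fullPair_all K e hn hM hij (fullPair_of_iso K e hn hk hM hij ha hb ha0 hb0 haa hbb hab) h
    refine eq_top_of_centres K (by omega) fun x hx => ?_
    suffices key : ∀ p, ∀ x : V, H x x = 0 → (Finset.univ.filter fun l => comp e l x ≠ 0).card = p →
        x ∈ centres K M from key _ x hx rfl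
    intro p
    induction p using Nat.strong_induction_on with
    | _ p ih =>
    intro x hx hxp
    set S := Finset.univ.filter fun l => comp e l x ≠ 0 with hS
    by_cases h0 : S.card = 0
    · rw [Finset.card_eq_zero] at h0
      refine block_centre K e hM (i := i) (mem_of_comp e fun l _ => ?_) hx
      by_contra hl
      exact Finset.notMem_empty l (h0 ▸ Finset.mem_filter.2 ⟨Finset.mem_univ _, hl⟩)
    obtain ⟨l, hl, hlprio⟩ : ∃ l ∈ S, H (comp e l x) (comp e l x) ≠ 0 ∨
        ∀ r ∈ S, H (comp e r x) (comp e r x) = 0 := by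
      by_cases h : ∃ l ∈ S, H (comp e l x) (comp e l x) ≠ 0
      · obtain ⟨l, hl, h⟩ := h
        exact ⟨l, hl, Or.inl h⟩
      · push Not at h
        obtain ⟨l, hl⟩ := Finset.card_pos.1 (show 0 < S.card by omega)
        exact ⟨l, hl, Or.inr h⟩
    by_cases h1 : S.card = 1
    · obtain ⟨a', ha'⟩ := Finset.card_eq_one.1 h1
      refine block_centre K e hM (i := a') (mem_of_comp e fun r hr => ?_) hx
      by_contra hr'
      exact hr (Finset.mem_singleton.1 (ha' ▸ Finset.mem_filter.2 ⟨Finset.mem_univ _, hr'⟩))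
    obtain ⟨r, hr, hrl⟩ : ∃ r ∈ S, r ≠ l := Finset.exists_mem_ne (by omega) l
    set xl := comp e l x with hxl'
    set xr := comp e r x with hxr'
    have hxl : xl ∈ bsub e F l := comp_mem e l x
    have hxr : xr ∈ bsub e F r := comp_mem e r x
    have hl0 : xl ≠ 0 := (Finset.mem_filter.1 hl).2
    obtain ⟨θ, hθ0, hθ⟩ := exists_skew K
    set s := H xl xl + H xr xr with hs
    have hsb : K.bar s = s := by rw [hs, map_add, bar_self K, bar_self K]
    obtain ⟨x', hx', hx's, hx'l⟩ : ∃ x' ∈ bsub e F l, H x' x' = s ∧ H x' xl = s + θ := by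
      rcases hlprio with h | h
      · exact exists_prescribed_norm K (nondeg_bsub K e l) (by rw [finrank_bsub e l]; exact hk) hxl h hsb _
      · obtain ⟨f, hf, hff, hfl, -⟩ := exists_iso_partner K (nondeg_bsub K e l) hxl hl0 (h l hl)
        have hs0 : s = 0 := by rw [hs, hxl', hxr', h l hl, h r hr, add_zero]
        exact ⟨θ • f, (bsub e F l).smul_mem _ hf,
          by rw [h_smul_left K, h_smul_right K, hff, mul_zero, mul_zero, hs0],
          by rw [h_smul_left K, hfl, hs0, mul_one, zero_add]⟩
    set u := x - xl - xr + x'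
    set w := (xl - x') + xr
    have hcl : comp e l u = x' := by
      simp only [u, comp_add, comp_sub, comp_of_mem e hxl, comp_of_mem e hx',
        comp_of_mem_ne e hrl hxr, ← hxl']
      abel
    have hcr : comp e r u = 0 := by
      simp only [u, comp_add, comp_sub, comp_of_mem e hxr, comp_of_mem_ne e hrl.symm hxl,
        comp_of_mem_ne e hrl.symm hx', ← hxr']
      abel
    have hxl_x' : H xl x' = s - θ := by
      rw [h_swap K x' xl, hx'l, map_add, hsb]; linear_combination hθ
    have hw : w ∈ centres K M := hfull l r hrl.symm _ ((bsub e F l).sub_mem hxl hx') _ hxr (by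
      rw [h_sub_left K, h_sub_right K, h_sub_right K, hx'l, hxl_x', hx's]
      linear_combination hs)
    have huw : H u w = θ := by
      simp only [w]
      rw [h_add_right K, ← h_comp K e l u ((bsub e F l).sub_mem hxl hx'), ← h_comp K e r u hxr, hcl, hcr,
        h_zero_left K, h_sub_right K, hx'l, hx's]
      ring
    obtain ⟨T, hT⟩ := exists_T K hw.1 (c := θ⁻¹) (by
      rw [map_inv₀, show K.bar θ = -θ by linear_combination hθ, inv_neg]; ring)
    have hTu : app T u = x := by
      rw [hT.2.2, huw, inv_mul_cancel₀ hθ0, one_smul]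
      simp only [u, w]; abel
    rw [← hTu]
    refine app_mem_centres K (hw.2 T _ hT) (ih _ ?_ u ?_ rfl)
    · rw [← hxp]
      refine Finset.card_lt_card ⟨fun a' ha' => ?_, fun hle => ?_⟩
      · rw [Finset.mem_filter] at ha' ⊢
        refine ⟨Finset.mem_univ _, fun h => ha'.2 ?_⟩
        rcases eq_or_ne a' l with rfl | hal
        · exact absurd h hl0
        rcases eq_or_ne a' r with rfl | har
        · exact hcr
        simp only [u, comp_add, comp_sub, h, comp_of_mem_ne e hal.symm hxl,
          comp_of_mem_ne e har.symm hxr, comp_of_mem_ne e hal.symm hx']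
        abel
      · exact (Finset.mem_filter.1 (hle hr)).2 hcr
    · rw [← h_app T, hTu]; exact hx
  · right
    push Not at hmix
    intro g hg a'
    have himg : ∀ v ∈ bsub e F a', H v v = 0 → ∃ l, app g v ∈ bsub e F l := fun v hv hvv => by
      have hc := app_mem_centres K hg (block_centre K e hM hv hvv)
      by_cases h0 : ∃ l, comp e l (app g v) ≠ 0
      · obtain ⟨l, hl⟩ := h0
        exact ⟨l, mem_of_comp e fun r hr => by_contra fun hr' => hl (hmix _ hc r l hr hr')⟩
      · push Not at h0
        exact ⟨a', mem_of_comp e fun r _ => h0 r⟩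
    -- one block for all isotropic vectors
    by_cases hall : ∀ v ∈ bsub e F a', H v v = 0 → v = 0
    · exfalso
      obtain ⟨y, hy, hy0, hyy⟩ := exists_isotropic_ne K (P := bsub e F a') (by rw [finrank_bsub e a']; exact hk)
      exact hy0 (hall y hy hyy)
    push Not at hall
    obtain ⟨v₀, hv₀, hv₀0, hv₀v₀⟩ : ∃ v₀ ∈ bsub e F a', v₀ ≠ 0 ∧ H v₀ v₀ = 0 := by
      obtain ⟨v, h1, h2, h3⟩ := hall; exact ⟨v, h1, h3, h2⟩
    obtain ⟨l, hl⟩ := himg v₀ hv₀ hv₀v₀
    refine ⟨l, fun v hv => ?_⟩
    have key : ∀ v ∈ bsub e F a', H v v = 0 → app g v ∈ bsub e F l := by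
      intro v hv hvv
      obtain ⟨r, hr⟩ := himg v hv hvv
      rcases eq_or_ne r l with rfl | hrl
      · exact hr
      have h0 : H v v₀ = 0 := by rw [← h_app g, h_disjoint K e hrl hr hl]
      obtain ⟨r', hr'⟩ := himg (v + v₀) ((bsub e F a').add_mem hv hv₀) (by
        rw [h_add_left K, h_add_right K, h_add_right K, hvv, hv₀v₀, h0, h_eq_zero_symm K h0]; ring)
      rw [app_add] at hr'
      have hl0 : app g v₀ ≠ 0 := fun h => hv₀0 (app_injective g (h.trans (app_zero g).symm))
      have hr'l : r' = l := by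
        by_contra hne
        have h1 := congrArg (comp e l) (comp_of_mem e hr')
        rw [comp_of_mem_ne e hne (comp_mem e r' _), comp_add, comp_of_mem_ne e hrl hr, comp_of_mem e hl,
          zero_add] at h1
        exact hl0 h1.symm
      subst hr'l
      exact ((bsub e F r').add_mem_iff_left hl).1 hr'
    by_contra hnot
    obtain ⟨u, -, hu1⟩ := exists_orth_one K hnot
    exact hnot (by
      by_cases hvv : H v v = 0
      · exact key v hv hvv
      obtain ⟨p, hp, hpv, hpp⟩ := exists_aniso_orth_one K (nondeg_bsub K e a') hv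
        (Or.inl ⟨by rw [finrank_bsub e a']; exact hk, hvv⟩)
      obtain ⟨c, hc, hcc⟩ := exists_scaled K hp hpp (s := -(H v v)) (by rw [map_neg, bar_self K])
      have iso : ∀ ζ : F, Circ K ζ → app g (v + ζ • (c • p)) ∈ bsub e F l := fun ζ hζ => by
        have hζ' : ζ * K.bar ζ = 1 := hζ
        refine key _ ((bsub e F a').add_mem hv ((bsub e F a').smul_mem _ hc)) ?_
        have e1 : H v (c • p) = 0 := by rw [h_smul_right K, h_eq_zero_symm K hpv, mul_zero]
        simp only [h_add_left K, h_add_right K, h_smul_left K ζ, h_smul_right K ζ, hcc, e1,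
          h_eq_zero_symm K e1, mul_zero, add_zero, zero_add]
        linear_combination -(H v v) * hζ'
      obtain ⟨ζ, hζ, hζ1⟩ := exists_circ_ne_one K
      have h1 := iso 1 (circ_one K)
      have h2 := iso ζ hζ
      rw [one_smul] at h1
      have h3 : app g (c • p) ∈ bsub e F l := by
        have h4 := (bsub e F l).smul_mem (1 - ζ)⁻¹ ((bsub e F l).sub_mem h1 h2)
        rwa [← app_sub, ← app_smul, show (v + c • p) - (v + ζ • (c • p)) = (1 - ζ) • (c • p) by module,
          smul_smul, inv_mul_cancel₀ (sub_ne_zero.2 (Ne.symm hζ1)), one_smul] at h4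
      rw [app_add] at h1
      exact ((bsub e F l).add_mem_iff_left h3).1 h1)

end CfsgLib.Classical.HermDecompMax
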