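import Cfsg.Agent.Lib.Classical.UnitaryDecompMax.SixZero

set_option autoImplicit false
set_option linter.unusedSectionVars false

/-!
The monomial subgroup of `SU_6(q)` is maximal for `q ≥ 3`: monomial conjugates of double transpositions
produce a matrix with a zero entry.
-/

namespace CfsgLib.Classical.HermDecompMax

open Matrix Cfsg CfsgLib.Classical.Herm
open CfsgLib.ClassicalAut (Unitary.Conj Unitary.space Unitary.herm_apply)

variable {F : Type*} [Field F] [Finite F] {q : ℕ} (K : Unitary.Conj F q)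

local notation "H" => hermForm 6 F q
local notation "V" => (Fin 6 → F)
local notation "G" => SU 6 F q
local notation "e[" s "]" => (Pi.single s 1 : Fin 6 → F)

variable {M : Subgroup (SU 6 F q)}

/-- Two pairs of inverse scalars and two ones, placed through `π`. -/
def pat (π : Equiv.Perm (Fin 6)) (α β : F) : Fin 6 → F := fun s => ![α, α⁻¹, β, β⁻¹, 1, 1] (π s)

/-- The double transposition of the first two pairs. -/
def dperm : Equiv.Perm (Fin 6) := Equiv.swap 0 1 * Equiv.swap 2 3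

/-- The double transposition of the first two pairs, placed through `π`. -/
def dswap (π : Equiv.Perm (Fin 6)) : Equiv.Perm (Fin 6) := (π.trans dperm).trans π.symm

/-- The diagonal elements whose conjugate by `g` is monomial. -/
def Good (g : G) (z : Fin 6 → F) : Prop :=
  ∃ d : G, (∀ x s, app d x s = z s * x s) ∧ Mon (g * d * g⁻¹)

theorem dswap_dswap (π : Equiv.Perm (Fin 6)) (s : Fin 6) : dswap π (dswap π s) = s := by
  have h : ∀ k : Fin 6, dperm (dperm k) = k := by decide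
  simp only [dswap, Equiv.trans_apply, Equiv.apply_symm_apply, h, Equiv.symm_apply_apply]

theorem sign_dswap (π : Equiv.Perm (Fin 6)) : Equiv.Perm.sign (dswap π) = 1 := by
  have h : Equiv.Perm.sign dperm = 1 := by decide
  rw [dswap, Equiv.Perm.sign_trans, Equiv.Perm.sign_trans, Equiv.Perm.sign_symm, h, one_mul,
    Int.units_mul_self]

theorem pat_dswap (π : Equiv.Perm (Fin 6)) (α β : F) (s : Fin 6) :
    pat π α β (dswap π s) = pat π α⁻¹ β⁻¹ s := by
  simp only [pat, dswap, Equiv.trans_apply, Equiv.apply_symm_apply, inv_inv]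
  generalize π s = k
  fin_cases k <;> simp [dperm, Equiv.swap_apply_def]

theorem pat_mul (π : Equiv.Perm (Fin 6)) (α β α' β' : F) (s : Fin 6) :
    pat π α β s * pat π α' β' s = pat π (α * α') (β * β') s := by
  simp only [pat]
  generalize π s = k
  fin_cases k <;> simp [mul_comm]

theorem six_cycle_back : ∀ σ : Equiv.Perm (Fin 6), (∀ a, σ a ≠ a) → (∀ a, σ (σ a) ≠ a) →
    (∀ a, σ (σ (σ a)) ≠ a) → σ (σ (σ (σ (σ (σ 0))))) = 0 := by
  decide +kernel

include K

theorem circ_pat (π : Equiv.Perm (Fin 6)) {α β : F} (hα : Circ K α) (hβ : Circ K β) (s : Fin 6) :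
    Circ K (pat π α β s) := by
  simp only [pat]
  generalize π s = k
  fin_cases k <;> simp <;> first | exact hα | exact hα.inv | exact hβ | exact hβ.inv | exact circ_one K

theorem prod_pat (π : Equiv.Perm (Fin 6)) {α β : F} (hα : Circ K α) (hβ : Circ K β) :
    ∏ s, pat π α β s = 1 := by
  have e : ∏ s, pat π α β s = ∏ k, ![α, α⁻¹, β, β⁻¹, (1 : F), 1] k :=
    Equiv.prod_comp π ![α, α⁻¹, β, β⁻¹, (1 : F), 1]
  rw [e, Fin.prod_univ_six]
  simp [hα.ne_zero, hβ.ne_zero]

/-- Two traces along the circle reach every fixed scalar. -/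
theorem exists_trace_pair {A B C : F} (hA : A ≠ 0) (hB : B ≠ 0) (hC : K.bar C = C) :
    ∃ x y : F, Circ K x ∧ Circ K y ∧ A * x + K.bar (A * x) + (B * y + K.bar (B * y)) + C = 0 := by
  classical
  cases nonempty_fintype F
  set S := Finset.univ.filter fun z : F => Circ K z with hS
  have hSc : S.card = q + 1 := by
    rw [hS, ← card_norm_one K, Nat.card_eq_fintype_card, Fintype.card_subtype]
    rfl
  have hSm : ∀ z ∈ S, Circ K z := fun z hz => (Finset.mem_filter.1 hz).2
  set Φ := Finset.univ.filter fun r : F => K.bar r = r with hΦ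
  have hΦc : Φ.card ≤ q := by
    have h : Φ ⊆ insert 0 (Finset.univ.filter fun r : F => K.bar r = r ∧ r ≠ 0) := fun r hr => by
      rw [Finset.mem_insert, Finset.mem_filter]
      rcases eq_or_ne r 0 with h | h
      · exact Or.inl h
      · exact Or.inr ⟨Finset.mem_univ _, (Finset.mem_filter.1 hr).2, h⟩
    refine (Finset.card_le_card h).trans ((Finset.card_insert_le _ _).trans ?_)
    have h' := card_fixed K
    rw [Nat.card_eq_fintype_card, Fintype.card_subtype] at h'
    have := K.two_le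
    omega
  set P := S.image fun z => A * z + K.bar (A * z) with hP
  set Q := (S.image fun z => B * z + K.bar (B * z)).image fun r => -(r + C) with hQ
  have h1 := card_fibre_le K hA S hSm
  have h2 := card_fibre_le K hB S hSm
  have h3 : Q.card = (S.image fun z => B * z + K.bar (B * z)).card :=
    Finset.card_image_of_injective _ fun a b h => by linear_combination -h
  obtain ⟨r, hr⟩ : (P ∩ Q).Nonempty := by
    by_contra hne
    rw [Finset.not_nonempty_iff_eq_empty, ← Finset.disjoint_iff_inter_eq_empty] at hne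
    have hsub : P ∪ Q ⊆ Φ := by
      intro r hr
      rw [hΦ, Finset.mem_filter]
      refine ⟨Finset.mem_univ _, ?_⟩
      rcases Finset.mem_union.1 hr with h | h
      · obtain ⟨z, -, rfl⟩ := Finset.mem_image.1 h
        rw [map_add, K.bar_bar, add_comm]
      · obtain ⟨t, ht, rfl⟩ := Finset.mem_image.1 h
        obtain ⟨z, -, rfl⟩ := Finset.mem_image.1 ht
        rw [map_neg, map_add, map_add, K.bar_bar, hC]; ring
    have := Finset.card_le_card hsub
    rw [Finset.card_union_of_disjoint hne, hP] at this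
    omega
  rw [Finset.mem_inter] at hr
  obtain ⟨x, hx, hxr⟩ := Finset.mem_image.1 hr.1
  obtain ⟨t, ht, htr⟩ := Finset.mem_image.1 hr.2
  obtain ⟨y, hy, rfl⟩ := Finset.mem_image.1 ht
  exact ⟨x, y, hSm x hx, hSm y hy, by linear_combination hxr - htr⟩

/-- The monomial double transposition with the given phases. -/
theorem exists_dswap (π : Equiv.Perm (Fin 6)) {x y : F} (hx : Circ K x) (hy : Circ K y) :
    ∃ μ : G, Mon μ ∧ (∀ v s, app μ v (dswap π s) = pat π x y s * v s) ∧ (∀ v, app μ (app μ v) = v) ∧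
      ∀ v, ∃ α β : F, app μ v = v + α • (e[π.symm 0] - x • e[π.symm 1]) + β • (e[π.symm 2] - y • e[π.symm 3]) := by
  obtain ⟨μ, hμ, hμv⟩ := exists_mon K (dswap π) (pat π x y) (circ_pat K π hx hy) (by
    rw [sign_dswap, Units.val_one, Int.cast_one, one_mul, prod_pat K π hx hy])
  refine ⟨μ, hμ, hμv, fun v => funext fun r => ?_, fun v => ?_⟩
  · obtain ⟨s, rfl⟩ : ∃ s, dswap π (dswap π s) = r := ⟨r, dswap_dswap π r⟩
    rw [hμv, hμv, dswap_dswap, ← mul_assoc, pat_dswap, pat_mul]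
    simp only [inv_mul_cancel₀ hx.ne_zero, inv_mul_cancel₀ hy.ne_zero, pat]
    generalize π s = k
    fin_cases k <;> simp
  refine ⟨x⁻¹ * v (π.symm 1) - v (π.symm 0), y⁻¹ * v (π.symm 3) - v (π.symm 2), funext fun r => ?_⟩
  obtain ⟨k, rfl⟩ := π.symm.surjective r
  have h := hμv v (dswap π (π.symm k))
  rw [dswap_dswap] at h
  rw [h]
  have e : ∀ i j : Fin 6, π.symm i = π.symm j ↔ i = j := fun i j => π.symm.injective.eq_iff
  have hx0 := hx.ne_zero
  have hy0 := hy.ne_zero
  simp only [pat, dswap, Equiv.trans_apply, Equiv.apply_symm_apply, Pi.add_apply, Pi.smul_apply,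
    Pi.sub_apply, Pi.single_apply, e, smul_eq_mul]
  fin_cases k <;> simp [dperm, Equiv.swap_apply_def] <;> field_simp <;> ring

/-- A monomial conjugate of a double transposition has a zero diagonal entry. -/
theorem exists_dswap_zero (π : Equiv.Perm (Fin 6)) {u : V} (hu : ∀ s, u s ≠ 0) :
    ∃ x y : F, Circ K x ∧ Circ K y ∧ ∀ μ : G, (∀ v s, app μ v (dswap π s) = pat π x y s * v s) →
      H (app μ u) u = 0 := by
  set a := π.symm with ha
  clear_value a
  subst ha
  set C := u (π.symm 4) * K.bar (u (π.symm 4)) + u (π.symm 5) * K.bar (u (π.symm 5)) with hC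
  obtain ⟨x, y, hx, hy, hxy⟩ := exists_trace_pair K (A := u (π.symm 0) * K.bar (u (π.symm 1)))
    (B := u (π.symm 2) * K.bar (u (π.symm 3))) (C := C) (mul_ne_zero (hu _) ((map_ne_zero K.bar).2 (hu _)))
    (mul_ne_zero (hu _) ((map_ne_zero K.bar).2 (hu _))) (by rw [hC, map_add, bar_norm K, bar_norm K])
  refine ⟨x, y, hx, hy, fun μ hμ => ?_⟩
  have e0 : ∀ s, app μ u (dswap π s) * K.bar (u (dswap π s)) =
      pat π x y s * u s * K.bar (u (dswap π s)) := fun s => by rw [hμ]
  rw [Unitary.herm_apply K, ← Equiv.sum_comp (dswap π), Finset.sum_congr rfl fun s _ => e0 s,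
    ← Equiv.sum_comp π.symm, Fin.sum_univ_six]
  simp only [pat, dswap, Equiv.trans_apply, Equiv.apply_symm_apply]
  rw [map_mul, map_mul, map_mul, map_mul, K.bar_bar, K.bar_bar, hx.bar_eq, hy.bar_eq, hC] at hxy
  simp [dperm, Equiv.swap_apply_def]
  linear_combination hxy

/-- Nearly scalar diagonal elements are scalar. -/
theorem good_few {g : G} (hfull : ∀ a b, app g⁻¹ e[a] b ≠ 0) {z : Fin 6 → F} (hz : Good g z)
    (T : Finset (Fin 6)) (hT : T.card ≤ 2) {c₀ : F} (hc : ∀ s ∉ T, z s = c₀) (s : Fin 6) : z s = c₀ := by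
  obtain ⟨d, hd, hm⟩ := hz
  obtain ⟨a, ha⟩ := exists_fixed_of_few K hm hd (T := T) (by omega) hc
  have e := congrFun ha s
  rw [hd] at e
  exact mul_right_cancel₀ (hfull a s) e

/-- A diagonal element whose conjugate fixes an axis is scalar. -/
theorem good_fixed {g : G} (hfull : ∀ a b, app g⁻¹ e[a] b ≠ 0) {d : G} {z : Fin 6 → F}
    (hd : ∀ x s, app d x s = z s * x s) {a : Fin 6} {c : F} (h : app (g * d * g⁻¹) e[a] = c • e[a])
    (s : Fin 6) : z s = c := by
  rw [app_mul, app_mul] at h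
  have h' := congrArg (app g⁻¹) h
  rw [app_inv, app_smul] at h'
  have e := congrFun h' s
  rw [hd] at e
  exact mul_right_cancel₀ (hfull a s) e

theorem good_mul {g : G} {z z' w : Fin 6 → F} (hz : Good g z) (hz' : Good g z')
    (hw : ∀ s, w s = z s * z' s) : Good g w := by
  obtain ⟨d, hd, hdm⟩ := hz
  obtain ⟨d', hd', hdm'⟩ := hz'
  refine ⟨d * d', fun x s => by rw [app_mul, hd, hd', hw, mul_assoc], ?_⟩
  have := mon_mul hdm hdm'
  rwa [show g * d * g⁻¹ * (g * d' * g⁻¹) = g * (d * d') * g⁻¹ by group] at this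

theorem good_inv {g : G} {z w : Fin 6 → F} (hz : Good g z) (hw : ∀ s, w s = (z s)⁻¹)
    (hz0 : ∀ s, z s ≠ 0) : Good g w := by
  obtain ⟨d, hd, hdm⟩ := hz
  refine ⟨d⁻¹, fun x s => ?_, ?_⟩
  · have h := congrFun (app_inv' d x) s
    rw [hd] at h
    rw [← h, hw, ← mul_assoc, inv_mul_cancel₀ (hz0 s), one_mul]
  · have := mon_inv K hdm
    rwa [show (g * d * g⁻¹)⁻¹ = g * d⁻¹ * g⁻¹ by group] at this

theorem pat_sq_case {g : G} (hfull : ∀ a b, app g⁻¹ e[a] b ≠ 0) (π : Equiv.Perm (Fin 6)) {α β : F}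
    (hz : Good g (pat π α β)) (hα : α ^ 2 = 1) (hβ : β ^ 2 = 1) : α = 1 ∧ β = 1 := by
  classical
  set a := π.symm
  have val : ∀ k, pat π α β (a k) = ![α, α⁻¹, β, β⁻¹, 1, 1] k := fun k => by simp [pat, a]
  have few : ∀ (i j : Fin 6) (c₀ : F), (∀ k, k ≠ i → k ≠ j → ![α, α⁻¹, β, β⁻¹, 1, 1] k = c₀) →
      ∀ k, ![α, α⁻¹, β, β⁻¹, 1, 1] k = c₀ := fun i j c₀ h k => by
    rw [← val k]
    refine good_few K hfull hz {a i, a j} Finset.card_le_two (fun s hs => ?_) _
    obtain ⟨k', rfl⟩ := a.surjective s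
    simp only [Finset.mem_insert, Finset.mem_singleton, not_or, a.injective.eq_iff] at hs
    rw [val]
    exact h k' hs.1 hs.2
  rcases sq_eq_one_iff.1 hα with rfl | rfl
  · refine ⟨rfl, ?_⟩
    simpa using few 2 3 1 (fun k h1 h2 => by fin_cases k <;> simp at h1 h2 ⊢) 2
  rcases sq_eq_one_iff.1 hβ with rfl | rfl
  · exact ⟨by simpa using few 0 1 1 (fun k h1 h2 => by fin_cases k <;> simp at h1 h2 ⊢) 0, rfl⟩
  have := few 4 5 (-1) (fun k h1 h2 => by fin_cases k <;> simp at h1 h2 ⊢) 4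
  simp at this
  exact ⟨this.symm, this.symm⟩

/-- The possible pairs of phases. -/
theorem pat_cases {g : G} (hfull : ∀ a b, app g⁻¹ e[a] b ≠ 0) (π : Equiv.Perm (Fin 6)) {α β : F}
    (hz : Good g (pat π α β)) :
    (α = 1 ∧ β = 1) ∨ (α ^ 3 = 1 ∧ β ^ 3 = 1 ∧ α ≠ 1 ∧ β ≠ 1) := by
  classical
  set a := π.symm
  have val : ∀ α β k, pat π α β (a k) = ![α, α⁻¹, β, β⁻¹, (1 : F), 1] k := fun α β k => by simp [pat, a]
  -- constant patterns
  have const : ∀ {α β c : F}, (∀ s, pat π α β s = c) → α = 1 ∧ β = 1 := fun {α β c} h => by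
    have h4 : c = 1 := by rw [← h (a 4), val]; simp
    have h0 := h (a 0); have h2 := h (a 2)
    rw [val] at h0 h2
    simp [h4] at h0 h2
    exact ⟨h0, h2⟩
  have one_side : ∀ {α β : F}, Good g (pat π α β) → α = 1 ∨ β = 1 → α = 1 ∧ β = 1 := by
    intro α β hz h
    rcases h with rfl | rfl
    · refine const (c := 1) (fun s => good_few K hfull hz {a 2, a 3} Finset.card_le_two (fun s hs => ?_) s)
      obtain ⟨k, rfl⟩ := a.surjective s
      simp only [Finset.mem_insert, Finset.mem_singleton, not_or, a.injective.eq_iff] at hs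
      rw [val]
      fin_cases k <;> simp at hs ⊢
    · refine const (c := 1) (fun s => good_few K hfull hz {a 0, a 1} Finset.card_le_two (fun s hs => ?_) s)
      obtain ⟨k, rfl⟩ := a.surjective s
      simp only [Finset.mem_insert, Finset.mem_singleton, not_or, a.injective.eq_iff] at hs
      rw [val]
      fin_cases k <;> simp at hs ⊢
  have hsq := good_mul K hz hz (w := pat π (α * α) (β * β)) fun s => (pat_mul π _ _ _ _ s).symm
  have hcb := good_mul K hsq hz (w := pat π (α * α * α) (β * β * β)) fun s => (pat_mul π _ _ _ _ s).symm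
  obtain ⟨d, hd, hm⟩ := hz
  obtain ⟨σ, c, -, hσ, -⟩ := hm.exists_perm K
  set X := g * d * g⁻¹ with hX
  have hX2 : ∀ r, app (g * (d * d) * g⁻¹) e[r] = (c r * c (σ r)) • e[σ (σ r)] := fun r => by
    rw [show g * (d * d) * g⁻¹ = X * X by rw [hX]; group, app_mul, hσ, app_smul, hσ, smul_smul]
  have hX3 : ∀ r, app (g * (d * d * d) * g⁻¹) e[r] =
      (c r * c (σ r) * c (σ (σ r))) • e[σ (σ (σ r))] := fun r => by
    rw [show g * (d * d * d) * g⁻¹ = X * (g * (d * d) * g⁻¹) by rw [hX]; group, app_mul, hX2, app_smul,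
      hσ, smul_smul]
  have hd2 : ∀ x s, app (d * d) x s = pat π (α * α) (β * β) s * x s := fun x s => by
    rw [app_mul, hd, hd, ← mul_assoc, pat_mul]
  have hd3 : ∀ x s, app (d * d * d) x s = pat π (α * α * α) (β * β * β) s * x s := fun x s => by
    rw [show app (d * d * d) x = app (d * d) (app d x) from app_mul _ _ _, hd2, hd, ← mul_assoc, pat_mul]
  have hz : Good g (pat π α β) := ⟨d, hd, hm⟩
  by_cases h1 : ∃ r, σ r = r
  · obtain ⟨r, hr⟩ := h1
    exact Or.inl (const fun s => good_fixed K hfull hd (a := r) (c := c r) (by rw [hσ, hr]) s)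
  by_cases h2 : ∃ r, σ (σ r) = r
  · obtain ⟨r, hr⟩ := h2
    obtain ⟨e1, e2⟩ := const fun s => good_fixed K hfull hd2 (a := r) (c := c r * c (σ r))
      (by rw [hX2, hr]) s
    exact Or.inl (pat_sq_case K hfull π hz (by rw [sq, e1]) (by rw [sq, e2]))
  by_cases hc : α = 1 ∨ β = 1
  · exact Or.inl (one_side hz hc)
  rw [not_or] at hc
  refine Or.inr ?_
  by_cases h3 : ∃ r, σ (σ (σ r)) = r
  · obtain ⟨r, hr⟩ := h3
    obtain ⟨e1, e2⟩ := const fun s => good_fixed K hfull hd3 (a := r)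
      (c := c r * c (σ r) * c (σ (σ r))) (by rw [hX3, hr]) s
    exact ⟨by rw [← e1]; ring, by rw [← e2]; ring, hc.1, hc.2⟩
  exfalso
  push Not at h1 h2 h3
  have h6 := six_cycle_back σ h1 h2 h3
  set z3α := α * α * α
  set z3β := β * β * β
  have hd6 : ∀ x s, app (d * d * d * (d * d * d)) x s = pat π (z3α * z3α) (z3β * z3β) s * x s :=
    fun x s => by
      rw [show app (d * d * d * (d * d * d)) x = app (d * d * d) (app (d * d * d) x) from app_mul _ _ _,
        hd3, hd3, ← mul_assoc, pat_mul]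
  obtain ⟨e1, e2⟩ := const fun s => good_fixed K hfull hd6 (a := 0)
    (c := c 0 * c (σ 0) * c (σ (σ 0)) * (c (σ (σ (σ 0))) * c (σ (σ (σ (σ 0)))) *
      c (σ (σ (σ (σ (σ 0))))))) (by
      rw [show g * (d * d * d * (d * d * d)) * g⁻¹ = g * (d * d * d) * g⁻¹ * (g * (d * d * d) * g⁻¹) by
        group, app_mul, hX3, app_smul, hX3, smul_smul, h6]) s
  obtain ⟨f1, f2⟩ := pat_sq_case K hfull π hcb (by rw [sq, e1]) (by rw [sq, e2])
  refine h3 0 ?_
  have hid : app (g * (d * d * d) * g⁻¹) e[0] = e[0] := by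
    have : ∀ x, app (d * d * d) x = x := fun x => funext fun s => by
      rw [hd3, show z3α = 1 from f1, show z3β = 1 from f2]
      simp only [pat, inv_one]
      generalize π s = k
      fin_cases k <;> simp
    rw [app_mul, app_mul, this, app_inv']
  rw [hX3] at hid
  by_contra hne
  have := congrFun hid 0
  simp [Ne.symm hne] at this

/-- A non-trivial good pattern for each pairing. -/
theorem exists_pat (hq : 3 ≤ q) (hM : ∀ g, Mon g → g ∈ M) {g : G} (hg : g ∈ M) (htop : M ≠ ⊤)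
    (hfull : ∀ a b, app g⁻¹ e[a] b ≠ 0) (π : Equiv.Perm (Fin 6)) :
    ∃ α β : F, Circ K α ∧ Circ K β ∧ Good g (pat π α β) ∧ ¬ (α = 1 ∧ β = 1) := by
  classical
  have step : ∀ m, ∃ x y : F, Circ K x ∧ Circ K y ∧ ∃ μ : G,
      (∀ v s, app μ v (dswap π s) = pat π x y s * v s) ∧ Mon (g * μ * g⁻¹) ∧
      H (app μ (app g⁻¹ e[m])) (app g⁻¹ e[m]) = 0 ∧ ∃ r, app μ (app g⁻¹ e[r]) = app g⁻¹ e[r] := by
    intro m
    obtain ⟨x, y, hx, hy, hzero⟩ := exists_dswap_zero K π (hfull m)
    obtain ⟨μ, hμ, hμv, hμ2, hμp⟩ := exists_dswap K π hx hy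
    have h0 := hzero μ hμv
    have hmon : Mon (g * μ * g⁻¹) := by
      by_contra hc
      refine htop (top_of_zero_six K hq rfl hM (M.mul_mem (M.mul_mem hg (hM μ hμ)) (M.inv_mem hg)) hc
        (k := m) (m := m) ?_)
      rw [← h_single K (app (g * μ * g⁻¹) e[m]) m]
      nth_rw 2 [← app_inv' g e[m]]
      rw [app_mul, app_mul, h_app]
      exact h0
    refine ⟨x, y, hx, hy, μ, hμv, hmon, h0, ?_⟩
    by_contra hc
    push Not at hc
    have := card_moved_invol K hmon (fun v => by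
        simp only [app_mul, app_inv, hμ2, app_inv'])
      (a := app g (e[π.symm 0] - x • e[π.symm 1])) (b := app g (e[π.symm 2] - y • e[π.symm 3]))
      (fun v => by
        obtain ⟨α, β, e⟩ := hμp (app g⁻¹ v)
        exact ⟨α, β, by rw [app_mul, app_mul, e, app_add, app_add, app_smul, app_smul, app_inv']⟩)
      Finset.univ fun r _ e => hc r (by
        rw [app_mul, app_mul] at e
        have e' := congrArg (app g⁻¹) e
        rwa [app_inv] at e')
    simp at this
  obtain ⟨x₁, y₁, hx₁, hy₁, μ₁, hμ₁, hm₁, -, r, hr⟩ := step 0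
  obtain ⟨x₂, y₂, hx₂, hy₂, μ₂, hμ₂, hm₂, hz₂, -⟩ := step r
  refine ⟨x₁⁻¹ * x₂, y₁⁻¹ * y₂, hx₁.inv.mul hx₂, hy₁.inv.mul hy₂, ⟨μ₁ * μ₂, fun v s => ?_, ?_⟩, ?_⟩
  · have e1 := hμ₁ (app μ₂ v) (dswap π s)
    rw [dswap_dswap, pat_dswap, hμ₂, ← mul_assoc, pat_mul] at e1
    rw [app_mul, e1]
  · have := mon_mul hm₁ hm₂
    rwa [show g * μ₁ * g⁻¹ * (g * μ₂ * g⁻¹) = g * (μ₁ * μ₂) * g⁻¹ by group] at this
  · rintro ⟨ha, hb⟩
    have ex : x₂ = x₁ := by
      have := congrArg (x₁ * ·) ha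
      simpa [← mul_assoc, mul_inv_cancel₀ hx₁.ne_zero] using this
    have ey : y₂ = y₁ := by
      have := congrArg (y₁ * ·) hb
      simpa [← mul_assoc, mul_inv_cancel₀ hy₁.ne_zero] using this
    subst ex ey
    have e : app μ₂ (app g⁻¹ e[r]) = app μ₁ (app g⁻¹ e[r]) := funext fun s => by
      obtain ⟨s, rfl⟩ := (dswap π).surjective s
      rw [hμ₁, hμ₂]
    rw [e, hr, h_app, h_self_single K] at hz₂
    exact one_ne_zero hz₂

/-- The monomial subgroup is maximal. -/
theorem top_of_not_mon_six (hq : 3 ≤ q) (hM : ∀ g, Mon g → g ∈ M) {g : G} (hg : g ∈ M)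
    (hgm : ¬ Mon g) : M = ⊤ := by
  classical
  by_contra htop
  have hfull : ∀ a b, app g⁻¹ e[a] b ≠ 0 := fun a b e =>
    htop (top_of_zero_six K hq rfl hM (M.inv_mem hg) (not_mon_inv K hgm) e)
  -- a primitive cube root
  have norm3 : ∀ π, ∀ ω : F, ω ^ 3 = 1 → ω ≠ 1 → ∃ β : F, Good g (pat π ω β) ∧ (β = ω ∨ β = ω⁻¹) := by
    intro π ω hω hω1
    obtain ⟨α, β, hα, hβ, hz, hne⟩ := exists_pat K hq hM hg htop hfull π
    obtain ⟨a3, b3, a1, b1⟩ := (pat_cases K hfull π hz).resolve_left hne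
    have roots : ∀ t : F, t ^ 3 = 1 → t ≠ 1 → t = ω ∨ t = ω⁻¹ := by
      intro t ht ht1
      have q1 : t ^ 2 + t + 1 = 0 :=
        (mul_eq_zero.1 (show (t - 1) * (t ^ 2 + t + 1) = 0 by linear_combination ht)).resolve_left
          (sub_ne_zero.2 ht1)
      have q2 : ω ^ 2 + ω + 1 = 0 :=
        (mul_eq_zero.1 (show (ω - 1) * (ω ^ 2 + ω + 1) = 0 by linear_combination hω)).resolve_left
          (sub_ne_zero.2 hω1)
      rcases mul_eq_zero.1 (show (t - ω) * (t + ω + 1) = 0 by linear_combination q1 - q2) with h | h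
      · exact Or.inl (sub_eq_zero.1 h)
      · right
        have hω0 : ω ≠ 0 := fun e => by simp [e] at q2
        rw [← mul_right_inj' hω0, mul_inv_cancel₀ hω0]
        linear_combination ω * h - q2
    rcases roots α a3 a1 with rfl | e
    · exact ⟨β, hz, roots β b3 b1⟩
    · refine ⟨β⁻¹, ?_, (roots β b3 b1).symm.imp (fun h => by rw [h, inv_inv]) (fun h => by rw [h])⟩
      refine good_inv K hz (fun s => ?_) fun s => (circ_pat K π hα hβ s).ne_zero
      simp only [pat, e]
      generalize π s = k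
      fin_cases k <;> simp
  obtain ⟨α, β₀, -, -, hz₀, hne₀⟩ := exists_pat K hq hM hg htop hfull 1
  obtain ⟨hω, -, hω1, -⟩ := (pat_cases K hfull 1 hz₀).resolve_left hne₀
  clear hz₀ hne₀
  have hω0 : α ≠ 0 := fun e => by simp [e] at hω
  have hii : α * α = α⁻¹ := by
    rw [← mul_right_inj' hω0, mul_inv_cancel₀ hω0]
    linear_combination hω
  have hai : α ≠ α⁻¹ := fun e => hω1 (by linear_combination hω - α ^ 2 * e - mul_inv_cancel₀ hω0 * α)
  obtain ⟨β₁, g₁, h₁⟩ := norm3 1 α hω hω1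
  obtain ⟨β₂, g₂, h₂⟩ := norm3 (Equiv.swap 1 2) α hω hω1
  obtain ⟨β₃, g₃, h₃⟩ := norm3 (Equiv.swap 1 3) α hω hω1
  have nz : ∀ π : Equiv.Perm (Fin 6), ∀ β : F, β = α ∨ β = α⁻¹ → ∀ s, pat π α β s ≠ 0 := by
    intro π β hb s
    simp only [pat]
    generalize π s = k
    rcases hb with rfl | rfl <;> fin_cases k <;> simp [hω0]
  have quot : ∀ (π π' : Equiv.Perm (Fin 6)) (β β' : F), Good g (pat π α β) → Good g (pat π' α β') →
      (β' = α ∨ β' = α⁻¹) → ∀ i j k : Fin 6,
      (∀ s, s ≠ i → s ≠ j → pat π α β s = pat π' α β' s) →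
      pat π α β k ≠ pat π' α β' k → False := by
    intro π π' β β' hg' hg'' hb' i j k hij hk
    have hw : Good g fun s => pat π α β s * (pat π' α β' s)⁻¹ :=
      good_mul K hg' (good_inv K hg'' (w := fun s => (pat π' α β' s)⁻¹) (fun s => rfl) (nz π' β' hb'))
        fun s => rfl
    have := good_few K hfull hw {i, j} Finset.card_le_two (c₀ := 1) (fun s hs => by
      simp only [Finset.mem_insert, Finset.mem_singleton, not_or] at hs
      show _ * _ = _
      rw [hij s hs.1 hs.2, mul_inv_cancel₀ (nz π' β' hb' s)]) k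
    exact hk ((mul_inv_eq_one₀ (nz π' β' hb' k)).1 this)
  rcases h₁ with rfl | rfl <;> rcases h₂ with rfl | rfl
  · refine quot _ _ _ _ g₁ g₂ (Or.inl rfl) 1 2 1 (fun s a b => ?_) ?_
    · fin_cases s <;> simp [pat, Equiv.swap_apply_def] at a b ⊢
    · simpa [pat, Equiv.swap_apply_def] using hai.symm
  · refine quot _ _ _ _ g₁ g₂ (Or.inr rfl) 2 3 2 (fun s a b => ?_) ?_
    · fin_cases s <;> simp [pat, Equiv.swap_apply_def] at a b ⊢
    · simpa [pat, Equiv.swap_apply_def] using hai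
  · refine quot _ _ _ _ g₁ g₂ (Or.inl rfl) 1 3 1 (fun s a b => ?_) ?_
    · fin_cases s <;> simp [pat, Equiv.swap_apply_def] at a b ⊢
    · simpa [pat, Equiv.swap_apply_def] using hai.symm
  · rcases h₃ with rfl | rfl
    · refine quot _ _ _ _ g₁ g₃ (Or.inl rfl) 2 3 2 (fun s a b => ?_) ?_
      · fin_cases s <;> simp [pat, Equiv.swap_apply_def] at a b ⊢
      · simpa [pat, Equiv.swap_apply_def] using hai.symm
    · refine quot _ _ _ _ g₁ g₃ (Or.inr rfl) 1 3 1 (fun s a b => ?_) ?_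
      · fin_cases s <;> simp [pat, Equiv.swap_apply_def] at a b ⊢
      · simpa [pat, Equiv.swap_apply_def] using hai.symm

end CfsgLib.Classical.HermDecompMax
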