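import Cfsg.Agent.Lib.Classical.UnitaryDecompMax.Monomial
import Cfsg.Agent.Lib.Classical.UnitaryDecompMax.Blocks
import Cfsg.Agent.Lib.Classical.UnitaryDecompMax.SixFull
import Cfsg.Agent.Lib.Classical.Forms

set_option autoImplicit false
set_option linter.unusedSectionVars false

/-!
Stabilisers of non-degenerate decompositions are maximal in `SU_n(q)`.
-/

namespace CfsgLib.Classical.HermDecompMax

open Matrix Cfsg CfsgLib.Classical.Herm
open CfsgLib.ClassicalAut (Unitary.Conj Unitary.space Unitary.herm_apply)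

variable {F : Type*} [Field F] [Finite F] {q : ℕ} (K : Unitary.Conj F q) {n t k : ℕ}

local notation "H" => hermForm n F q
local notation "V" => (Fin n → F)
local notation "G" => SU n F q
local notation "e[" s "]" => (Pi.single s 1 : Fin n → F)

theorem isMaximalIn_map {A : Type*} [Group A] (c : A ≃* A) {L S : Subgroup A}
    (h : Cfsg.Geo.IsMaximalIn L S) :
    Cfsg.Geo.IsMaximalIn (L.map c.toMonoidHom) (S.map c.toMonoidHom) := by
  refine ⟨?_, fun M hM hM' => ?_⟩
  · exact (Subgroup.map_lt_map_iff_of_injective c.injective).2 h.1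
  · have hc : (M.comap c.toMonoidHom).map c.toMonoidHom = M :=
      Subgroup.map_comap_eq_self_of_surjective c.surjective M
    rcases h.2 (M.comap c.toMonoidHom) (Subgroup.map_le_iff_le_comap.1 hM)
        (fun x hx => (Subgroup.mem_map_iff_mem c.injective).1 (hM' hx)) with h' | h'
    · exact Or.inl (by rw [← hc, h'])
    · exact Or.inr (by rw [← hc, h'])

theorem mem_decompStab_conj {D D' : Fin t → Submodule F V} {B g : GL (Fin n) F}
    (hB : ∀ i, (D i).map (Matrix.toLin' (B : Matrix (Fin n) (Fin n) F)) = D' i)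
    (hg : g ∈ Cfsg.Geo.decompositionStabilizer D) :
    B * g * B⁻¹ ∈ Cfsg.Geo.decompositionStabilizer D' := by
  obtain ⟨σ, hσ⟩ := hg
  refine ⟨σ, fun i => ?_⟩
  rw [← hB i, ← Submodule.map_comp, ← Matrix.toLin'_mul, ← Units.val_mul, inv_mul_cancel_right,
    Units.val_mul, Matrix.toLin'_mul, Submodule.map_comp, hσ, hB]

include K

theorem exists_onb_fin {U : Submodule F V} (hU : Nondeg (q := q) U) (hk : Module.finrank F U = k) :
    ∃ w : Fin k → V, (∀ i, w i ∈ U) ∧ ∀ i j, H (w i) (w j) = if i = j then 1 else 0 := by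
  let B : U →ₛₗ[K.bar.toRingHom] U →ₗ[F] F :=
    LinearMap.mk₂'ₛₗ K.bar.toRingHom (RingHom.id F) (fun v u : U => H (u : V) (v : V))
      (fun a b u => by simp [h_add_right K]) (fun c a u => by simp [h_smul_right K])
      (fun v a b => by simp [h_add_left K]) (fun c v a => by simp [h_smul_left K])
  obtain ⟨b, hb⟩ := CfsgLib.Forms.exists_orthonormal_basis K.bar.toRingHom
    (fun h => by
      obtain ⟨y, hy⟩ := K.exists_moved
      exact hy (RingHom.congr_fun h y))
    K.bar_bar B (fun x y => (h_swap K (y : V) (x : V)).symm) (fun v hv => by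
      by_contra h0
      obtain ⟨y, hy, hvy⟩ := hU v v.2 (fun h => h0 (Subtype.ext h))
      exact h_ne_zero_symm K hvy (hv ⟨y, hy⟩))
  refine ⟨fun i => (b (Fin.cast hk.symm i) : V), fun i => (b _).2, fun i j => ?_⟩
  have : H (b (Fin.cast hk.symm i) : V) (b (Fin.cast hk.symm j) : V) = _ := hb _ _
  rw [this]
  exact if_congr ⟨fun h => (Fin.cast_injective _ h).symm, fun h => by rw [h]⟩ rfl rfl

theorem h_sum_left {ι : Type*} (s : Finset ι) (f : ι → V) (y : V) :
    H (∑ i ∈ s, f i) y = ∑ i ∈ s, H (f i) y := by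
  classical
  induction s using Finset.induction_on with
  | empty => simp [h_zero_left K]
  | insert a s ha ih => rw [Finset.sum_insert ha, Finset.sum_insert ha, h_add_left K, ih]

theorem h_sum_right {ι : Type*} (s : Finset ι) (f : ι → V) (x : V) :
    H x (∑ i ∈ s, f i) = ∑ i ∈ s, H x (f i) := by
  classical
  induction s using Finset.induction_on with
  | empty => simp [h_zero_right K]
  | insert a s ha ih => rw [Finset.sum_insert ha, Finset.sum_insert ha, h_add_right K, ih]

/-- An adapted unitary change of coordinates. -/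
theorem exists_frame {D : Fin t → Submodule F V}
    (hD : Cfsg.Geo.IsNondegenerateMDecomposition H k D) :
    ∃ (e : Fin n ≃ Fin t × Fin k) (B : GL (Fin n) F), B ∈ GU n F q ∧
      ∀ i, (bsub e F i).map (Matrix.toLin' (B : Matrix (Fin n) (Fin n) F)) = D i := by
  classical
  choose w hwD hw using fun i => exists_onb_fin K (U := D i)
    (fun x hx hx0 => (hD.nondegenerate i x hx hx0).2) (hD.decomp.finrank_eq i)
  let b : Fin t × Fin k → V := fun x => w x.1 x.2
  have hb : ∀ x y, H (b x) (b y) = if x = y then 1 else 0 := by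
    rintro ⟨i, a⟩ ⟨j, c⟩
    show H (w i a) (w j c) = _
    rcases eq_or_ne i j with rfl | hij
    · rw [hw]; simp
    · rw [hD.orthogonal i j hij _ (hwD i a) _ (hwD j c), if_neg (by simp [hij])]
  have hli : LinearIndependent F b := by
    rw [Fintype.linearIndependent_iff]
    intro c hc x
    have := congrArg (fun v => H v (b x)) hc
    simpa [h_sum_left K, h_smul_left K, hb, h_zero_left K] using this
  have hspan : ⊤ ≤ Submodule.span F (Set.range b) := by
    rw [← hD.decomp.iSup_eq_top, iSup_le_iff]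
    intro i
    have hli' : LinearIndependent F (fun a => b (i, a)) := hli.comp _ fun a a' h => (Prod.mk.inj h).2
    have he : Submodule.span F (Set.range fun a => b (i, a)) = D i := by
      refine Submodule.eq_of_le_of_finrank_eq (Submodule.span_le.2 ?_) ?_
      · rintro _ ⟨a, rfl⟩; exact hwD i a
      · rw [finrank_span_eq_card hli', hD.decomp.finrank_eq i, Fintype.card_fin]
    rw [← he]
    exact Submodule.span_mono (by rintro _ ⟨a, rfl⟩; exact ⟨(i, a), rfl⟩)
  have hn : n = t * k := by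
    have h := Module.finrank_eq_card_basis (Module.Basis.mk hli hspan)
    simpa using h
  let e : Fin n ≃ Fin t × Fin k := (finCongr hn).trans finProdFinEquiv.symm
  let A : Matrix (Fin n) (Fin n) F := Matrix.of fun r s => b (e s) r
  have hA : ∀ x, A *ᵥ x = ∑ s, x s • b (e s) := fun x => funext fun r => by
    simp [A, mulVec, dotProduct, mul_comm]
  have hiso : ∀ x y, H (A *ᵥ x) (A *ᵥ y) = H x y := fun x y => by
    rw [hA, hA, h_sum_left K, Unitary.herm_apply K]
    refine Finset.sum_congr rfl fun s _ => ?_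
    rw [h_sum_right K, Finset.sum_eq_single s (fun r _ hr => by
      rw [h_smul_left K, h_smul_right K, hb, if_neg (e.injective.ne hr.symm), mul_zero, mul_zero])
      (by simp), h_smul_left K, h_smul_right K, hb, if_pos rfl, mul_one]
  have hdet : A.det ≠ 0 := fun h0 => by
    have := det_norm K hiso
    rw [h0, zero_mul] at this
    exact zero_ne_one this
  refine ⟨e, GeneralLinearGroup.mkOfDetNeZero A hdet, hiso, fun i => ?_⟩
  refine Submodule.eq_of_le_of_finrank_eq ?_ ?_
  · rintro _ ⟨v, hv, rfl⟩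
    show A *ᵥ v ∈ D i
    rw [hA]
    refine Submodule.sum_mem _ fun s _ => ?_
    by_cases hs : (e s).1 = i
    · exact (D i).smul_mem _ (hs ▸ hwD (e s).1 (e s).2)
    · rw [hv s hs, zero_smul]; exact zero_mem _
  · rw [hD.decomp.finrank_eq i, ← ((bsub e F i).equivMapOfInjective _
      (Matrix.mulVec_injective_of_isUnit ((Matrix.isUnit_iff_isUnit_det A).2 hdet.isUnit))).finrank_eq,
      finrank_bsub e i]

theorem bstab_iff (hk : 0 < k) (e : Fin n ≃ Fin t × Fin k) (g : G) :
    BStab e g ↔ toGLHom g ∈ Cfsg.Geo.decompositionStabilizer (bsub e F) := by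
  constructor
  · intro h
    choose f hf using h
    have heq : ∀ i, (bsub e F i).map (Matrix.toLin' ((toGLHom g : GL (Fin n) F) : Matrix (Fin n) (Fin n) F))
        = bsub e F (f i) := by
      intro i
      refine Submodule.eq_of_le_of_finrank_eq ?_ ?_
      · rintro _ ⟨x, hx, rfl⟩
        exact hf i x hx
      · rw [finrank_bsub e (f i)]
        exact ((bsub e F i).equivMapOfInjective _ fun x y h => app_injective g h).finrank_eq.symm.trans
          (finrank_bsub e i)
    have hinj : Function.Injective f := by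
      intro i j hij
      have he : bsub e F i = bsub e F j := Submodule.map_injective_of_injective
        (fun x y h => app_injective g h) ((heq i).trans ((congrArg _ hij).trans (heq j).symm))
      by_contra hne
      have : e[e.symm (i, ⟨0, hk⟩)] ∈ bsub e F j := he ▸ fun s hs =>
        Pi.single_eq_of_ne (by rintro rfl; simp at hs) _
      simpa using this (e.symm (i, ⟨0, hk⟩)) (by simpa using hne)
    exact ⟨Equiv.ofBijective f (Finite.injective_iff_bijective.1 hinj), heq⟩
  · rintro ⟨σ, hσ⟩ i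
    exact ⟨σ i, fun x hx => hσ i ▸ ⟨x, hx, rfl⟩⟩

theorem mon_iff_bstab (e : Fin n ≃ Fin t × Fin 1) (g : G) : BStab e g ↔ Mon g := by
  have h1 : ∀ (v : V) (i : Fin t), v ∈ bsub e F i → v = v (e.symm (i, 0)) • e[e.symm (i, 0)] := by
    intro v i hv
    funext s
    rcases eq_or_ne s (e.symm (i, 0)) with rfl | hs
    · simp
    · rw [Pi.smul_apply, Pi.single_eq_of_ne hs, smul_zero]
      exact hv s fun h => hs (by rw [← h, Equiv.eq_symm_apply]; exact Prod.ext rfl (Subsingleton.elim _ _))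
  constructor
  · intro h s
    obtain ⟨j, hj⟩ := h (e s).1
    exact ⟨_, _, h1 _ j (hj _ fun r hr => Pi.single_eq_of_ne (by rintro rfl; exact hr rfl) _)⟩
  · intro h i
    obtain ⟨r, c, hr⟩ := h (e.symm (i, 0))
    refine ⟨(e r).1, fun v hv s hs => ?_⟩
    rw [h1 v i hv, app_smul, hr, Pi.smul_apply, Pi.smul_apply,
      Pi.single_eq_of_ne (by rintro rfl; exact hs rfl), smul_zero, smul_zero]

theorem exists_not_bstab (hn : 5 ≤ n) (ht : 2 ≤ t) (hk : 0 < k) (e : Fin n ≃ Fin t × Fin k) :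
    ∃ g : G, ¬ BStab e g := by
  classical
  set p₁ := e.symm (⟨0, by omega⟩, ⟨0, hk⟩)
  set p₂ := e.symm (⟨1, by omega⟩, ⟨0, hk⟩)
  have h12 : (e p₁).1 ≠ (e p₂).1 := by simp [p₁, p₂]
  have h12' : p₁ ≠ p₂ := fun h => h12 (by rw [h])
  obtain ⟨p₀, p₃, h0, h3, h03⟩ := Finset.one_lt_card_iff.1
    (show 1 < (Finset.univ \ ({p₁, p₂} : Finset (Fin n))).card by
      rw [Finset.card_sdiff_of_subset (Finset.subset_univ _), Finset.card_pair h12', Finset.card_univ,
        Fintype.card_fin]
      omega)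
  simp only [Finset.mem_sdiff, Finset.mem_univ, true_and, Finset.mem_insert, Finset.mem_singleton, not_or]
    at h0 h3
  obtain ⟨h01, h02⟩ := h0
  obtain ⟨h31, h32⟩ := h3
  replace h01 : p₀ ≠ p₁ := h01
  replace h02 : p₀ ≠ p₂ := h02
  replace h31 : p₃ ≠ p₁ := h31
  replace h32 : p₃ ≠ p₂ := h32
  obtain ⟨v, hvv, hv0, hv1, hv2⟩ : ∃ v : V, H v v = 0 ∧ v p₀ ≠ 0 ∧ v p₁ ≠ 0 ∧ v p₂ ≠ 0 := by
    by_cases h2 : (2 : F) = 0
    · refine ⟨e[p₀] + e[p₁] + e[p₂] + e[p₃], ?_, by simp [h01, h02, h03],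
        by simp [h01.symm, h12', h31.symm], by simp [h02.symm, h12'.symm, h32.symm]⟩
      simp [h_add_left K, h_add_right K, h_single_single K, h01, h02, h03, h01.symm, h02.symm, h03.symm,
        h12', h12'.symm, h31, h31.symm, h32, h32.symm]
      linear_combination 2 * h2
    · obtain ⟨c, hc⟩ := K.exists_norm (-2) (by rw [map_neg, map_ofNat])
      have hc0 : c ≠ 0 := fun h => h2 (by rw [h, zero_mul] at hc; linear_combination hc)
      refine ⟨e[p₀] + e[p₁] + c • e[p₂], ?_, by simp [h01, h02],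
        by simp [h01.symm, h12'], by simp [h02.symm, h12'.symm, hc0]⟩
      simp [h_add_left K, h_add_right K, h_smul_left K, h_smul_right K, h_single_single K, h01, h02,
        h01.symm, h02.symm, h12', h12'.symm]
      linear_combination hc
  obtain ⟨θ, hθ0, hθ⟩ := exists_skew K
  obtain ⟨T, hT⟩ := exists_T K hvv hθ
  refine ⟨T, fun h => ?_⟩
  obtain ⟨j, hj⟩ := h (e p₀).1
  have h' := hj e[p₀] fun s hs => Pi.single_eq_of_ne (by rintro rfl; exact hs rfl) _
  have hz : ∀ p, p ≠ p₀ → v p ≠ 0 → (e p).1 = j := fun p hp hvp => by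
    by_contra hne
    have := h' p hne
    rw [hT.2.2, h_single_left K] at this
    simp [hp, hθ0, hv0, hvp] at this
  exact h12 ((hz p₁ h01.symm hv1).trans (hz p₂ h02.symm hv2).symm)

theorem std_maximal (hn : 5 ≤ n)
    (hmon : k = 1 → ∀ M : Subgroup G, (∀ g, Mon g → g ∈ M) → ∀ g ∈ M, ¬ Mon g → M = ⊤)
    (ht : 2 ≤ t) (hk : 0 < k) (hex : ¬ (k = 2 ∧ q = 2))
    (e : Fin n ≃ Fin t × Fin k) :
    Cfsg.Geo.IsMaximalIn (GU n F q ⊓ Cfsg.Geo.specialLinear (Fin n) F)
      (Cfsg.Geo.decompositionStabilizer (bsub e F) ⊓ (GU n F q ⊓ Cfsg.Geo.specialLinear (Fin n) F)) := by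
  refine ⟨lt_of_le_not_ge inf_le_right fun hle => ?_, fun M hM hM' => ?_⟩
  · obtain ⟨g, hg⟩ := exists_not_bstab (F := F) K hn ht hk e
    exact hg ((bstab_iff K hk e g).2 (hle ((mem_range_iff _).2 ⟨g, rfl⟩)).1)
  have hS : ∀ g : G, BStab e g → g ∈ M.comap toGLHom := fun g hg =>
    hM ⟨(bstab_iff K hk e g).1 hg, (mem_range_iff _).2 ⟨g, rfl⟩⟩
  have key : M.comap (toGLHom : G →* GL (Fin n) F) = ⊤ ∨ ∀ g ∈ M.comap (toGLHom : G →* GL (Fin n) F), BStab e g := by
    rcases eq_or_lt_of_le (show 1 ≤ k from hk) with hk1 | hk2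
    · subst hk1
      by_contra hc
      push Not at hc
      obtain ⟨hne, g, hg, hgb⟩ := hc
      exact hne (hmon rfl _ (fun g hg => hS g ((mon_iff_bstab K e g).2 hg)) g hg
        fun h => hgb ((mon_iff_bstab K e g).2 h))
    · refine blocks_le_or_top K e hn hk2 (fun hq => ?_) hS
      by_contra h3
      exact hex ⟨by omega, hq⟩
  rcases key with h | h
  · refine Or.inr (le_antisymm hM' fun g hg => ?_)
    obtain ⟨s, rfl⟩ := (mem_range_iff g).1 hg
    have : s ∈ M.comap toGLHom := h ▸ Subgroup.mem_top s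
    exact this
  · refine Or.inl (le_antisymm (fun g hg => ?_) hM)
    obtain ⟨s, rfl⟩ := (mem_range_iff g).1 (hM' hg)
    exact ⟨(bstab_iff K hk e s).1 (h s hg), (mem_range_iff _).2 ⟨s, rfl⟩⟩

theorem decomposition_maximal_of (hn : 5 ≤ n)
    (hmon : k = 1 → ∀ M : Subgroup G, (∀ g, Mon g → g ∈ M) → ∀ g ∈ M, ¬ Mon g → M = ⊤)
    {D : Fin t → Submodule F V}
    (hD : Cfsg.Geo.IsNondegenerateMDecomposition H k D) (hex : ¬ (k = 2 ∧ q = 2)) :
    Cfsg.Geo.IsMaximalIn (GU n F q ⊓ Cfsg.Geo.specialLinear (Fin n) F)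
      (Cfsg.Geo.decompositionStabilizer D ⊓ (GU n F q ⊓ Cfsg.Geo.specialLinear (Fin n) F)) := by
  obtain ⟨e, B, hB, hmap⟩ := exists_frame K hD
  have hBinv : ∀ i, (D i).map (Matrix.toLin' ((B⁻¹ : GL (Fin n) F) : Matrix (Fin n) (Fin n) F)) =
      bsub e F i := fun i => by
    rw [← hmap i, ← Submodule.map_comp, ← Matrix.toLin'_mul, ← Units.val_mul, inv_mul_cancel, Units.val_one,
      Matrix.toLin'_one, Submodule.map_id]
  have hL : ∀ g ∈ GU n F q ⊓ Cfsg.Geo.specialLinear (Fin n) F, ∀ c ∈ GU n F q,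
      c * g * c⁻¹ ∈ GU n F q ⊓ Cfsg.Geo.specialLinear (Fin n) F := fun g hg c hc =>
    ⟨(GU n F q).mul_mem ((GU n F q).mul_mem hc hg.1) ((GU n F q).inv_mem hc), (MonoidHom.normal_ker _).conj_mem g hg.2 c⟩
  have h := isMaximalIn_map (MulAut.conj B) (std_maximal K hn hmon hD.decomp.two_le hD.decomp.pos hex e)
  have hK : (GU n F q ⊓ Cfsg.Geo.specialLinear (Fin n) F).map (MulAut.conj B).toMonoidHom =
      GU n F q ⊓ Cfsg.Geo.specialLinear (Fin n) F := by
    refine le_antisymm (Subgroup.map_le_iff_le_comap.2 fun g hg => hL g hg B hB) fun g hg => ?_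
    exact ⟨B⁻¹ * g * B⁻¹⁻¹, hL g hg B⁻¹ (inv_mem hB), by simp [mul_assoc]⟩
  have hS : (Cfsg.Geo.decompositionStabilizer (bsub e F)).map (MulAut.conj B).toMonoidHom =
      Cfsg.Geo.decompositionStabilizer D := by
    refine le_antisymm (Subgroup.map_le_iff_le_comap.2 fun g hg => mem_decompStab_conj hmap hg) fun g hg => ?_
    exact ⟨B⁻¹ * g * B⁻¹⁻¹, mem_decompStab_conj hBinv hg, by simp [mul_assoc]⟩
  rwa [Subgroup.map_inf (Cfsg.Geo.decompositionStabilizer (bsub e F))
    (GU n F q ⊓ Cfsg.Geo.specialLinear (Fin n) F) _ (MulAut.conj B).injective, hK, hS] at h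

theorem decomposition_maximal (hn : 10 ≤ n) {D : Fin t → Submodule F V}
    (hD : Cfsg.Geo.IsNondegenerateMDecomposition H k D) (hex : ¬ (k = 2 ∧ q = 2)) :
    Cfsg.Geo.IsMaximalIn (GU n F q ⊓ Cfsg.Geo.specialLinear (Fin n) F)
      (Cfsg.Geo.decompositionStabilizer D ⊓ (GU n F q ⊓ Cfsg.Geo.specialLinear (Fin n) F)) :=
  decomposition_maximal_of K (by omega) (fun _ _ hM _ hg hgm => top_of_not_mon K (by omega) hM hg hgm) hD hex

/-- The same from dimension nine on. -/
theorem decomposition_maximal' (hn : 9 ≤ n) {D : Fin t → Submodule F V}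
    (hD : Cfsg.Geo.IsNondegenerateMDecomposition H k D) (hex : ¬ (k = 2 ∧ q = 2)) :
    Cfsg.Geo.IsMaximalIn (GU n F q ⊓ Cfsg.Geo.specialLinear (Fin n) F)
      (Cfsg.Geo.decompositionStabilizer D ⊓ (GU n F q ⊓ Cfsg.Geo.specialLinear (Fin n) F)) :=
  decomposition_maximal_of K (by omega) (fun _ _ hM _ hg hgm => top_of_not_mon K hn hM hg hgm) hD hex

/-- The same in dimension six. -/
theorem decomposition_maximal_six {D : Fin t → Submodule F (Fin 6 → F)}
    (hD : Cfsg.Geo.IsNondegenerateMDecomposition (hermForm 6 F q) k D)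
    (hex : k ≤ 2 → 3 ≤ q) :
    Cfsg.Geo.IsMaximalIn (GU 6 F q ⊓ Cfsg.Geo.specialLinear (Fin 6) F)
      (Cfsg.Geo.decompositionStabilizer D ⊓ (GU 6 F q ⊓ Cfsg.Geo.specialLinear (Fin 6) F)) :=
  decomposition_maximal_of K (by norm_num)
    (fun hk _ hM _ hg hgm => top_of_not_mon_six K (hex (by omega)) hM hg hgm) hD
    (fun h => absurd (hex (by omega)) (by omega))

end CfsgLib.Classical.HermDecompMax
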