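import Cfsg.Agent.Lib.Classical.UnitaryDecompMax.SixFull

set_option autoImplicit false
set_option linter.unusedSectionVars false

/-!
The monomial subgroup of `SU_8(q)` is maximal: monomial conjugates of double transpositions give
diagonal involutions with four eigenvalues `-1` whose conjugates are monomial, for all sets of four
places, and two such sets may share three places.
-/

namespace CfsgLib.Classical.HermDecompMax

open Matrix Cfsg CfsgLib.Classical.Herm
open CfsgLib.ClassicalAut (Unitary.Conj Unitary.space Unitary.herm_apply)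

section General

variable {F : Type*} [Field F] [Finite F] {q : ℕ} (K : Unitary.Conj F q) {n : ℕ}

local notation "V" => (Fin n → F)
local notation "G" => SU n F q
local notation "e[" s "]" => (Pi.single s 1 : Fin n → F)

include K

/-- A monomial conjugate of a diagonal element which is scalar on half of the places or more: the
element or its square has an eigen-axis. -/
theorem exists_fixed_or_sq {g d : G} {z : Fin n → F} (hm : Mon (g * d * g⁻¹))
    (hd : ∀ x s, app d x s = z s * x s) {T : Finset (Fin n)} (hT : 2 * T.card ≤ n) (hn : 4 ≤ n) {c₀ : F}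
    (hc₀ : c₀ ≠ 0) (hz : ∀ s ∉ T, z s = c₀) :
    ∃ a, app d (app g⁻¹ e[a]) = c₀ • app g⁻¹ e[a] ∨
      app d (app d (app g⁻¹ e[a])) = (c₀ * c₀) • app g⁻¹ e[a] := by
  classical
  by_contra hc
  push Not at hc
  obtain ⟨σ, c, -, hσ, -⟩ := hm.exists_perm K
  set x := g * d * g⁻¹ with hx
  have hxy : ∀ a, app g (app d (app g⁻¹ e[a])) = c a • e[σ a] := fun a => by
    rw [← hσ, hx, app_mul, app_mul]
  let W : Submodule F V := Submodule.span F ((T.image fun s => app g e[s] : Finset V) : Set V)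
  let v : Fin n → V := fun a => c a • e[σ a] - c₀ • e[a]
  have hmem : ∀ a, v a ∈ W := by
    intro a
    have e1 : v a = app g (app d (app g⁻¹ e[a]) - c₀ • app g⁻¹ e[a]) := by
      rw [show app g = lin g from rfl, map_sub, map_smul]
      show v a = app g (app d (app g⁻¹ e[a])) - c₀ • app g (app g⁻¹ e[a])
      rw [app_inv', hxy]
    set y := app g⁻¹ e[a]
    have e2 : app d y - c₀ • y = ∑ s ∈ T, ((z s - c₀) * y s) • e[s] := funext fun r => by
      rw [Pi.sub_apply, Pi.smul_apply, smul_eq_mul, hd, Finset.sum_apply]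
      by_cases hr : r ∈ T
      · rw [Finset.sum_eq_single r (fun s _ hs => by simp [hs.symm]) (by simp [hr])]
        simp; ring
      · rw [Finset.sum_eq_zero fun s hs => by simp [show r ≠ s from fun e => hr (e ▸ hs)], hz r hr]
        ring
    rw [e1, e2, show app g = lin g from rfl, map_sum]
    refine Submodule.sum_mem _ fun s hs => ?_
    rw [map_smul]
    exact Submodule.smul_mem _ _ (Submodule.subset_span (Finset.mem_coe.2
      (Finset.mem_image_of_mem (fun s => app g e[s]) hs)))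
  have hdiag : ∀ a, v a a ≠ 0 := fun a h => by
    by_cases hs : σ a = a
    · simp [v, hs] at h
      exact (hc a).1 (app_injective g (by rw [hxy, app_smul, app_inv', hs, sub_eq_zero.1 h]))
    · simp [v, Ne.symm hs] at h
      exact hc₀ h
  -- a first space supported on few places
  obtain ⟨a₀, hbase⟩ : ∃ a₀ : Fin n, ∃ k, ∃ X : Finset (Fin n), ∃ U : Submodule F V, 1 ≤ k ∧ k ≤ 2 ∧
      X.card + 1 ≤ 2 * k ∧ U ≤ W ∧ k ≤ Module.finrank F U ∧ (∀ u ∈ U, ∀ r ∉ X, u r = 0) ∧ a₀ ∈ X := by
    refine ⟨⟨0, by omega⟩, ?_⟩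
    generalize (⟨0, by omega⟩ : Fin n) = a
    have h1 : Module.finrank F (Submodule.span F {v a}) = 1 :=
      finrank_span_singleton fun e => hdiag a (by rw [e]; rfl)
    have hle1 : Submodule.span F {v a} ≤ W := Submodule.span_le.2 (Set.singleton_subset_iff.2 (hmem a))
    by_cases hs1 : σ a = a
    · refine ⟨1, {a}, Submodule.span F {v a}, le_rfl, by norm_num, by simp, hle1, h1.ge, fun u hu r hr => ?_,
        by simp⟩
      obtain ⟨t, rfl⟩ := Submodule.mem_span_singleton.1 hu
      simp at hr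
      simp [v, hs1, hr]
    have hnot : v (σ a) ∉ Submodule.span F {v a} := by
      intro hmem'
      obtain ⟨t, ht⟩ := Submodule.mem_span_singleton.1 hmem'
      have ea := congrFun ht a
      have eb := congrFun ht (σ a)
      by_cases hs2 : σ (σ a) = a
      · simp [v, hs1, Ne.symm hs1, hs2] at ea eb
        refine (hc a).2 (app_injective g ?_)
        have hd1 : app d (app g⁻¹ e[a]) = c a • app g⁻¹ e[σ a] :=
          app_injective g (by rw [hxy, app_smul, app_inv'])
        rw [hd1, app_smul, app_smul, hxy, hs2, app_smul, app_inv', smul_smul,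
          show c a * c (σ a) = c₀ * c₀ by linear_combination -(c a) * ea - c₀ * eb]
      · simp [v, hs1, Ne.symm hs1, Ne.symm hs2] at ea
        rcases ea with e | e
        · rw [e, zero_smul] at ht
          exact hdiag (σ a) (by rw [← ht]; rfl)
        · exact hc₀ e
    refine ⟨2, insert a (insert (σ a) {σ (σ a)}), Submodule.span F {v a} ⊔ Submodule.span F {v (σ a)},
      by norm_num, le_rfl, ?_, sup_le hle1 (Submodule.span_le.2 (Set.singleton_subset_iff.2 (hmem _))), ?_,
      fun u hu r hr => ?_, Finset.mem_insert_self _ _⟩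
    · have := Finset.card_le_three (a := a) (b := σ a) (c := σ (σ a))
      omega
    · have hlt : Submodule.span F {v a} < Submodule.span F {v a} ⊔ Submodule.span F {v (σ a)} :=
        lt_of_le_not_ge le_sup_left fun hle =>
          hnot (hle (Submodule.mem_sup_right (Submodule.mem_span_singleton_self _)))
      have := Submodule.finrank_lt_finrank_of_lt hlt
      omega
    · simp only [Finset.mem_insert, Finset.mem_singleton, not_or] at hr
      obtain ⟨u₁, hu₁, u₂, hu₂, rfl⟩ := Submodule.mem_sup.1 hu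
      obtain ⟨t, rfl⟩ := Submodule.mem_span_singleton.1 hu₁
      obtain ⟨t', rfl⟩ := Submodule.mem_span_singleton.1 hu₂
      simp [v, hr.1, hr.2.1, hr.2.2]
  obtain ⟨k₀, X₀, U₀, hk1, hk2, hX₀, hU₀W, hU₀k, hU₀, -⟩ := hbase
  have grow : ∀ j, k₀ + j ≤ T.card + 2 → k₀ + j ≤ T.card + 1 → ∃ X : Finset (Fin n),
      X.card + 1 ≤ 2 * (k₀ + j) ∧ ∃ U : Submodule F V, U ≤ W ∧
      k₀ + j ≤ Module.finrank F U ∧ ∀ u ∈ U, ∀ r ∉ X, u r = 0 := by
    intro j
    induction j with
    | zero => exact fun _ _ => ⟨X₀, hX₀, U₀, hU₀W, hU₀k, hU₀⟩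
    | succ j ih =>
      intro _ hj
      obtain ⟨X, hX, U, hUW, hUk, hU⟩ := ih (by omega) (by omega)
      obtain ⟨a, -, ha⟩ := Finset.exists_mem_notMem_of_card_lt_card (s := X)
        (t := (Finset.univ : Finset (Fin n))) (by rw [Finset.card_univ, Fintype.card_fin]; omega)
      refine ⟨insert a (insert (σ a) X), ?_, U ⊔ Submodule.span F {v a},
        sup_le hUW (Submodule.span_le.2 (Set.singleton_subset_iff.2 (hmem a))), ?_, fun u hu r hr => ?_⟩
      · have := Finset.card_insert_le a (insert (σ a) X)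
        have := Finset.card_insert_le (σ a) X
        omega
      · have hlt : U < U ⊔ Submodule.span F {v a} := lt_of_le_not_ge le_sup_left fun hle =>
          hdiag a (hU _ (hle (Submodule.mem_sup_right (Submodule.mem_span_singleton_self _))) a ha)
        have := Submodule.finrank_lt_finrank_of_lt hlt
        omega
      · simp only [Finset.mem_insert, not_or] at hr
        obtain ⟨u₁, hu₁, u₂, hu₂, rfl⟩ := Submodule.mem_sup.1 hu
        obtain ⟨t, rfl⟩ := Submodule.mem_span_singleton.1 hu₂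
        rw [Pi.add_apply, hU u₁ hu₁ r hr.2.2]
        simp [v, hr.1, hr.2.1]
  have h2 := (finrank_span_finset_le_card (R := F) (T.image fun s => app g e[s])).trans
    Finset.card_image_le
  unfold Set.finrank at h2
  by_cases hkT : k₀ ≤ T.card + 1
  · obtain ⟨X, -, U, hUW, hU5, -⟩ := grow (T.card + 1 - k₀) (by omega) (by omega)
    have h1 := Submodule.finrank_mono hUW
    simp only [W] at h1
    omega
  · have h1 := Submodule.finrank_mono hU₀W
    simp only [W] at h1
    omega

end General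

section Eight

variable {F : Type*} [Field F] [Finite F] {q : ℕ} (K : Unitary.Conj F q)

local notation "H" => hermForm 8 F q
local notation "V" => (Fin 8 → F)
local notation "G" => SU 8 F q
local notation "e[" s "]" => (Pi.single s 1 : Fin 8 → F)

variable {M : Subgroup (SU 8 F q)}

/-- Two pairs of inverse scalars and four ones, placed through `π`. -/
def pat₈ (π : Equiv.Perm (Fin 8)) (α β : F) : Fin 8 → F := fun s => ![α, α⁻¹, β, β⁻¹, 1, 1, 1, 1] (π s)

/-- The double transposition of the first two pairs. -/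
def dperm₈ : Equiv.Perm (Fin 8) := Equiv.swap 0 1 * Equiv.swap 2 3

/-- The double transposition of the first two pairs, placed through `π`. -/
def dswap₈ (π : Equiv.Perm (Fin 8)) : Equiv.Perm (Fin 8) := (π.trans dperm₈).trans π.symm

/-- The diagonal elements whose conjugate by `g` is monomial. -/
def Good₈ (g : G) (z : Fin 8 → F) : Prop :=
  ∃ d : G, (∀ x s, app d x s = z s * x s) ∧ Mon (g * d * g⁻¹)

theorem dswap₈_dswap₈ (π : Equiv.Perm (Fin 8)) (s : Fin 8) : dswap₈ π (dswap₈ π s) = s := by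
  have h : ∀ k : Fin 8, dperm₈ (dperm₈ k) = k := by decide
  simp only [dswap₈, Equiv.trans_apply, Equiv.apply_symm_apply, h, Equiv.symm_apply_apply]

theorem sign_dswap₈ (π : Equiv.Perm (Fin 8)) : Equiv.Perm.sign (dswap₈ π) = 1 := by
  have h : Equiv.Perm.sign dperm₈ = 1 := by decide
  rw [dswap₈, Equiv.Perm.sign_trans, Equiv.Perm.sign_trans, Equiv.Perm.sign_symm, h, one_mul,
    Int.units_mul_self]

theorem pat₈_dswap₈ (π : Equiv.Perm (Fin 8)) (α β : F) (s : Fin 8) :
    pat₈ π α β (dswap₈ π s) = pat₈ π α⁻¹ β⁻¹ s := by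
  simp only [pat₈, dswap₈, Equiv.trans_apply, Equiv.apply_symm_apply, inv_inv]
  generalize π s = k
  fin_cases k <;> simp [dperm₈, Equiv.swap_apply_def]

theorem pat₈_mul (π : Equiv.Perm (Fin 8)) (α β α' β' : F) (s : Fin 8) :
    pat₈ π α β s * pat₈ π α' β' s = pat₈ π (α * α') (β * β') s := by
  simp only [pat₈]
  generalize π s = k
  fin_cases k <;> simp [mul_comm]

include K

theorem circ_pat₈ (π : Equiv.Perm (Fin 8)) {α β : F} (hα : Circ K α) (hβ : Circ K β) (s : Fin 8) :
    Circ K (pat₈ π α β s) := by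
  simp only [pat₈]
  generalize π s = k
  fin_cases k <;> simp <;> first | exact hα | exact hα.inv | exact hβ | exact hβ.inv | exact circ_one K

theorem prod_pat₈ (π : Equiv.Perm (Fin 8)) {α β : F} (hα : Circ K α) (hβ : Circ K β) :
    ∏ s, pat₈ π α β s = 1 := by
  have e : ∏ s, pat₈ π α β s = ∏ k, ![α, α⁻¹, β, β⁻¹, (1 : F), 1, 1, 1] k :=
    Equiv.prod_comp π ![α, α⁻¹, β, β⁻¹, (1 : F), 1, 1, 1]
  rw [e, Fin.prod_univ_eight]
  simp [hα.ne_zero, hβ.ne_zero]

/-- The monomial double transposition with the given phases. -/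
theorem exists_dswap₈ (π : Equiv.Perm (Fin 8)) {x y : F} (hx : Circ K x) (hy : Circ K y) :
    ∃ μ : G, Mon μ ∧ (∀ v s, app μ v (dswap₈ π s) = pat₈ π x y s * v s) ∧ (∀ v, app μ (app μ v) = v) ∧
      ∀ v, ∃ α β : F, app μ v = v + α • (e[π.symm 0] - x • e[π.symm 1]) + β • (e[π.symm 2] - y • e[π.symm 3]) := by
  obtain ⟨μ, hμ, hμv⟩ := exists_mon K (dswap₈ π) (pat₈ π x y) (circ_pat₈ K π hx hy) (by
    rw [sign_dswap₈, Units.val_one, Int.cast_one, one_mul, prod_pat₈ K π hx hy])
  refine ⟨μ, hμ, hμv, fun v => funext fun r => ?_, fun v => ?_⟩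
  · obtain ⟨s, rfl⟩ : ∃ s, dswap₈ π (dswap₈ π s) = r := ⟨r, dswap₈_dswap₈ π r⟩
    rw [hμv, hμv, dswap₈_dswap₈, ← mul_assoc, pat₈_dswap₈, pat₈_mul]
    simp only [inv_mul_cancel₀ hx.ne_zero, inv_mul_cancel₀ hy.ne_zero, pat₈]
    generalize π s = k
    fin_cases k <;> simp
  refine ⟨x⁻¹ * v (π.symm 1) - v (π.symm 0), y⁻¹ * v (π.symm 3) - v (π.symm 2), funext fun r => ?_⟩
  obtain ⟨k, rfl⟩ := π.symm.surjective r
  have h := hμv v (dswap₈ π (π.symm k))
  rw [dswap₈_dswap₈] at h
  rw [h]
  have e : ∀ i j : Fin 8, π.symm i = π.symm j ↔ i = j := fun i j => π.symm.injective.eq_iff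
  have hx0 := hx.ne_zero
  have hy0 := hy.ne_zero
  simp only [pat₈, dswap₈, Equiv.trans_apply, Equiv.apply_symm_apply, Pi.add_apply, Pi.smul_apply,
    Pi.sub_apply, Pi.single_apply, e, smul_eq_mul]
  fin_cases k <;> simp [dperm₈, Equiv.swap_apply_def] <;> field_simp <;> ring

/-- A monomial conjugate of a double transposition has a zero diagonal entry. -/
theorem exists_dswap₈_zero (π : Equiv.Perm (Fin 8)) {u : V} (hu : ∀ s, u s ≠ 0) :
    ∃ x y : F, Circ K x ∧ Circ K y ∧ ∀ μ : G, (∀ v s, app μ v (dswap₈ π s) = pat₈ π x y s * v s) →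
      H (app μ u) u = 0 := by
  set C := u (π.symm 4) * K.bar (u (π.symm 4)) + u (π.symm 5) * K.bar (u (π.symm 5)) +
    u (π.symm 6) * K.bar (u (π.symm 6)) + u (π.symm 7) * K.bar (u (π.symm 7)) with hC
  obtain ⟨x, y, hx, hy, hxy⟩ := exists_trace_pair K (A := u (π.symm 0) * K.bar (u (π.symm 1)))
    (B := u (π.symm 2) * K.bar (u (π.symm 3))) (C := C) (mul_ne_zero (hu _) ((map_ne_zero K.bar).2 (hu _)))
    (mul_ne_zero (hu _) ((map_ne_zero K.bar).2 (hu _))) (by
      rw [hC, map_add, map_add, map_add, bar_norm K, bar_norm K, bar_norm K, bar_norm K])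
  refine ⟨x, y, hx, hy, fun μ hμ => ?_⟩
  have e0 : ∀ s, app μ u (dswap₈ π s) * K.bar (u (dswap₈ π s)) =
      pat₈ π x y s * u s * K.bar (u (dswap₈ π s)) := fun s => by rw [hμ]
  rw [Unitary.herm_apply K, ← Equiv.sum_comp (dswap₈ π), Finset.sum_congr rfl fun s _ => e0 s,
    ← Equiv.sum_comp π.symm, Fin.sum_univ_eight]
  simp only [pat₈, dswap₈, Equiv.trans_apply, Equiv.apply_symm_apply]
  rw [map_mul, map_mul, map_mul, map_mul, K.bar_bar, K.bar_bar, hx.bar_eq, hy.bar_eq, hC] at hxy
  simp [dperm₈, Equiv.swap_apply_def]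
  linear_combination hxy

/-- Diagonal elements scalar off three places are scalar. -/
theorem good_few₈ {g : G} (hfull : ∀ a b, app g⁻¹ e[a] b ≠ 0) {z : Fin 8 → F} (hz : Good₈ g z)
    (T : Finset (Fin 8)) (hT : T.card ≤ 3) {c₀ : F} (hc : ∀ s ∉ T, z s = c₀) (s : Fin 8) : z s = c₀ := by
  obtain ⟨d, hd, hm⟩ := hz
  obtain ⟨a, ha⟩ := exists_fixed_of_few K hm hd (T := T) (by omega) hc
  have e := congrFun ha s
  rw [hd] at e
  exact mul_right_cancel₀ (hfull a s) e

/-- A non-trivial good pattern is an involution with four eigenvalues `-1`. -/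
theorem pat₈_cases {g : G} (hfull : ∀ a b, app g⁻¹ e[a] b ≠ 0) (π : Equiv.Perm (Fin 8)) {α β : F}
    (hz : Good₈ g (pat₈ π α β)) : (α = 1 ∧ β = 1) ∨ (α = -1 ∧ β = -1 ∧ (2 : F) ≠ 0) := by
  classical
  set a := π.symm
  have val : ∀ α β k, pat₈ π α β (a k) = ![α, α⁻¹, β, β⁻¹, (1 : F), 1, 1, 1] k := fun α β k => by
    simp [pat₈, a]
  have one_side : ∀ {α β : F}, Good₈ g (pat₈ π α β) → α = 1 ∨ β = 1 → α = 1 ∧ β = 1 := by
    intro α β hz h
    rcases h with rfl | rfl
    · refine ⟨rfl, ?_⟩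
      have := good_few₈ K hfull hz {a 2, a 3} (Finset.card_le_two.trans (by norm_num)) (c₀ := 1)
        (fun s hs => ?_) (a 2)
      · rw [val] at this; simpa using this
      obtain ⟨k, rfl⟩ := a.surjective s
      simp only [Finset.mem_insert, Finset.mem_singleton, not_or, a.injective.eq_iff] at hs
      rw [val]
      fin_cases k <;> simp at hs ⊢
    · refine ⟨?_, rfl⟩
      have := good_few₈ K hfull hz {a 0, a 1} (Finset.card_le_two.trans (by norm_num)) (c₀ := 1)
        (fun s hs => ?_) (a 0)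
      · rw [val] at this; simpa using this
      obtain ⟨k, rfl⟩ := a.surjective s
      simp only [Finset.mem_insert, Finset.mem_singleton, not_or, a.injective.eq_iff] at hs
      rw [val]
      fin_cases k <;> simp at hs ⊢
  by_cases h1 : α = 1 ∨ β = 1
  · exact Or.inl (one_side hz h1)
  rw [not_or] at h1
  obtain ⟨d, hd, hm⟩ := hz
  obtain ⟨r, hr⟩ := exists_fixed_or_sq K hm hd (T := ({0, 1, 2, 3} : Finset (Fin 8)).image a) (by
      rw [Finset.card_image_of_injective _ a.injective]; decide) (by norm_num) (c₀ := 1) one_ne_zero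
    (fun s hs => by
      obtain ⟨k, rfl⟩ := a.surjective s
      rw [Finset.mem_image] at hs
      rw [val]
      fin_cases k <;> first | rfl | exact absurd ⟨_, by decide, rfl⟩ hs)
  rcases hr with hr | hr
  · refine absurd ?_ h1.1
    have e := congrFun hr (a 0)
    rw [hd, Pi.smul_apply, smul_eq_mul] at e
    have := mul_right_cancel₀ (hfull r (a 0)) e
    rw [val] at this
    simpa using this
  have sq : ∀ k, ![α, α⁻¹, β, β⁻¹, (1 : F), 1, 1, 1] k * ![α, α⁻¹, β, β⁻¹, (1 : F), 1, 1, 1] k = 1 :=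
    fun k => by
    have e := congrFun hr (a k)
    rw [hd, hd, Pi.smul_apply, smul_eq_mul, ← mul_assoc, one_mul] at e
    have := mul_right_cancel₀ (hfull r (a k)) e
    rwa [val] at this
  have ha : α = -1 := (mul_self_eq_one_iff.1 (by simpa using sq 0)).resolve_left h1.1
  have hb : β = -1 := (mul_self_eq_one_iff.1 (by simpa using sq 2)).resolve_left h1.2
  exact Or.inr ⟨ha, hb, fun h2 => h1.1 (by rw [ha]; linear_combination -h2)⟩

/-- A good involution for each four places. -/
theorem exists_neg_pat (hM : ∀ g, Mon g → g ∈ M) {g : G} (hg : g ∈ M) (htop : M ≠ ⊤)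
    (hfull : ∀ a b, app g⁻¹ e[a] b ≠ 0) (π : Equiv.Perm (Fin 8)) :
    Good₈ g (pat₈ π (-1 : F) (-1)) ∧ (2 : F) ≠ 0 := by
  classical
  have step : ∀ m, ∃ x y : F, Circ K x ∧ Circ K y ∧ ∃ μ : G,
      (∀ v s, app μ v (dswap₈ π s) = pat₈ π x y s * v s) ∧ Mon (g * μ * g⁻¹) ∧
      H (app μ (app g⁻¹ e[m])) (app g⁻¹ e[m]) = 0 ∧ ∃ r, app μ (app g⁻¹ e[r]) = app g⁻¹ e[r] := by
    intro m
    obtain ⟨x, y, hx, hy, hzero⟩ := exists_dswap₈_zero K π (hfull m)
    obtain ⟨μ, hμ, hμv, hμ2, hμp⟩ := exists_dswap₈ K π hx hy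
    have h0 := hzero μ hμv
    have hmon : Mon (g * μ * g⁻¹) := by
      by_contra hc
      refine htop (top_of_zero K le_rfl hM (M.mul_mem (M.mul_mem hg (hM μ hμ)) (M.inv_mem hg)) hc
        (k := m) (m := m) ?_)
      rw [← h_single K (app (g * μ * g⁻¹) e[m]) m]
      nth_rw 2 [← app_inv' g e[m]]
      rw [app_mul, app_mul, h_app]
      exact h0
    refine ⟨x, y, hx, hy, μ, hμv, hmon, h0, ?_⟩
    by_contra hc
    push Not at hc
    have := card_moved_invol K hmon (fun v => by
        simp only [app_mul, app_inv, hμ2, app_inv'])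
      (a := app g (e[π.symm 0] - x • e[π.symm 1])) (b := app g (e[π.symm 2] - y • e[π.symm 3]))
      (fun v => by
        obtain ⟨α, β, e⟩ := hμp (app g⁻¹ v)
        exact ⟨α, β, by rw [app_mul, app_mul, e, app_add, app_add, app_smul, app_smul, app_inv']⟩)
      Finset.univ fun r _ e => hc r (by
        rw [app_mul, app_mul] at e
        have e' := congrArg (app g⁻¹) e
        rwa [app_inv] at e')
    simp at this
  obtain ⟨x₁, y₁, hx₁, hy₁, μ₁, hμ₁, hm₁, -, r, hr⟩ := step 0
  obtain ⟨x₂, y₂, hx₂, hy₂, μ₂, hμ₂, hm₂, hz₂, -⟩ := step r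
  have hz : Good₈ g (pat₈ π (x₁⁻¹ * x₂) (y₁⁻¹ * y₂)) := by
    refine ⟨μ₁ * μ₂, fun v s => ?_, ?_⟩
    · have e1 := hμ₁ (app μ₂ v) (dswap₈ π s)
      rw [dswap₈_dswap₈, pat₈_dswap₈, hμ₂, ← mul_assoc, pat₈_mul] at e1
      rw [app_mul, e1]
    · have := mon_mul hm₁ hm₂
      rwa [show g * μ₁ * g⁻¹ * (g * μ₂ * g⁻¹) = g * (μ₁ * μ₂) * g⁻¹ by group] at this
  rcases pat₈_cases K hfull π hz with ⟨ha, hb⟩ | ⟨ha, hb, h2⟩
  · exfalso
    have ex : x₂ = x₁ := by
      have := congrArg (x₁ * ·) ha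
      simpa [← mul_assoc, mul_inv_cancel₀ hx₁.ne_zero] using this
    have ey : y₂ = y₁ := by
      have := congrArg (y₁ * ·) hb
      simpa [← mul_assoc, mul_inv_cancel₀ hy₁.ne_zero] using this
    subst ex ey
    have e : app μ₂ (app g⁻¹ e[r]) = app μ₁ (app g⁻¹ e[r]) := funext fun s => by
      obtain ⟨s, rfl⟩ := (dswap₈ π).surjective s
      rw [hμ₁, hμ₂]
    rw [e, hr, h_app, h_self_single K] at hz₂
    exact one_ne_zero hz₂
  · rw [ha, hb] at hz
    exact ⟨hz, h2⟩

/-- The monomial subgroup is maximal. -/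
theorem top_of_not_mon_eight (hM : ∀ g, Mon g → g ∈ M) {g : G} (hg : g ∈ M) (hgm : ¬ Mon g) :
    M = ⊤ := by
  classical
  by_contra htop
  have hfull : ∀ a b, app g⁻¹ e[a] b ≠ 0 := fun a b e =>
    htop (top_of_zero K le_rfl hM (M.inv_mem hg) (not_mon_inv K hgm) e)
  obtain ⟨⟨d, hd, hdm⟩, h2⟩ := exists_neg_pat K hM hg htop hfull 1
  obtain ⟨⟨d', hd', hdm'⟩, -⟩ := exists_neg_pat K hM hg htop hfull (Equiv.swap 3 4)
  set z : Fin 8 → F := fun s => pat₈ 1 (-1 : F) (-1) s * pat₈ (Equiv.swap 3 4) (-1 : F) (-1) s with hz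
  have hw : Good₈ g z := by
    refine ⟨d * d', fun x s => by rw [app_mul, hd, hd', hz, mul_assoc], ?_⟩
    have := mon_mul hdm hdm'
    rwa [show g * d * g⁻¹ * (g * d' * g⁻¹) = g * (d * d') * g⁻¹ by group] at this
  have := good_few₈ K hfull hw {3, 4} (Finset.card_le_two.trans (by norm_num)) (c₀ := 1) (fun s hs => by
    fin_cases s <;> simp [hz, pat₈, Equiv.swap_apply_def] at hs ⊢) 3
  simp [hz, pat₈, Equiv.swap_apply_def] at this
  exact h2 (by linear_combination -this)

end Eight

end CfsgLib.Classical.HermDecompMax
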