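import Cfsg.Agent.Lib.Classical.UnitaryDecompMax.Mon

set_option autoImplicit false
set_option linter.unusedSectionVars false

/-!
A group containing the monomial subgroup and a product of quasi-reflections, one along a vector with
few zero coordinates and one along a coordinate vector, contains all transvections of some centre.
-/

namespace CfsgLib.Classical.HermDecompMax

open Matrix Cfsg CfsgLib.Classical.Herm
open CfsgLib.ClassicalAut (Unitary.Conj Unitary.space Unitary.herm_apply)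

variable {F : Type*} [Field F] [Finite F] {q : ℕ} (K : Unitary.Conj F q) {n : ℕ}

local notation "H" => hermForm n F q
local notation "V" => (Fin n → F)
local notation "G" => SU n F q
local notation "e[" s "]" => (Pi.single s 1 : Fin n → F)

variable (q) in
/-- The quasi-reflection along a unit vector. -/
def rho (ν : F) (u x : V) : V := x + ((ν - 1) * hermForm n F q x u) • u

variable (q) in
/-- The product of the quasi-reflections along `u` and `u'` with inverse scalars lies in `M`. -/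
def Rel (M : Subgroup G) (ν : F) (u u' : V) : Prop :=
  ∃ g ∈ M, ∀ x, app g x = rho q ν u (rho q ν⁻¹ u' x)

variable (q) in
/-- Related to every coordinate vector. -/
def Ax (M : Subgroup G) (ν : F) (u : V) : Prop :=
  hermForm n F q u u = 1 ∧ ∀ a, Rel q M ν u (Pi.single a 1)

variable {M : Subgroup (SU n F q)}

include K

theorem rho_inv {ν : F} (hν : ν ≠ 0) {u : V} (hu : H u u = 1) (x : V) :
    rho q ν u (rho q ν⁻¹ u x) = x := by
  simp only [rho, h_add_left K, h_smul_left K, hu, mul_one, add_assoc, ← add_smul]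
  rw [show (ν⁻¹ - 1) * H x u + (ν - 1) * (H x u + (ν⁻¹ - 1) * H x u) =
    H x u * (ν * ν⁻¹ - 1) by ring, mul_inv_cancel₀ hν, sub_self, mul_zero, zero_smul, add_zero]

theorem rho_smul (ν : F) {a : F} (ha : Circ K a) (u x : V) : rho q ν (a • u) x = rho q ν u x := by
  have h : a * K.bar a = 1 := ha
  simp only [rho, h_smul_right K, smul_smul]
  congr 2
  linear_combination ((ν - 1) * H x u) * h

theorem rho_app (g : G) (ν : F) (u x : V) :
    app g (rho q ν u x) = rho q ν (app g u) (app g x) := by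
  simp only [rho, app_add, app_smul, h_app]

theorem rel_trans {ν : F} (hν : ν ≠ 0) {u u' w : V} (hu' : H u' u' = 1) (h : Rel q M ν u u')
    (h' : Rel q M ν u' w) : Rel q M ν u w := by
  obtain ⟨g, hg, e⟩ := h
  obtain ⟨g', hg', e'⟩ := h'
  have := rho_inv K (inv_ne_zero hν) hu'
  rw [inv_inv] at this
  exact ⟨g * g', M.mul_mem hg hg', fun x => by rw [app_mul, e, e', this]⟩

theorem rel_conj {g : G} (hg : g ∈ M) {ν : F} {u u' : V} (h : Rel q M ν u u') :
    Rel q M ν (app g u) (app g u') := by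
  obtain ⟨t, ht, e⟩ := h
  refine ⟨g * t * g⁻¹, M.mul_mem (M.mul_mem hg ht) (M.inv_mem hg), fun x => ?_⟩
  rw [app_mul, app_mul, e, rho_app K, rho_app K, app_inv']

theorem rel_single {ν : F} (hν : Circ K ν) (hM : ∀ g, Mon g → g ∈ M) (a b : Fin n) :
    Rel q M ν e[a] e[b] := by
  rcases eq_or_ne a b with rfl | hab
  · exact ⟨1, M.one_mem, fun x => by rw [app_one, rho_inv K hν.ne_zero (h_self_single K a)]⟩
  obtain ⟨g, hg, e⟩ := exists_dpair K hab hν
  refine ⟨g, hM g hg, fun x => funext fun s => ?_⟩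
  rw [e]
  simp only [rho, h_single K, Pi.add_apply, Pi.smul_apply, smul_eq_mul]
  rcases eq_or_ne s a with rfl | hsa
  · simp [hab]
    ring
  rcases eq_or_ne s b with rfl | hsb
  · simp [hsa]
    ring
  · simp [hsa, hsb]

theorem ax_of_rel {ν : F} (hν : Circ K ν) (hM : ∀ g, Mon g → g ∈ M) {u : V} (hu : H u u = 1)
    {b : Fin n} (h : Rel q M ν u e[b]) : Ax q M ν u :=
  ⟨hu, fun a => rel_trans K hν.ne_zero (h_self_single K b) h (rel_single K hν hM b a)⟩

theorem rel_smul {ν : F} {a b : F} (ha : Circ K a) (hb : Circ K b) {u u' : V}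
    (h : Rel q M ν (a • u) (b • u')) : Rel q M ν u u' := by
  obtain ⟨g, hg, e⟩ := h
  exact ⟨g, hg, fun x => by rw [e, rho_smul K ν ha, rho_smul K _ hb]⟩

theorem ax_smul {ν : F} {a : F} (ha : Circ K a) {u : V} (h : Ax q M ν u) :
    Ax q M ν (a • u) := by
  refine ⟨?_, fun b => ?_⟩
  · have : a * K.bar a = 1 := ha
    rw [h_smul_left K, h_smul_right K, h.1, mul_one, this]
  · obtain ⟨g, hg, e⟩ := h.2 b
    exact ⟨g, hg, fun x => by rw [e, rho_smul K ν ha]⟩

theorem ax_app {ν : F} (hν : Circ K ν) (hM : ∀ g, Mon g → g ∈ M) {g : G} (hg : Mon g) {u : V}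
    (h : Ax q M ν u) : Ax q M ν (app g u) := by
  obtain ⟨hu, hr⟩ := h
  have hu' : H (app g u) (app g u) = 1 := by rw [h_app]; exact hu
  obtain ⟨σ, c, hc, hgc, -⟩ := hg.exists_perm K
  refine ⟨hu', fun a => ?_⟩
  have h1 := rel_conj K (hM g hg) (hr (σ.symm a))
  rw [hgc, Equiv.apply_symm_apply] at h1
  exact rel_smul K (circ_one K) (hc _) (u := app g u) (by rwa [one_smul])

theorem ax_rho {ν : F} (hν : Circ K ν) (hM : ∀ g, Mon g → g ∈ M) {u u' : V} (h : Ax q M ν u)
    (h' : Ax q M ν u') {b : Fin n} (hb : u b = 0) (hb' : u' b = 0) :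
    Ax q M ν (rho q ν u u') := by
  obtain ⟨g, hg, e⟩ := h.2 b
  have e1 : app g e[b] = ν⁻¹ • e[b] := by
    simp only [e, rho, h_add_left K, h_smul_left K, h_self_single K, h_single_left K, hb, map_zero,
      mul_zero, mul_one, add_zero, zero_smul]
    module
  have e2 : app g u' = rho q ν u u' := by
    rw [e]
    congr 1
    rw [rho, h_single K, hb', mul_zero, zero_smul, add_zero]
  have h1 := rel_conj K hg (h'.2 b)
  rw [e1, e2] at h1
  have h2 : H (rho q ν u u') (rho q ν u u') = 1 := by rw [← e2, h_app]; exact h'.1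
  exact ax_of_rel K hν hM h2 (rel_smul K (circ_one K) hν.inv (u := rho q ν u u') (by rwa [one_smul]))

theorem norm_eq_one {u : V} (hu : H u u = 1) : ∑ s, u s * K.bar (u s) = 1 := by
  rw [← Unitary.herm_apply K]; exact hu

theorem sum_supp_norm (u : V) :
    ∑ s ∈ supp u, u s * K.bar (u s) = ∑ s, u s * K.bar (u s) :=
  Finset.sum_subset (Finset.subset_univ _) fun s _ hs => by rw [notMem_supp.1 hs, zero_mul]

/-- One growing step. -/
theorem exists_grow_step {ν : F} (hν : Circ K ν) (hν2 : ν ^ 2 ≠ 1) (hM : ∀ g, Mon g → g ∈ M)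
    {u : V} (h : Ax q M ν u) {b : Fin n} (hb : u b = 0) (σ : Equiv.Perm (Fin n)) (hσb : σ b = b)
    (hσ : ∀ s ∈ supp u, σ s = s ∨ u (σ s) = 0) (hinv : ∀ s, σ (σ s) = s) {i : Fin n}
    (hi : i ∈ supp u) (hσi : σ i ≠ i)
    (hS : ∑ s ∈ (supp u).filter (fun s => σ s ≠ s), u s * K.bar (u s) ≠ 1) :
    ∃ u', Ax q M ν u' ∧ u' b = 0 ∧ (supp u).card < (supp u').card := by
  classical
  obtain ⟨g, hg, hgx⟩ := exists_mon_off K σ (fun _ => 1) (fun _ => circ_one K) b
  set v := app g u
  have hv : ∀ s, v (σ s) = u s := fun s => (hgx u hb s).trans (one_mul _)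
  have hv' : ∀ s, v s = u (σ s) := fun s => by
    conv_lhs => rw [← hinv s]
    rw [hv]
  have hAv : Ax q M ν v := ax_app K hν hM hg h
  have hvb : v b = 0 := by rw [hv', hσb, hb]
  set u' := rho q ν v u with hu'
  refine ⟨u', ax_rho K hν hM hAv h hvb hb, by simp [hu', rho, hvb, hb], ?_⟩
  set W := H u v with hW
  have hWval : W = ∑ s ∈ (supp u).filter (fun s => σ s = s), u s * K.bar (u s) := by
    rw [hW, Unitary.herm_apply K, Finset.sum_filter,
      ← Finset.sum_subset (Finset.subset_univ (supp u)) (fun s _ hs => by rw [notMem_supp.1 hs, zero_mul])]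
    refine Finset.sum_congr rfl fun s hs => ?_
    rw [hv']
    split_ifs with e
    · rw [e]
    · rw [(hσ s hs).resolve_left e, map_zero, mul_zero]
  have hW0 : W ≠ 0 := by
    intro e
    refine hS ?_
    have := Finset.sum_filter_add_sum_filter_not (supp u) (fun s => σ s = s) fun s => u s * K.bar (u s)
    rw [← hWval, e, zero_add, sum_supp_norm K, norm_eq_one K h.1] at this
    exact this
  have hWfix : K.bar W = W := by
    rw [hWval, map_sum]; exact Finset.sum_congr rfl fun s _ => bar_norm K _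
  have hν1 : ν - 1 ≠ 0 := sub_ne_zero.2 fun e => hν2 (by rw [e, one_pow])
  have hc1 : 1 + (ν - 1) * W ≠ 0 := fun e => by
    have e' := congrArg K.bar e
    rw [map_add, map_mul, map_sub, map_one, map_zero, hWfix, hν.bar_eq] at e'
    have e3 : (ν - ν⁻¹) * W = 0 := by linear_combination e - e'
    refine hν2 ?_
    rw [sq]
    nth_rw 2 [sub_eq_zero.1 ((mul_eq_zero.1 e3).resolve_right hW0)]
    exact mul_inv_cancel₀ hν.ne_zero
  have hu's : ∀ s, u' s = u s + (ν - 1) * W * u (σ s) := fun s => by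
    simp [hu', rho, hv', ← hW]
  have hsub : insert (σ i) (supp u) ⊆ supp u' := by
    intro s hs
    rw [mem_supp, hu's]
    rw [Finset.mem_insert] at hs
    rcases hs with rfl | hs
    · rw [(hσ i hi).resolve_left hσi, zero_add, hinv]
      exact mul_ne_zero (mul_ne_zero hν1 hW0) (mem_supp.1 hi)
    · rcases hσ s hs with e | e
      · rw [e, show u s + (ν - 1) * W * u s = (1 + (ν - 1) * W) * u s by ring]
        exact mul_ne_zero hc1 (mem_supp.1 hs)
      · rw [e, mul_zero, add_zero]; exact mem_supp.1 hs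
  have := Finset.card_le_card hsub
  rw [Finset.card_insert_of_notMem (fun hc => mem_supp.1 hc ((hσ i hi).resolve_left hσi))] at this
  omega

/-- Growing while two coordinates are free. -/
theorem exists_grow {ν : F} (hν : Circ K ν) (hν2 : ν ^ 2 ≠ 1) (hM : ∀ g, Mon g → g ∈ M) {u : V}
    (h : Ax q M ν u) (h2 : 2 ≤ (supp u).card) {b : Fin n} (hb : u b = 0)
    (hn : (supp u).card + 3 ≤ n) : ∃ u', Ax q M ν u' ∧ u' b = 0 ∧ (supp u).card < (supp u').card := by
  classical
  set R := Finset.univ \ insert b (supp u) with hR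
  obtain ⟨o, o', ho, ho', hoo⟩ : ∃ o o', o ∈ R ∧ o' ∈ R ∧ o ≠ o' := by
    refine Finset.one_lt_card_iff.1 ?_
    rw [hR, Finset.card_sdiff_of_subset (Finset.subset_univ _), Finset.card_univ, Fintype.card_fin]
    have := Finset.card_insert_le b (supp u)
    omega
  simp only [hR, Finset.mem_sdiff, Finset.mem_univ, true_and, Finset.mem_insert, not_or,
    notMem_supp] at ho ho'
  have hne : ∀ s ∈ supp u, s ≠ b ∧ s ≠ o ∧ s ≠ o' := fun s hs =>
    ⟨fun e => mem_supp.1 hs (e ▸ hb), fun e => mem_supp.1 hs (e ▸ ho.2),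
      fun e => mem_supp.1 hs (e ▸ ho'.2)⟩
  by_cases h1 : ∃ i ∈ supp u, u i * K.bar (u i) ≠ 1
  · obtain ⟨i, hi, hi1⟩ := h1
    obtain ⟨hib, hio, -⟩ := hne i hi
    refine exists_grow_step K hν hν2 hM h hb (Equiv.swap i o)
      (Equiv.swap_apply_of_ne_of_ne hib.symm (Ne.symm ho.1)) (fun s hs => ?_)
      (fun s => Equiv.swap_apply_self i o s) hi (by rw [Equiv.swap_apply_left]; exact hio.symm) ?_
    · rcases eq_or_ne s i with rfl | hsi
      · exact Or.inr (by rw [Equiv.swap_apply_left]; exact ho.2)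
      · exact Or.inl (Equiv.swap_apply_of_ne_of_ne hsi (hne s hs).2.1)
    · rw [show (supp u).filter (fun s => Equiv.swap i o s ≠ s) = {i} from ?_, Finset.sum_singleton]
      · exact hi1
      · refine Finset.ext fun s => ?_
        rw [Finset.mem_filter, Finset.mem_singleton]
        refine ⟨fun hs => by_contra fun hsi =>
          hs.2 (Equiv.swap_apply_of_ne_of_ne hsi (hne s hs.1).2.1), fun e => ?_⟩
        subst e
        exact ⟨hi, by rw [Equiv.swap_apply_left]; exact hio.symm⟩
  · push Not at h1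
    obtain ⟨i, i', hi, hi', hii⟩ := Finset.one_lt_card_iff.1 (show 1 < (supp u).card by omega)
    obtain ⟨hib, hio, hio'⟩ := hne i hi
    obtain ⟨hi'b, hi'o, hi'o'⟩ := hne i' hi'
    set σ := Equiv.swap i o * Equiv.swap i' o' with hσdef
    have e1 : σ i = o := by
      rw [hσdef, Equiv.Perm.mul_apply, Equiv.swap_apply_of_ne_of_ne hii hio', Equiv.swap_apply_left]
    have e2 : σ i' = o' := by
      rw [hσdef, Equiv.Perm.mul_apply, Equiv.swap_apply_left,
        Equiv.swap_apply_of_ne_of_ne hio'.symm hoo.symm]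
    have e3 : σ o = i := by
      rw [hσdef, Equiv.Perm.mul_apply, Equiv.swap_apply_of_ne_of_ne hi'o.symm hoo, Equiv.swap_apply_right]
    have e4 : σ o' = i' := by
      rw [hσdef, Equiv.Perm.mul_apply, Equiv.swap_apply_right,
        Equiv.swap_apply_of_ne_of_ne hii.symm hi'o]
    have e5 : ∀ s, s ≠ i → s ≠ i' → s ≠ o → s ≠ o' → σ s = s := fun s a b c d => by
      rw [hσdef, Equiv.Perm.mul_apply, Equiv.swap_apply_of_ne_of_ne b d, Equiv.swap_apply_of_ne_of_ne a c]
    refine exists_grow_step K hν hν2 hM h hb σ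
      (e5 b hib.symm hi'b.symm (Ne.symm ho.1) (Ne.symm ho'.1))
      (fun s hs => ?_) (fun s => ?_) hi (by rw [e1]; exact hio.symm) ?_
    · rcases eq_or_ne s i with rfl | hsi
      · exact Or.inr (e1 ▸ ho.2)
      rcases eq_or_ne s i' with rfl | hsi'
      · exact Or.inr (e2 ▸ ho'.2)
      exact Or.inl (e5 s hsi hsi' (hne s hs).2.1 (hne s hs).2.2)
    · rcases eq_or_ne s i with rfl | a
      · rw [e1, e3]
      rcases eq_or_ne s i' with rfl | b
      · rw [e2, e4]
      rcases eq_or_ne s o with rfl | c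
      · rw [e3, e1]
      rcases eq_or_ne s o' with rfl | d
      · rw [e4, e2]
      rw [e5 s a b c d, e5 s a b c d]
    · rw [show (supp u).filter (fun s => σ s ≠ s) = {i, i'} from ?_, Finset.sum_pair hii, h1 i hi,
        h1 i' hi']
      · exact fun e => one_ne_zero (α := F) (by linear_combination e)
      · refine Finset.ext fun s => ?_
        rw [Finset.mem_filter, Finset.mem_insert, Finset.mem_singleton]
        refine ⟨fun hs => by_contra fun hc => ?_, fun e => ?_⟩
        · rw [not_or] at hc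
          exact hs.2 (e5 s hc.1 hc.2 (hne s hs.1).2.1 (hne s hs.1).2.2)
        · rcases e with e | e <;> subst e
          · exact ⟨hi, by rw [e1]; exact hio.symm⟩
          · exact ⟨hi', by rw [e2]; exact hi'o'.symm⟩

/-- Enlarging the support. -/
theorem exists_big {ν : F} (hν : Circ K ν) (hν2 : ν ^ 2 ≠ 1) (hn : 8 ≤ n)
    (hM : ∀ g, Mon g → g ∈ M) {u : V} (h : Ax q M ν u) (h2 : 2 ≤ (supp u).card) {b : Fin n}
    (hb : u b = 0) : ∃ u', Ax q M ν u' ∧ u' b = 0 ∧ 6 ≤ (supp u').card := by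
  suffices key : ∀ m, ∀ u : V, Ax q M ν u → 2 ≤ (supp u).card → u b = 0 → 6 ≤ (supp u).card + m →
      ∃ u', Ax q M ν u' ∧ u' b = 0 ∧ 6 ≤ (supp u').card from
    key 6 u h h2 hb (by omega)
  intro m
  induction m with
  | zero => exact fun u h _ hb h7 => ⟨u, h, hb, h7⟩
  | succ m ih =>
    intro u h h2 hb h7
    by_cases h7' : 6 ≤ (supp u).card
    · exact ⟨u, h, hb, h7'⟩
    obtain ⟨u', h', hb', hlt⟩ := exists_grow K hν hν2 hM h h2 hb (by omega)
    exact ih u' h' (by omega) hb' (by omega)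

/-- A related vector with a coordinate of norm one gives all transvections of a centre. -/
theorem centre_of_ax_unit {ν : F} (hν : Circ K ν) (hν1 : ν ≠ 1) (hM : ∀ g, Mon g → g ∈ M) {w : V}
    (hAw : Ax q M ν w) {j b : Fin n} (hjb : j ≠ b) (hwj1 : w j = 1) (hwb : w b = 0) :
    w - e[j] ∈ centres K M := by
  classical
  set k := w - e[j] with hk
  have hkj : k j = 0 := by simp [hk, hwj1]
  have hkk : H k k = 0 := by
    rw [hk, h_sub_left K, h_sub_right K, h_sub_right K, hAw.1, h_self_single K, h_single K,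
      h_single_left K, hwj1, map_one]; ring
  refine ⟨hkk, ?_⟩
  set ε := ν - 1 with hεdef
  have hε : ε ≠ 0 := sub_ne_zero.2 hν1
  -- the Siegel elements
  have hE : ∀ z : F, Circ K z → ∃ E ∈ M, ∀ x, app E x =
      x + (ε * H x k * z) • e[j] + (ε * H x k - (ν⁻¹ - 1) * K.bar z * x j) • k := by
    intro z hz
    obtain ⟨δ, hδ, hδx⟩ := exists_mon_off K 1 (Function.update (fun _ => (1 : F)) j z) (fun s => by
      rw [Function.update_apply]; split_ifs <;> first | exact hz | exact circ_one K) b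
    have hw : app δ w = z • e[j] + k := funext fun s => by
      have := hδx w hwb s
      rw [Equiv.Perm.one_apply] at this
      rw [this]
      rcases eq_or_ne s j with rfl | hs
      · simp [hk, hwj1]
      · simp [hk, hs]
    have hAz := ax_app K hν hM hδ hAw
    rw [hw] at hAz
    obtain ⟨E, hE, hEx⟩ := hAz.2 j
    refine ⟨E, hE, fun x => ?_⟩
    have hjk : H e[j] k = 0 := by rw [h_single_left K, hkj, map_zero]
    have hνν : ν * ν⁻¹ = 1 := mul_inv_cancel₀ hν.ne_zero
    have hzz : z * K.bar z = 1 := hz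
    rw [hEx]
    simp only [rho, h_single K, h_add_left K, h_add_right K, h_smul_left K, h_smul_right K,
      h_self_single K, hjk, Pi.single_eq_same]
    have c1 : (ν⁻¹ - 1) * x j + (ν - 1) * (K.bar z * x j + H x k + (ν⁻¹ - 1) * x j * K.bar z) * z =
        ε * H x k * z := by
      show _ = (ν - 1) * H x k * z
      linear_combination ((ν - 1) * ν⁻¹ * x j) * hzz + x j * hνν
    have c2 : (ν - 1) * (K.bar z * x j + H x k + (ν⁻¹ - 1) * x j * K.bar z) =
        ε * H x k - (ν⁻¹ - 1) * K.bar z * x j := by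
      show _ = (ν - 1) * H x k - _
      linear_combination (K.bar z * x j) * hνν
    rw [← c1, ← c2]
    module
  set s₀ := ε * (ν⁻¹ - 1) with hs₀
  have hs₀fix : K.bar s₀ = s₀ := by
    rw [hs₀]
    show K.bar ((ν - 1) * (ν⁻¹ - 1)) = (ν - 1) * (ν⁻¹ - 1)
    rw [map_mul, map_sub, map_sub, map_one, map_inv₀, hν.bar_eq, inv_inv]; ring
  have hs₀0 : s₀ ≠ 0 := mul_ne_zero hε (sub_ne_zero.2 fun e => hν1 (inv_eq_one.1 e))
  have hgood : ∀ c, c + K.bar c = 0 → ∃ t ∈ M, ∀ x, app t x = x + (c * H x k) • k := by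
    intro c hc
    refine skew_induction K (P := fun c => ∃ t ∈ M, ∀ x, app t x = x + (c * H x k) • k)
      ⟨1, M.one_mem, fun x => by rw [app_one, zero_mul, zero_smul, add_zero]⟩ ?_ ?_ hs₀0 hs₀fix ?_ hc
    · rintro a b ⟨t, ht, e⟩ ⟨t', ht', e'⟩
      refine ⟨t * t', M.mul_mem ht ht', fun x => ?_⟩
      rw [app_mul, e, e', h_add_left K, h_smul_left K, hkk]
      module
    · rintro a ⟨t, ht, e⟩
      refine ⟨t⁻¹, M.inv_mem ht, fun x => app_injective t ?_⟩
      rw [app_inv', e, h_add_left K, h_smul_left K, hkk]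
      module
    · intro z hz
      obtain ⟨E, hE', hEx⟩ := hE z hz
      obtain ⟨E₁, hE₁, hE₁x⟩ := hE 1 (circ_one K)
      refine ⟨E * E₁ * (E₁ * E)⁻¹, M.mul_mem (M.mul_mem hE' hE₁) (M.inv_mem (M.mul_mem hE₁ hE')),
        fun x => ?_⟩
      obtain ⟨y, rfl⟩ : ∃ y, app (E₁ * E) y = x := ⟨_, app_inv' _ x⟩
      rw [app_mul, app_inv]
      have hh : ∀ y, H (app E y) k = H y k ∧ H (app E₁ y) k = H y k := fun y => by
        simp [hEx, hE₁x, h_add_left K, h_smul_left K, hkk, h_single_left K, hkj]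
      rw [app_mul, app_mul, hEx (app E₁ y), hE₁x (app E y), h_add_left K, h_add_left K, h_smul_left K,
        h_smul_left K, hkk, h_single_left K, hkj, map_zero, (hh y).1, (hh y).2, hE₁x y, hEx y,
        map_one]
      simp only [Pi.add_apply, Pi.smul_apply, Pi.single_eq_same, hkj, smul_eq_mul, hs₀, mul_one,
        mul_zero, add_zero]
      module
  intro t c ht
  obtain ⟨t', ht', e⟩ := hgood c ht.2.1
  rwa [show t = t' from ext_app fun x => (ht.2.2 x).trans (e x).symm]

/-- From a related vector with large support, all transvections of a centre. -/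
theorem exists_centre {ν : F} (hν : Circ K ν) (hν1 : ν ≠ 1)
    (hM : ∀ g, Mon g → g ∈ M) {u : V} (h : Ax q M ν u) (h7 : 6 ≤ (supp u).card) {b : Fin n}
    (hb : u b = 0) : ∃ k ∈ centres K M, 2 ≤ (supp k).card ∧ ∃ a a', a ≠ a' ∧ k a = 0 ∧ k a' = 0 := by
  classical
  obtain ⟨j, hj⟩ := Finset.card_pos.1 (show 0 < (supp u).card by omega)
  obtain ⟨A, hA, hA4⟩ := Finset.exists_subset_card_eq (s := (supp u).erase j) (n := 4) (by
    rw [Finset.card_erase_of_mem hj]; omega)
  have hNj : u j * K.bar (u j) ≠ 0 := fun e => mem_supp.1 hj (norm_eq_zero K e)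
  obtain ⟨a, ha⟩ := K.exists_norm (u j * K.bar (u j))⁻¹ (by rw [map_inv₀, bar_norm K])
  have ha0 : a ≠ 0 := fun e => inv_ne_zero hNj (by rw [← ha, e, zero_mul])
  set ε := ν - 1
  have hε : ε ≠ 0 := sub_ne_zero.2 hν1
  set W := (a - 1) / ε with hW
  obtain ⟨z, hz, hz1, hsum⟩ := circ_sum K (A := A) (by omega)
    (f := fun s => u s * K.bar (u s))
    (fun s hs e => mem_supp.1 (Finset.mem_of_mem_erase (hA hs)) (norm_eq_zero K e))
    (W - ∑ s ∈ Finset.univ \ A, u s * K.bar (u s))
  obtain ⟨g, hg, hgx⟩ := exists_mon_off K 1 (fun s => K.bar (z s)) (fun s => (hz s).bar) b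
  set v := app g u
  have hv : ∀ s, v s = K.bar (z s) * u s := hgx u hb
  have hvb : v b = 0 := by rw [hv, hb, mul_zero]
  have hHW : H u v = W := by
    have e : ∀ s, u s * K.bar (v s) = u s * K.bar (u s) * z s := fun s => by
      rw [hv, map_mul, K.bar_bar]; ring
    rw [Unitary.herm_apply K, Finset.sum_congr rfl (fun s _ => e s),
      ← Finset.sum_sdiff (Finset.subset_univ A), hsum,
      Finset.sum_congr rfl (fun s hs => by rw [hz1 s (Finset.mem_sdiff.1 hs).2, mul_one])]
    ring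
  set u' := rho q ν v u with hu'
  have hAu' : Ax q M ν u' := ax_rho K hν hM (ax_app K hν hM hg h) h hvb hb
  have hu's : ∀ s, u' s = u s * (1 + (a - 1) * K.bar (z s)) := fun s => by
    rw [hu', rho, Pi.add_apply, Pi.smul_apply, hHW, smul_eq_mul, hv]
    show u s + ε * ((a - 1) / ε) * (K.bar (z s) * u s) = _
    rw [mul_div_cancel₀ _ hε]; ring
  have hout : ∀ s, s ∉ A → u' s = u s * a := fun s hs => by rw [hu's, hz1 s hs, map_one]; ring
  have hjA : j ∉ A := fun e => (Finset.mem_erase.1 (hA e)).1 rfl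
  have hwj : Circ K (u' j) := by
    unfold Circ
    rw [hout j hjA, map_mul, mul_mul_mul_comm, ha, mul_inv_cancel₀ hNj]
  have hAw : Ax q M ν ((u' j)⁻¹ • u') := ax_smul K hwj.inv hAu'
  set w := (u' j)⁻¹ • u'
  have hwj1 : w j = 1 := inv_mul_cancel₀ hwj.ne_zero
  have hwb : w b = 0 := by simp [w, hu', rho, hvb, hb]
  set k := w - e[j] with hk
  have hkj : k j = 0 := by simp [hk, hwj1]
  have hjb : j ≠ b := fun e => mem_supp.1 hj (e ▸ hb)
  have hkb : k b = 0 := by simp [hk, hwb, hjb.symm]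
  refine ⟨k, centre_of_ax_unit K hν hν1 hM hAw hjb hwj1 hwb, ?_, j, b, hjb, hkj, hkb⟩
  have hsub : ((supp u).erase j) \ A ⊆ supp k := fun s hs => by
    rw [Finset.mem_sdiff, Finset.mem_erase] at hs
    rw [mem_supp]
    simp [hk, w, hs.1.1, hout s hs.2, mem_supp.1 hs.1.2, ha0, hwj.ne_zero]
  have h1 := Finset.card_le_card hsub
  rw [Finset.card_sdiff_of_subset hA, Finset.card_erase_of_mem hj, hA4] at h1
  by_contra hc
  obtain ⟨r, hr⟩ := Finset.card_eq_one.1 (show (supp k).card = 1 by omega)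
  have h0 := (centre_of_ax_unit K hν hν1 hM hAw hjb hwj1 hwb).1
  rw [← hk, Unitary.herm_apply K, ← sum_supp_norm K, hr, Finset.sum_singleton] at h0
  exact mem_supp.1 (hr.symm ▸ Finset.mem_singleton_self r) (norm_eq_zero K h0)

end CfsgLib.Classical.HermDecompMax
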