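import Cfsg.Agent.Lib.Classical.UnitaryDecompMax.Scalars

set_option autoImplicit false
set_option linter.unusedSectionVars false

/-!
Monomial elements of `SU_n(q)`.
-/

namespace CfsgLib.Classical.HermDecompMax

open Matrix Cfsg CfsgLib.Classical.Herm
open CfsgLib.ClassicalAut (Unitary.Conj Unitary.space Unitary.herm_apply)

variable {F : Type*} [Field F] [Finite F] {q : ℕ} (K : Unitary.Conj F q) {n : ℕ}

local notation "H" => hermForm n F q
local notation "V" => (Fin n → F)
local notation "G" => SU n F q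
local notation "e[" s "]" => (Pi.single s 1 : Fin n → F)

omit [Finite F] in
theorem app_zero (g : G) : app g (0 : V) = 0 := mulVec_zero _

omit [Finite F] in
theorem app_sub (g : G) (x y : V) : app g (x - y) = app g x - app g y := mulVec_sub _ _ _

omit [Finite F] in
theorem app_neg (g : G) (x : V) : app g (-x) = -app g x := mulVec_neg _ _

/-- A multiple of a coordinate vector. -/
def IsAxis (v : V) : Prop := ∃ (s : Fin n) (c : F), v = c • e[s]

/-- The elements carrying coordinate vectors to multiples of coordinate vectors. -/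
def Mon (g : G) : Prop := ∀ s, IsAxis (app g e[s])

/-- The support of a vector. -/
noncomputable def supp (v : V) : Finset (Fin n) := (Set.toFinite {s | v s ≠ 0}).toFinset

theorem mem_supp {v : V} {s : Fin n} : s ∈ supp v ↔ v s ≠ 0 := by
  simp [supp]

theorem notMem_supp {v : V} {s : Fin n} : s ∉ supp v ↔ v s = 0 := by rw [mem_supp, not_ne_iff]

omit [Finite F] in
theorem mon_mul {g h : G} (hg : Mon g) (hh : Mon h) : Mon (g * h) := fun s => by
  obtain ⟨r, c, hr⟩ := hh s
  obtain ⟨r', c', hr'⟩ := hg r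
  exact ⟨r', c * c', by rw [app_mul, hr, app_smul, hr', smul_smul]⟩

include K

theorem h_self_single (s : Fin n) : H e[s] e[s] = 1 := by rw [h_single K]; simp

theorem app_single_ne_zero (g : G) (s : Fin n) : app g e[s] ≠ 0 := fun e => by
  have h := h_app g e[s] e[s]
  rw [e, h_self_single K, h_zero_left K] at h
  exact zero_ne_one h

/-- The permutation and the phases of a monomial element. -/
theorem Mon.exists_perm {g : G} (hg : Mon g) : ∃ (σ : Equiv.Perm (Fin n)) (c : Fin n → F),
    (∀ s, Circ K (c s)) ∧ (∀ s, app g e[s] = c s • e[σ s]) ∧ ∀ x s, app g x (σ s) = c s * x s := by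
  choose r c hr using hg
  have hc : ∀ s, Circ K (c s) := fun s => by
    have h := h_app g e[s] e[s]
    rw [hr, h_smul_left K, h_smul_right K, h_self_single K, h_self_single K, mul_one] at h
    exact h
  have hinj : Function.Injective r := by
    intro a b hab
    by_contra hne
    have h := h_app g e[a] e[b]
    rw [hr, hr, hab, h_smul_left K, h_smul_right K, h_self_single K, mul_one,
      h_single K e[a] b, Pi.single_eq_of_ne (Ne.symm hne)] at h
    exact mul_ne_zero (hc a).ne_zero ((map_ne_zero K.bar).2 (hc b).ne_zero) h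
  refine ⟨Equiv.ofBijective r (Finite.injective_iff_bijective.1 hinj), c, hc, hr, fun x s => ?_⟩
  have h := h_app g x e[s]
  rw [hr, h_smul_right K, h_single K, h_single K] at h
  show app g x (r s) = c s * x s
  have hcs : c s * K.bar (c s) = 1 := hc s
  linear_combination c s * h - app g x (r s) * hcs

theorem mon_inv {g : G} (hg : Mon g) : Mon g⁻¹ := fun s => by
  obtain ⟨σ, c, hc, hr, -⟩ := hg.exists_perm K
  refine ⟨σ.symm s, (c (σ.symm s))⁻¹, ?_⟩
  have h := hr (σ.symm s)
  rw [Equiv.apply_symm_apply] at h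
  have h' : e[s] = app g ((c (σ.symm s))⁻¹ • e[σ.symm s]) := by
    rw [app_smul, h, smul_smul, inv_mul_cancel₀ (hc _).ne_zero, one_smul]
  conv_lhs => rw [h', app_inv]

/-- Monomial elements with prescribed permutation and phases. -/
theorem exists_mon (σ : Equiv.Perm (Fin n)) (z : Fin n → F) (hz : ∀ s, Circ K (z s))
    (hd : ((Equiv.Perm.sign σ : ℤ) : F) * ∏ s, z s = 1) :
    ∃ g : G, Mon g ∧ ∀ x s, app g x (σ s) = z s * x s := by
  set A : Matrix (Fin n) (Fin n) F := σ⁻¹.permMatrix F * diagonal z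
  have hA : ∀ x s, (A *ᵥ x) (σ s) = z s * x s := fun x s => by
    rw [← mulVec_mulVec, permMatrix_mulVec, Function.comp_apply, mulVec_diagonal]
    simp
  have hdet : A.det = 1 := by
    rw [det_mul, det_permutation, det_diagonal, Equiv.Perm.sign_inv]
    exact hd
  have hiso : ∀ x y, H (A *ᵥ x) (A *ᵥ y) = H x y := fun x y => by
    rw [Unitary.herm_apply K, Unitary.herm_apply K, ← Equiv.sum_comp σ]
    refine Finset.sum_congr rfl fun s _ => ?_
    have hs : z s * K.bar (z s) = 1 := hz s
    rw [hA, hA, map_mul]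
    linear_combination (x s * K.bar (y s)) * hs
  refine ⟨⟨⟨A, hdet⟩, hiso⟩, fun s => ⟨σ s, z s, funext fun r => ?_⟩, hA⟩
  obtain ⟨r', rfl⟩ := σ.surjective r
  show (A *ᵥ e[s]) (σ r') = _
  rw [hA]
  rcases eq_or_ne r' s with rfl | h
  · simp
  · simp [h, σ.injective.ne h]

/-- A monomial element with prescribed permutation and phases away from one coordinate. -/
theorem exists_mon_off (σ : Equiv.Perm (Fin n)) (z : Fin n → F) (hz : ∀ s, Circ K (z s)) (b : Fin n) :
    ∃ g : G, Mon g ∧ ∀ x : V, x b = 0 → ∀ s, app g x (σ s) = z s * x s := by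
  set d := ((Equiv.Perm.sign σ : ℤ) : F) * ∏ s ∈ Finset.univ.erase b, z s
  have hd : Circ K d := Circ.mul (by
    rcases Int.units_eq_one_or (Equiv.Perm.sign σ) with h | h <;> rw [h] <;> simp [Circ])
    (circ_prod fun s _ => hz s)
  obtain ⟨g, hg, h⟩ := exists_mon K σ (Function.update z b d⁻¹) (fun s => by
      rw [Function.update_apply]; split_ifs
      · exact hd.inv
      · exact hz s) (by
      rw [← Finset.mul_prod_erase _ _ (Finset.mem_univ b), Function.update_self,
        Finset.prod_congr rfl (fun s hs => Function.update_of_ne (Finset.ne_of_mem_erase hs) _ _),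
        mul_left_comm]
      exact inv_mul_cancel₀ hd.ne_zero)
  refine ⟨g, hg, fun x hx s => ?_⟩
  rw [h]
  rcases eq_or_ne s b with rfl | hs
  · simp [hx]
  · rw [Function.update_of_ne hs]

/-- The diagonal element of a pair of inverse phases. -/
theorem exists_dpair {a b : Fin n} (hab : a ≠ b) {ζ : F} (hζ : Circ K ζ) :
    ∃ g : G, Mon g ∧ ∀ x s, app g x s = (if s = a then ζ else if s = b then ζ⁻¹ else 1) * x s := by
  have hz : ∀ s, Circ K (if s = a then ζ else if s = b then ζ⁻¹ else 1) := fun s => by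
    split_ifs <;> first | exact hζ | exact hζ.inv | exact circ_one K
  obtain ⟨g, hg, h⟩ := exists_mon K 1 _ hz (by
    rw [Equiv.Perm.sign_one, Units.val_one, Int.cast_one, one_mul,
      Finset.prod_eq_mul a b hab (fun c _ hc => by simp [hc.1, hc.2]) (by simp) (by simp)]
    simp [hab.symm, hζ.ne_zero])
  exact ⟨g, hg, fun x s => h x s⟩

/-! ### What monomial elements cannot be -/

theorem card_supp_of_mon_T {g : G} (hg : Mon g) {v : V} {c : F} (hc : c ≠ 0) (hT : IsT K g v c) :
    (supp v).card ≤ 2 := by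
  by_contra h
  obtain ⟨s, a, b, hs, ha, hb, hsa, hsb, hab⟩ := Finset.two_lt_card_iff.1 (Nat.lt_of_not_le h)
  rw [mem_supp] at hs ha hb
  obtain ⟨σ, z, -, hr, -⟩ := hg.exists_perm K
  have key : ∀ r, r ≠ s → v r ≠ 0 → σ s = r := fun r hrs hvr => by
    by_contra hne
    have e := congrFun ((hT.2.2 e[s]).symm.trans (hr s)) r
    simp [hrs, Ne.symm hne, h_single_left K, hc, hs, hvr] at e
  exact hab ((key a hsa.symm ha).symm.trans (key b hsb.symm hb))

theorem moved_of_ne {g : G} {x : V} {s : Fin n} (h : app g x s ≠ x s) : app g e[s] ≠ e[s] := by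
  intro e
  have h' := h_app g x e[s]
  rw [e, h_single K, h_single K] at h'
  exact h h'

/-- A monomial element moving everything into a plane moves at most six coordinate vectors. -/
theorem card_moved {g : G} (hg : Mon g) {a b : V}
    (h : ∀ x, ∃ α β : F, app g x = x + α • a + β • b) (S : Finset (Fin n))
    (hS : ∀ s ∈ S, app g e[s] ≠ e[s]) : S.card ≤ 6 := by
  classical
  by_contra hc
  obtain ⟨σ, c, -, hr, -⟩ := hg.exists_perm K
  let B : Fin n → Finset (Fin n) := fun s => {s, σ s, σ.symm s}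
  have hB : ∀ s, (B s).card ≤ 3 := fun s => Finset.card_le_three
  obtain ⟨s₁, h₁⟩ := Finset.card_pos.1 (show 0 < S.card by omega)
  obtain ⟨s₂, h₂⟩ := Finset.card_pos.1 (show 0 < (S \ B s₁).card by
    have := Finset.le_card_sdiff (B s₁) S; have := hB s₁; omega)
  obtain ⟨s₃, h₃⟩ := Finset.card_pos.1 (show 0 < ((S \ B s₁) \ B s₂).card by
    have := Finset.le_card_sdiff (B s₁) S; have := hB s₁
    have := Finset.le_card_sdiff (B s₂) (S \ B s₁); have := hB s₂; omega)
  simp only [B, Finset.mem_sdiff, Finset.mem_insert, Finset.mem_singleton, not_or] at h₂ h₃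
  obtain ⟨h₂S, n12, n12', n12''⟩ := h₂
  obtain ⟨⟨h₃S, n13, n13', n13''⟩, n23, n23', n23''⟩ := h₃
  have hsym : ∀ s r, r ≠ σ.symm s → s ≠ σ r := fun s r h e => h (by rw [e, σ.symm_apply_apply])
  let p : Fin 3 → Fin n := ![s₁, s₂, s₃]
  have hp : ∀ i j, i ≠ j → p j ≠ p i ∧ p j ≠ σ (p i) := by
    intro i j hij
    fin_cases i <;> fin_cases j <;> first
      | exact absurd rfl hij
      | exact ⟨n12, n12'⟩ | exact ⟨n13, n13'⟩ | exact ⟨n23, n23'⟩
      | exact ⟨Ne.symm n12, hsym _ _ n12''⟩ | exact ⟨Ne.symm n13, hsym _ _ n13''⟩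
      | exact ⟨Ne.symm n23, hsym _ _ n23''⟩
  have hpS : ∀ i, p i ∈ S := by intro i; fin_cases i <;> assumption
  let v : Fin 3 → V := fun i => app g e[p i] - e[p i]
  have hoff : ∀ i j, i ≠ j → v i (p j) = 0 := fun i j hij => by
    simp [v, hr, (hp i j hij).1, (hp i j hij).2]
  have hon : ∀ i, v i (p i) ≠ 0 := fun i e => by
    simp only [v, hr, Pi.sub_apply, Pi.smul_apply, Pi.single_eq_same, smul_eq_mul] at e
    by_cases hi : p i = σ (p i)
    · rw [← hi, Pi.single_eq_same, mul_one, sub_eq_zero] at e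
      exact hS _ (hpS i) (by rw [hr, ← hi, e, one_smul])
    · simp [hi] at e
  have hli : LinearIndependent F v := by
    rw [Fintype.linearIndependent_iff]
    intro w hw i
    have e := congrFun hw (p i)
    rw [Finset.sum_apply, Finset.sum_eq_single i (fun j _ hj => by simp [hoff j i hj])
      (by simp)] at e
    exact (mul_eq_zero.1 e).resolve_right (hon i)
  have hle : Set.range v ⊆ (Submodule.span F (Set.range ![a, b]) : Set V) := by
    rintro _ ⟨i, rfl⟩
    obtain ⟨α, β, e⟩ := h e[p i]
    show app g e[p i] - e[p i] ∈ _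
    rw [e, add_assoc, add_sub_cancel_left]
    exact add_mem (Submodule.smul_mem _ _ (Submodule.subset_span ⟨0, rfl⟩))
      (Submodule.smul_mem _ _ (Submodule.subset_span ⟨1, rfl⟩))
  have h3 := finrank_span_eq_card hli
  have h4 := Submodule.finrank_mono (Submodule.span_le.2 hle)
  have h5 : Module.finrank F (Submodule.span F (Set.range ![a, b])) ≤ 2 :=
    (finrank_range_le_card (R := F) ![a, b]).trans_eq (Fintype.card_fin 2)
  rw [h3, Fintype.card_fin] at h4
  omega

/-- A monomial element acting by inverse phases on two orthogonal vectors. -/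
theorem mon_two_eigen {g : G} (hg : Mon g) {u u' : V} {ζ : F} (hζ : Circ K ζ) (hζ2 : ζ ^ 2 ≠ 1)
    (hu : H u u = 1) (hu' : H u' u' = 1) (huu' : H u u' = 0)
    (h : ∀ x, app g x = x + ((ζ - 1) * H x u) • u + ((ζ⁻¹ - 1) * H x u') • u') :
    IsAxis u ∨ ((supp u).card ≤ 3 ∧ supp u' ⊆ supp u) := by
  classical
  have hu'u := h_eq_zero_symm K huu'
  have hζ0 := hζ.ne_zero
  have hne : ζ ≠ ζ⁻¹ := fun e => hζ2 (by rw [sq]; nth_rw 2 [e]; exact mul_inv_cancel₀ hζ0)
  have hε : ζ - 1 ≠ 0 := sub_ne_zero.2 fun e => hζ2 (by rw [e, one_pow])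
  obtain ⟨σ, c, hc, hr, hc'⟩ := hg.exists_perm K
  have huv : app g u = ζ • u := by rw [h, hu, huu', mul_zero, zero_smul, add_zero]; module
  have hu'v : app g u' = ζ⁻¹ • u' := by rw [h, hu', hu'u, mul_zero, zero_smul, add_zero]; module
  have eig : ∀ x, app g x = ζ • x → x = H x u • u := by
    intro x hx
    rw [h] at hx
    have e1 := congrArg (fun y => H y u') hx
    simp only [h_add_left K, h_smul_left K, huu', hu', mul_zero, add_zero, mul_one] at e1
    have e2 : H x u' = 0 :=
      (mul_eq_zero.1 (show (ζ - ζ⁻¹) * H x u' = 0 by linear_combination -e1)).resolve_left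
        (sub_ne_zero.2 hne)
    rw [e2, mul_zero, zero_smul, add_zero, mul_smul] at hx
    have e3 : (ζ - 1) • (x - H x u • u) = 0 := by
      rw [smul_sub, sub_smul, one_smul, ← hx]; module
    exact sub_eq_zero.1 ((smul_eq_zero.1 e3).resolve_left hε)
  have hinv : ∀ s, u s ≠ 0 → u (σ s) ≠ 0 := fun s hs e => by
    have h1 := hc' u s
    rw [huv, Pi.smul_apply, e, smul_zero] at h1
    exact mul_ne_zero (hc s).ne_zero hs h1.symm
  obtain ⟨s, hs⟩ : ∃ s, u s ≠ 0 := Function.ne_iff.1 (ne_zero_of_h K (hu ▸ one_ne_zero : H u u ≠ 0))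
  -- the cubic relation at `e s`
  set α := (ζ - 1) * H e[s] u with hα
  set β := (ζ⁻¹ - 1) * H e[s] u' with hβ
  have hw1 : app g e[s] - e[s] = α • u + β • u' := by rw [h]; abel
  have h1 : app g e[s] = c s • e[σ s] := hr s
  have h2 : app g (app g e[s]) = (c s * c (σ s)) • e[σ (σ s)] := by
    rw [h1, app_smul, hr, smul_smul]
  have h3 : app g (app g (app g e[s])) = (c s * c (σ s) * c (σ (σ s))) • e[σ (σ (σ s))] := by
    rw [h2, app_smul, hr, smul_smul]
  set w := app g (app g e[s]) - app g e[s] - ζ • (app g e[s] - e[s]) with hw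
  have hwu : w = (ζ⁻¹ - ζ) • β • u' := by
    rw [hw, ← app_sub, hw1, app_add, app_smul, app_smul, huv, hu'v]
    module
  have hw' : app g w = ζ⁻¹ • w := by rw [hwu, app_smul, app_smul, hu'v]; module
  set O : Finset (Fin n) := {s, σ s, σ (σ s)} with hO
  have hclosed : ∀ r ∈ O, σ r ∈ O := by
    have hcase : σ (σ (σ s)) ∈ O := by
      by_contra hc3
      simp only [hO, Finset.mem_insert, Finset.mem_singleton, not_or] at hc3
      have e := congrFun hw' (σ (σ (σ s)))
      rw [hw, app_sub, app_sub, app_smul, app_sub, h3, h2, h1] at e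
      simp [hc3.1, hc3.2.1, hc3.2.2, (hc _).ne_zero] at e
    intro r hr'
    simp only [hO, Finset.mem_insert, Finset.mem_singleton] at hr'
    rcases hr' with rfl | rfl | rfl
    · simp [hO]
    · simp [hO]
    · exact hcase
  have himg : O.image σ = O := Finset.eq_of_subset_of_card_le
    (Finset.image_subset_iff.2 hclosed) (by rw [Finset.card_image_of_injective _ σ.injective])
  have hiff : ∀ r, σ r ∈ O ↔ r ∈ O := fun r => by
    conv_lhs => rw [← himg, Finset.mem_image]
    exact ⟨fun ⟨a, ha, e⟩ => σ.injective e ▸ ha, fun hr => ⟨r, hr, rfl⟩⟩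
  set v : V := fun r => if r ∈ O then u r else 0 with hv
  have hgv : app g v = ζ • v := funext fun r => by
    obtain ⟨r, rfl⟩ := σ.surjective r
    have e := hc' u r
    rw [huv, Pi.smul_apply] at e
    rw [hc', Pi.smul_apply]
    simp only [hv, hiff]
    split_ifs
    · exact e.symm
    · simp
  have hvu := eig v hgv
  have hsupp : ∀ r, u r ≠ 0 → r ∈ O := fun r hr' => by
    by_contra hrO
    have e1 := congrFun hvu r
    have e2 := congrFun hvu s
    simp only [hv, hrO, if_false, Pi.smul_apply, smul_eq_mul, show s ∈ O by simp [hO], if_true] at e1 e2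
    rcases mul_eq_zero.1 e1.symm with e | e
    · rw [e, zero_mul] at e2; exact hs e2
    · exact hr' e
  by_cases hfix : σ s = s
  · refine Or.inl ⟨s, u s, funext fun r => ?_⟩
    rcases eq_or_ne r s with rfl | hrs
    · simp
    · have : u r = 0 := by_contra fun hr' => hrs (by simpa [hO, hfix] using hsupp r hr')
      simp [hrs, this]
  have hOu : supp u = O := Finset.ext fun r => by
    rw [mem_supp]
    refine ⟨hsupp r, fun hrO => ?_⟩
    simp only [hO, Finset.mem_insert, Finset.mem_singleton] at hrO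
    rcases hrO with rfl | rfl | rfl
    · exact hs
    · exact hinv _ hs
    · exact hinv _ (hinv _ hs)
  refine Or.inr ⟨hOu ▸ Finset.card_le_three, fun r hr' => ?_⟩
  rw [mem_supp] at hr'
  have hwσ : w (σ s) ≠ 0 := by
    have hne2 : σ s ≠ σ (σ s) := fun e => hfix (σ.injective e.symm)
    have h1ζ : 1 + ζ ≠ 0 := fun e => hζ2 (by linear_combination (ζ - 1) * e)
    rw [hw, h2, h1]
    simp [hfix, hne2]
    intro e
    exact mul_ne_zero h1ζ (hc s).ne_zero (by linear_combination -e)
  by_contra hrO
  rw [hOu] at hrO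
  simp only [hO, Finset.mem_insert, Finset.mem_singleton, not_or] at hrO
  have hwr : w r = 0 := by
    rw [hw, h2, h1]
    simp [hrO.1, hrO.2.1, hrO.2.2]
  rw [hwu] at hwr hwσ
  simp only [Pi.smul_apply, smul_eq_mul] at hwr hwσ
  rcases mul_eq_zero.1 hwr with e | e
  · rw [e, zero_mul] at hwσ; exact hwσ rfl
  rcases mul_eq_zero.1 e with e | e
  · rw [e, zero_mul, mul_zero] at hwσ; exact hwσ rfl
  · exact hr' e

end CfsgLib.Classical.HermDecompMax
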