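import Cfsg.Agent.Lib.Classical.UnitaryDecompMax.Engine

set_option autoImplicit false
set_option linter.unusedSectionVars false

/-!
A group containing the monomial subgroup and all transvections of one centre with at least three
non-zero coordinates contains all transvections.
-/

namespace CfsgLib.Classical.HermDecompMax

open Matrix Cfsg CfsgLib.Classical.Herm
open CfsgLib.ClassicalAut (Unitary.Conj Unitary.space Unitary.herm_apply)

variable {F : Type*} [Field F] [Finite F] {q : ℕ} (K : Unitary.Conj F q) {n : ℕ}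

local notation "H" => hermForm n F q
local notation "V" => (Fin n → F)
local notation "G" => SU n F q
local notation "e[" s "]" => (Pi.single s 1 : Fin n → F)

variable {M : Subgroup (SU n F q)}

include K

theorem sum_norm (v : V) : H v v = ∑ s ∈ supp v, v s * K.bar (v s) := by
  rw [Unitary.herm_apply K, sum_supp_norm K]

theorem norm_ne_zero {a : F} (ha : a ≠ 0) : a * K.bar a ≠ 0 := fun e => ha (norm_eq_zero K e)

theorem zero_mem_centres : (0 : V) ∈ centres K M := by
  refine ⟨h_zero_left K _, fun g c hg => ?_⟩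
  rw [show g = 1 from ext_app fun x => by rw [hg.2.2, smul_zero, add_zero, app_one]]
  exact M.one_mem

/-- Monomial elements move centres to vectors of the same norm pattern. -/
theorem centre_transport (hM : ∀ g, Mon g → g ∈ M) {u u' : V} (hu : u ∈ centres K M) {b : Fin n}
    (hb : u b = 0) (σ : Equiv.Perm (Fin n))
    (hσ : ∀ s, u' (σ s) * K.bar (u' (σ s)) = u s * K.bar (u s)) : u' ∈ centres K M := by
  classical
  obtain ⟨g, hg, hgx⟩ := exists_mon_off K σ (fun s => if u s = 0 then 1 else u' (σ s) / u s) (fun s => by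
    split_ifs with h
    · exact circ_one K
    · unfold Circ
      rw [map_div₀, div_mul_div_comm, hσ, div_self (norm_ne_zero K h)]) b
  have : app g u = u' := funext fun r => by
    obtain ⟨s, rfl⟩ := σ.surjective r
    rw [hgx u hb]
    split_ifs with h
    · have := hσ s
      rw [h, zero_mul] at this
      rw [h, mul_zero, norm_eq_zero K this]
    · exact div_mul_cancel₀ _ h
  exact this ▸ app_mem_centres K (hM g hg) hu

omit K in
theorem exists_perm_supp {u u' : V} (h : (supp u).card = (supp u').card) :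
    ∃ σ : Equiv.Perm (Fin n), ∀ s, u' (σ s) ≠ 0 ↔ u s ≠ 0 := by
  classical
  let e : {x // x ∈ supp u} ≃ {x // x ∈ supp u'} := Finset.equivOfCardEq h
  refine ⟨e.extendSubtype, fun s => ?_⟩
  rw [← mem_supp, ← mem_supp]
  exact ⟨fun hs => by_contra fun hns => e.extendSubtype_not_mem s hns hs, e.extendSubtype_mem s⟩

theorem exists_zero (hn : 3 ≤ n) {v : V} (hv : (supp v).card ≤ 2) : ∃ b, v b = 0 := by
  classical
  obtain ⟨b, -, hb⟩ := Finset.exists_mem_notMem_of_card_lt_card (s := supp v) (t := Finset.univ)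
    (by rw [Finset.card_univ, Fintype.card_fin]; omega)
  exact ⟨b, notMem_supp.1 hb⟩

/-- All two-term isotropic vectors are centres once one is. -/
theorem two_term_centres (hn : 3 ≤ n) (hM : ∀ g, Mon g → g ∈ M) {w : V} (hw : w ∈ centres K M)
    (hw2 : (supp w).card = 2) {v : V} (hv : H v v = 0) (hv2 : (supp v).card ≤ 2) :
    v ∈ centres K M := by
  classical
  obtain hc | hc | hc : (supp v).card = 0 ∨ (supp v).card = 1 ∨ (supp v).card = 2 := by omega
  · rw [show v = 0 from funext fun s => notMem_supp.1 (by simp [Finset.card_eq_zero.1 hc])]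
    exact zero_mem_centres K
  · exfalso
    obtain ⟨a, ha⟩ := Finset.card_eq_one.1 hc
    rw [sum_norm K, ha, Finset.sum_singleton] at hv
    exact norm_ne_zero K (mem_supp.1 (by rw [ha]; simp)) hv
  obtain ⟨a, a', haa, ha⟩ := Finset.card_eq_two.1 hc
  obtain ⟨i, i', hii, hi⟩ := Finset.card_eq_two.1 hw2
  have hwi : w i ≠ 0 := mem_supp.1 (by rw [hi]; simp)
  have hva : v a ≠ 0 := mem_supp.1 (by rw [ha]; simp)
  obtain ⟨c, hc'⟩ := K.exists_norm (v a * K.bar (v a) / (w i * K.bar (w i)))
    (by rw [map_div₀, bar_norm K, bar_norm K])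
  have hsum : v a * K.bar (v a) + v a' * K.bar (v a') = 0 := by
    rw [← Finset.sum_pair (f := fun s => v s * K.bar (v s)) haa, ← ha, ← sum_norm K, hv]
  have hsum' : w i * K.bar (w i) + w i' * K.bar (w i') = 0 := by
    rw [← Finset.sum_pair (f := fun s => w s * K.bar (w s)) hii, ← hi, ← sum_norm K, hw.1]
  obtain ⟨b, hb⟩ := exists_zero K hn hw2.le
  refine centre_transport K hM (smul_mem_centres K c hw) (u' := v) (b := b) (by simp [hb])
    (Equiv.swap (Equiv.swap i a i') a' * Equiv.swap i a) fun s => ?_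
  set σ := Equiv.swap (Equiv.swap i a i') a' * Equiv.swap i a with hσ
  have hm : Equiv.swap i a i' ≠ a := by
    intro e
    exact hii ((Equiv.swap i a).injective (by rw [e, Equiv.swap_apply_left]))
  have e1 : σ i = a := by
    rw [hσ, Equiv.Perm.mul_apply, Equiv.swap_apply_left, Equiv.swap_apply_of_ne_of_ne hm.symm haa]
  have e2 : σ i' = a' := by rw [hσ, Equiv.Perm.mul_apply, Equiv.swap_apply_left]
  have hn : ∀ s, (c • w) s * K.bar ((c • w) s) = c * K.bar c * (w s * K.bar (w s)) := fun s => by
    simp only [Pi.smul_apply, smul_eq_mul, map_mul]; ring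
  have hcw : c * K.bar c * (w i * K.bar (w i)) = v a * K.bar (v a) := by
    rw [hc', div_mul_cancel₀ _ (norm_ne_zero K hwi)]
  rw [hn]
  rcases eq_or_ne s i with rfl | h1
  · rw [e1, hcw]
  rcases eq_or_ne s i' with rfl | h2
  · rw [e2]
    linear_combination hsum - c * K.bar c * hsum' + hcw
  have hs : w s = 0 := notMem_supp.1 (by rw [hi]; simp [h1, h2])
  have hv0 : v (σ s) = 0 := notMem_supp.1 (by
    rw [ha]
    simp only [Finset.mem_insert, Finset.mem_singleton, not_or]
    exact ⟨e1 ▸ σ.injective.ne h1, e2 ▸ σ.injective.ne h2⟩)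
  rw [hs, hv0]
  simp

/-- For `q ≥ 3` a two-term centre arises. -/
theorem exists_two_term (hM : ∀ g, Mon g → g ∈ M) {k : V} (hk : k ∈ centres K M)
    (h3 : 3 ≤ (supp k).card) {b : Fin n} (hb : k b = 0) :
    ∃ w ∈ centres K M, (supp w).card = 2 := by
  classical
  obtain ⟨a₁, a₂, a₃, h1, h2, h3', h12, h13, h23⟩ := Finset.two_lt_card_iff.1 (show 2 < (supp k).card by omega)
  obtain ⟨a, a', ha, ha', haa, hsum⟩ : ∃ a a', a ∈ supp k ∧ a' ∈ supp k ∧ a ≠ a' ∧
      (k a * K.bar (k a) + k a' * K.bar (k a') ≠ 0 ∨ (2 : F) = 0) := by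
    by_cases h2' : (2 : F) = 0
    · exact ⟨a₁, a₂, h1, h2, h12, Or.inr h2'⟩
    by_contra hc
    push Not at hc
    have e1 := (hc a₁ a₂ h1 h2 h12).1
    have e2 := (hc a₁ a₃ h1 h3' h13).1
    have e3 := (hc a₂ a₃ h2 h3' h23).1
    exact mul_ne_zero h2' (norm_ne_zero K (mem_supp.1 h1)) (by linear_combination e1 + e2 - e3)
  obtain ⟨ν, μ, hν, hμ, hν1, hμ1, hT0, hT⟩ := exists_phase_pair K (bar_norm K (k a)) (bar_norm K (k a'))
    (norm_ne_zero K (mem_supp.1 ha)) (norm_ne_zero K (mem_supp.1 ha')) hsum
  obtain ⟨g, hg, hgx⟩ := exists_mon_off K 1 (Function.update (Function.update (fun _ => (1 : F)) a ν) a' μ)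
    (fun s => by
      simp only [Function.update_apply]
      split_ifs <;> first | exact hμ | exact hν | exact circ_one K) b
  set v := app g k with hv
  have hvs : ∀ s, v s = Function.update (Function.update (fun _ => (1 : F)) a ν) a' μ s * k s :=
    fun s => hgx k hb s
  set T := (ν - 1) * (k a * K.bar (k a)) + (μ - 1) * (k a' * K.bar (k a')) with hTdef
  have hvk : H v k = T := by
    have h0 : H (v - k) k = T := by
      rw [Unitary.herm_apply K, Finset.sum_eq_add_of_mem a a' (Finset.mem_univ _) (Finset.mem_univ _) haa]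
      · simp [hvs, haa, hTdef]; ring
      · intro c _ hc; simp [hvs, hc.1, hc.2]
    rwa [h_sub_left K, hk.1, sub_zero] at h0
  have hc : -T⁻¹ + K.bar (-T⁻¹) = 0 := by
    rw [map_neg, map_inv₀, show K.bar T = -T by linear_combination hT, inv_neg]; ring
  obtain ⟨t, ht⟩ := exists_T K hk.1 hc
  have := app_mem_centres K (hk.2 t _ ht) (app_mem_centres K (hM g hg) hk)
  rw [← hv, ht.2.2, hvk, neg_mul, inv_mul_cancel₀ hT0, neg_one_smul, ← sub_eq_add_neg] at this
  refine ⟨v - k, this, Finset.card_eq_two.2 ⟨a, a', haa, Finset.ext fun s => ?_⟩⟩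
  rw [mem_supp, Finset.mem_insert, Finset.mem_singleton, Pi.sub_apply, hvs]
  rcases eq_or_ne s a with rfl | hs
  · simp [haa]
    intro e
    exact hν1 (mul_right_cancel₀ (mem_supp.1 ha) (by linear_combination e))
  rcases eq_or_ne s a' with rfl | hs'
  · simp
    intro e
    exact hμ1 (mul_right_cancel₀ (mem_supp.1 ha') (by linear_combination e))
  · simp [hs, hs']

/-- All isotropic vectors, `q ≥ 3`. -/
theorem top_of_two_term (hq : 3 ≤ q) (hn : 4 ≤ n) (hM : ∀ g, Mon g → g ∈ M) {w : V}
    (hw : w ∈ centres K M) (hw2 : (supp w).card = 2) : M = ⊤ := by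
  classical
  refine eq_top_of_centres K (by omega) fun v hv => ?_
  suffices key : ∀ p, ∀ v : V, H v v = 0 → (supp v).card = p → v ∈ centres K M from key _ v hv rfl
  intro p
  induction p using Nat.strong_induction_on with
  | _ p ih =>
  have two : ∀ u : V, H u u = 0 → (supp u).card ≤ 2 → u ∈ centres K M :=
    fun u hu hu2 => two_term_centres K (by omega) hM hw hw2 hu hu2
  have pair : ∀ (u : V) i l, H u u = 0 → (supp u).card ≤ p → i ≠ l → u i ≠ 0 → u l ≠ 0 →
      u i * K.bar (u i) + u l * K.bar (u l) ≠ 0 → u ∈ centres K M := by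
    intro u i l hu hup hil hi hl hs
    obtain ⟨c, hc⟩ := K.exists_norm (u i * K.bar (u i) + u l * K.bar (u l))
      (by rw [map_add, bar_norm K, bar_norm K])
    have hc0 : c ≠ 0 := fun e => hs (by rw [← hc, e, zero_mul])
    have hab : u i / c * K.bar (u i / c) + u l / c * K.bar (u l / c) = 1 := by
      rw [map_div₀, map_div₀, div_mul_div_comm, div_mul_div_comm, ← add_div, hc, div_self hs]
    set U := Submodule.span F ({e[i], e[l]} : Set V)
    obtain ⟨g, hg, hgi, -, hgf⟩ := exists_plane_move K (W := U) (u := e[i]) (w := e[l])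
      (Submodule.subset_span (by simp)) (Submodule.subset_span (by simp)) (h_self_single K i)
      (h_self_single K l) (by rw [h_single K]; simp [hil.symm]) hab
    have hgM : g ∈ M := gen_le K (fun x hx hxx => two x hxx (by
      refine (Finset.card_le_card (t := {i, l}) fun s hs => ?_).trans Finset.card_le_two
      by_contra hsc
      simp only [Finset.mem_insert, Finset.mem_singleton, not_or] at hsc
      obtain ⟨α, β, rfl⟩ := Submodule.mem_span_pair.1 hx
      rw [mem_supp] at hs
      simp [hsc.1, hsc.2] at hs)) hg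
    set r : V := Function.update (Function.update u i 0) l 0
    have hr : ∀ x : Fin n, (x = i ∨ x = l) → r x = 0 := by
      rintro x (rfl | rfl) <;> simp [r, hil]
    have hrf : app g r = r := hgf r (by rw [h_single K, hr i (Or.inl rfl)])
      (by rw [h_single K, hr l (Or.inr rfl)])
    have hgu : app g (c • e[i] + r) = u := by
      rw [app_add, app_smul, hgi, hrf]
      funext s
      rcases eq_or_ne s i with rfl | hsi
      · simp [r, hil, mul_div_cancel₀ _ hc0]
      rcases eq_or_ne s l with rfl | hsl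
      · simp [r, hsi, mul_div_cancel₀ _ hc0]
      · simp [r, hsi, hsl]
    have h0 : H (c • e[i] + r) (c • e[i] + r) = 0 := by
      rw [← h_app g, hgu]; exact hu
    have hsupp : supp (c • e[i] + r) ⊆ (supp u).erase l := fun s hs => by
      rw [mem_supp] at hs
      rw [Finset.mem_erase, mem_supp]
      refine ⟨fun e => hs (by subst e; simp [r, hil.symm]), fun e => hs ?_⟩
      have hsi : s ≠ i := fun e' => hi (e' ▸ e)
      rcases eq_or_ne s l with rfl | hsl
      · simp [r, hsi]
      · simp [r, hsi, hsl, e]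
    have hlt : (supp (c • e[i] + r)).card < p := by
      have := Finset.card_le_card hsupp
      rw [Finset.card_erase_of_mem (mem_supp.2 hl)] at this
      have : 0 < (supp u).card := Finset.card_pos.2 ⟨l, mem_supp.2 hl⟩
      omega
    exact hgu ▸ app_mem_centres K hgM (ih _ hlt _ h0 rfl)
  intro v hv hvp
  by_cases hp : p ≤ 2
  · exact two v hv (by omega)
  obtain ⟨i, l, s, hi, hl, hs, hil, his, hls⟩ := Finset.two_lt_card_iff.1 (show 2 < (supp v).card by omega)
  rw [mem_supp] at hi hl hs
  by_cases e1 : v i * K.bar (v i) + v l * K.bar (v l) = 0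
  swap
  · exact pair v i l hv hvp.le hil hi hl e1
  by_cases e2 : v i * K.bar (v i) + v s * K.bar (v s) = 0
  swap
  · exact pair v i s hv hvp.le his hi hs e2
  by_cases e3 : v l * K.bar (v l) + v s * K.bar (v s) = 0
  swap
  · exact pair v l s hv hvp.le hls hl hs e3
  have h2 : (2 : F) = 0 := by
    by_contra h2
    exact mul_ne_zero h2 (norm_ne_zero K hi) (by linear_combination e1 + e2 - e3)
  obtain ⟨ν, hν, hν1⟩ := exists_circ_ne_one K
  set w' : V := v i • e[i] + (ν * v l) • e[l]
  have hν' : ν * K.bar ν = 1 := hν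
  have hw'0 : H w' w' = 0 := by
    simp only [w', h_add_left K, h_add_right K, h_smul_left K, h_smul_right K, h_single_single K,
      if_pos, hil, hil.symm, if_false, map_mul]
    linear_combination e1 + (v l * K.bar (v l)) * hν'
  have hw'c : w' ∈ centres K M := two w' hw'0 (by
    refine (Finset.card_le_card (t := {i, l}) fun x hx => ?_).trans Finset.card_le_two
    by_contra hxc
    simp only [Finset.mem_insert, Finset.mem_singleton, not_or] at hxc
    rw [mem_supp] at hx
    simp [w', hxc.1, hxc.2] at hx)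
  set N := v i * K.bar (v i) with hN
  have hNl : v l * K.bar (v l) = N := by linear_combination e1 - N * h2
  have hNs : v s * K.bar (v s) = N := by linear_combination e2 - N * h2
  have hh : H v w' = N * (1 + K.bar ν) := by
    simp only [w', h_add_right K, h_smul_right K, h_single K, map_mul]
    linear_combination K.bar ν * hNl
  have hh0 : H v w' ≠ 0 := by
    rw [hh]
    refine mul_ne_zero (norm_ne_zero K hi) fun e => hν1 ?_
    have : K.bar ν = 1 := by linear_combination e - h2
    rw [← K.bar_bar ν, this, map_one]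
  set h := H v w' with hhdef
  obtain ⟨c₁, c₂, hc₁, hc₂, hc₁0, hc₂0, hcc⟩ := exists_two_skew K hq
  obtain ⟨c, hc, hc0, hne⟩ : ∃ c : F, c + K.bar c = 0 ∧ c ≠ 0 ∧
      c * (h + K.bar h) + c * c * (h * K.bar h) ≠ 0 := by
    by_contra hc'
    push Not at hc'
    have f1 := hc' c₁ hc₁ hc₁0
    have f2 := hc' c₂ hc₂ hc₂0
    have f3 : c₁ * c₂ * (c₁ - c₂) * (h * K.bar h) = 0 := by linear_combination c₂ * f1 - c₁ * f2
    exact mul_ne_zero (mul_ne_zero (mul_ne_zero hc₁0 hc₂0) (sub_ne_zero.2 hcc)) (norm_ne_zero K hh0) f3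
  obtain ⟨t, ht⟩ := exists_T K hw'0 hc
  set v' := app t v with hv'
  suffices v' ∈ centres K M by
    have := app_mem_centres K (M.inv_mem (hw'c.2 t c ht)) this
    rwa [hv', app_inv] at this
  have hv'e : v' = v + (c * h) • w' := ht.2.2 v
  have hv'0 : H v' v' = 0 := by rw [hv', h_app]; exact hv
  have hsub : supp v' ⊆ supp v := fun x hx => by
    rw [mem_supp] at hx ⊢
    intro e
    have hxi : x ≠ i := fun e' => hi (e' ▸ e)
    have hxl : x ≠ l := fun e' => hl (e' ▸ e)
    exact hx (by simp [hv'e, w', e, hxi, hxl])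
  have hv's : v' s = v s := by simp [hv'e, w', his.symm, hls.symm]
  by_cases hv'i : v' i = 0
  · refine ih _ ?_ v' hv'0 rfl
    rw [← hvp]
    exact Finset.card_lt_card ⟨hsub, fun hle => mem_supp.1 (hle (mem_supp.2 hi)) hv'i⟩
  refine pair v' i s hv'0 ((Finset.card_le_card hsub).trans hvp.le) his hv'i (hv's ▸ hs) fun e => ?_
  have hv'i' : v' i = v i * (1 + c * h) := by simp [hv'e, w', hil]; ring
  have hcb : K.bar c = c := by linear_combination hc - c * h2
  rw [hv'i', hv's, map_mul, map_add, map_mul, map_one, hcb, hNs] at e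
  have : N * (c * (h + K.bar h) + c * c * (h * K.bar h)) = 0 := by
    linear_combination e - N * h2 - (1 + c * h) * (1 + c * K.bar h) * hN + (N * 0) * h2
  exact mul_ne_zero (norm_ne_zero K hi) hne this

/-! ### Two elements -/

theorem norm_two (hq : q = 2) {a : F} (ha : a ≠ 0) : a * K.bar a = 1 := by
  cases nonempty_fintype F
  have h := FiniteField.pow_card_sub_one_eq_one a ha
  rw [← Nat.card_eq_fintype_card, K.card, hq] at h
  rw [K.bar_apply, hq]
  linear_combination h

theorem card_even (hq : q = 2) {v : V} (hv : H v v = 0) : Even (supp v).card := by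
  rw [sum_norm K, Finset.sum_congr rfl (fun s hs => norm_two K hq (mem_supp.1 hs)), Finset.sum_const,
    nsmul_one] at hv
  by_contra h
  obtain ⟨m, hm⟩ := Nat.not_even_iff_odd.1 h
  rw [hm] at hv
  push_cast at hv
  exact one_ne_zero (α := F) (by linear_combination hv - (m : F) * two_eq_zero K hq)

/-- A phase transposition is monomial. -/
theorem mon_of_T {g : G} {v : V} {c : F} (hT : IsT K g v c) {i l : Fin n}
    (hsupp : ∀ s, s ≠ i → s ≠ l → v s = 0) (h2 : (2 : F) = 0) (hi : c * (v i * K.bar (v i)) = 1)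
    (hl : c * (v l * K.bar (v l)) = 1) : Mon g := by
  classical
  intro s
  rw [hT.2.2, h_single_left K]
  rcases eq_or_ne i l with rfl | hil
  · refine ⟨s, 1 + (if s = i then 1 else 0), funext fun r => ?_⟩
    rcases eq_or_ne s i with rfl | hs
    · rcases eq_or_ne r s with rfl | hr
      · simp; linear_combination hi
      · simp [hr, hsupp r hr hr]
    · simp [hs, hsupp s hs hs]
  rcases eq_or_ne s i with rfl | hsi
  · refine ⟨l, c * K.bar (v s) * v l, funext fun r => ?_⟩
    rcases eq_or_ne r s with rfl | hr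
    · simp [hil]; linear_combination hi + h2
    rcases eq_or_ne r l with rfl | hr'
    · simp [hr]
    · simp [hr, hr', hsupp r hr hr']
  rcases eq_or_ne s l with rfl | hsl
  · refine ⟨i, c * K.bar (v s) * v i, funext fun r => ?_⟩
    rcases eq_or_ne r s with rfl | hr
    · simp [hsi]; linear_combination hl + h2
    rcases eq_or_ne r i with rfl | hr'
    · simp [hr]
    · simp [hr, hr', hsupp r hr' hr]
  · exact ⟨s, 1, by simp [hsupp s hsi hsl]⟩

theorem top_two_of_centre (hq : q = 2) (hn : 8 ≤ n) (hM : ∀ g, Mon g → g ∈ M) {k : V}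
    (hk : k ∈ centres K M) (h3 : 3 ≤ (supp k).card) {b : Fin n} (hb : k b = 0) : M = ⊤ := by
  classical
  have h2 := two_eq_zero K hq
  obtain ⟨ω, hω, hω3⟩ := exists_omega K hq
  have hω0 : ω ≠ 0 := fun e => by simp [e] at hω
  have hωc : Circ K ω := norm_two K hq hω0
  have hω1 : ω ≠ 1 := fun e => by rw [e] at hω; exact one_ne_zero (α := F) (by linear_combination hω - h2)
  have hωω : ω * ω ≠ 1 := fun e => hω1 (by linear_combination hω3 - ω * e)
  have hone : (1 : F) + K.bar 1 = 0 := by rw [map_one]; linear_combination h2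
  -- four-term centres
  obtain ⟨a, hak, a', ha'k, a'', ha''k, a''', ha'''k, n1, n2, n3, n4, n5, n6⟩ :
      ∃ a ∈ supp k, ∃ a' ∈ supp k, ∃ a'' ∈ supp k, ∃ a''' ∈ supp k,
        a ≠ a' ∧ a ≠ a'' ∧ a ≠ a''' ∧ a' ≠ a'' ∧ a' ≠ a''' ∧ a'' ≠ a''' := by
    have h4 : 4 ≤ (supp k).card := by
      obtain ⟨m, hm⟩ := card_even K hq hk.1
      omega
    obtain ⟨A, hA, hA4⟩ := Finset.exists_subset_card_eq h4
    obtain ⟨d, B, hd, rfl, hB⟩ := Finset.card_eq_succ.1 hA4
    obtain ⟨x, y, z, hxy, hxz, hyz, rfl⟩ := Finset.card_eq_three.1 hB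
    simp only [Finset.mem_insert, Finset.mem_singleton, not_or] at hd
    simp only [Finset.insert_subset_iff, Finset.singleton_subset_iff] at hA
    exact ⟨d, hA.1, x, hA.2.1, y, hA.2.2.1, z, hA.2.2.2, hd.1, hd.2.1, hd.2.2, hxy, hxz, hyz⟩
  obtain ⟨g, hg, hgx⟩ := exists_mon_off K 1
    (Function.update (Function.update (Function.update (Function.update (fun _ => (1 : F)) a ω) a' ω)
      a'' ω) a''' (ω * ω)) (fun s => by
        simp only [Function.update_apply]
        split_ifs <;> first | exact hωc | exact hωc.mul hωc | exact circ_one K) b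
  set v := app g k
  have hvs : ∀ s, v s = Function.update (Function.update (Function.update (Function.update
      (fun _ => (1 : F)) a ω) a' ω) a'' ω) a''' (ω * ω) s * k s := fun s => hgx k hb s
  have hA : ∀ s, s ∈ ({a, a', a'', a'''} : Finset (Fin n)) → k s * K.bar (k s) = 1 := fun s hs => by
    simp only [Finset.mem_insert, Finset.mem_singleton] at hs
    rcases hs with rfl | rfl | rfl | rfl <;> exact norm_two K hq (mem_supp.1 (by assumption))
  have hvk : H v k = 1 := by
    have h0 : H (v - k) k = 1 := by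
      rw [Unitary.herm_apply K, ← Finset.sum_subset (Finset.subset_univ {a, a', a'', a'''}) ?_]
      · rw [Finset.sum_insert (by simp [n1, n2, n3]), Finset.sum_insert (by simp [n4, n5]),
          Finset.sum_insert (by simp [n6]), Finset.sum_singleton]
        simp [hvs, n1, n2, n3, n4, n5, n6, sub_mul, mul_assoc, hA a (by simp), hA a' (by simp),
          hA a'' (by simp), hA a''' (by simp)]
        linear_combination hω + (ω - 3) * h2
      · intro s _ hs
        simp only [Finset.mem_insert, Finset.mem_singleton, not_or] at hs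
        simp [hvs, hs.1, hs.2.1, hs.2.2.1, hs.2.2.2]
    rwa [h_sub_left K, hk.1, sub_zero] at h0
  obtain ⟨t, ht⟩ := exists_T K hk.1 hone
  have hw := app_mem_centres K (hk.2 t _ ht) (app_mem_centres K (hM g hg) hk)
  rw [ht.2.2, hvk, one_mul, one_smul] at hw
  have hw4 : (supp (v + k)).card = 4 := by
    rw [show supp (v + k) = ({a, a', a'', a'''} : Finset (Fin n)) from ?_]
    · rw [Finset.card_insert_of_notMem (by simp [n1, n2, n3]),
        Finset.card_insert_of_notMem (by simp [n4, n5]), Finset.card_pair n6]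
    ext s
    simp only [Finset.mem_insert, Finset.mem_singleton, mem_supp, Pi.add_apply, hvs]
    have nz : ∀ x : F, x ≠ 1 → k s ≠ 0 → x * k s + k s ≠ 0 := fun x hx hks e =>
      hx (mul_right_cancel₀ hks (by linear_combination e - k s * h2))
    rcases eq_or_ne s a''' with rfl | hs3
    · simpa using nz _ hωω (mem_supp.1 ha'''k)
    rcases eq_or_ne s a'' with rfl | hs2
    · simpa [hs3] using nz _ hω1 (mem_supp.1 ha''k)
    rcases eq_or_ne s a' with rfl | hs1
    · simpa [hs3, hs2] using nz _ hω1 (mem_supp.1 ha'k)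
    rcases eq_or_ne s a with rfl | hs0
    · simpa [hs3, hs2, hs1] using nz _ hω1 (mem_supp.1 hak)
    simp [hs0, hs1, hs2, hs3]
    linear_combination k s * h2
  have four : ∀ u : V, (supp u).card = 4 → u ∈ centres K M := fun u hu => by
    obtain ⟨σ, hσ⟩ := exists_perm_supp (hw4.trans hu.symm)
    obtain ⟨b', -, hb'⟩ := Finset.exists_mem_notMem_of_card_lt_card (s := supp (v + k))
      (t := (Finset.univ : Finset (Fin n))) (by rw [Finset.card_univ, Fintype.card_fin]; omega)
    refine centre_transport K hM hw (notMem_supp.1 hb') σ fun s => ?_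
    by_cases hs : (v + k) s = 0
    · rw [hs, show u (σ s) = 0 from not_ne_iff.1 ((not_congr (hσ s)).2 (not_not.2 hs)), zero_mul]
    · rw [norm_two K hq hs, norm_two K hq ((hσ s).2 hs)]
  refine eq_top_of_centres K (by omega) fun x hx => ?_
  suffices key : ∀ p, ∀ x : V, H x x = 0 → (supp x).card = p → x ∈ centres K M from key _ x hx rfl
  intro p
  induction p using Nat.strong_induction_on with
  | _ p ih =>
  intro x hx hxp
  obtain ⟨m, hm⟩ := card_even K hq hx
  by_cases hp : p ≤ 4
  · obtain hc | hc | hc : (supp x).card = 0 ∨ (supp x).card = 2 ∨ (supp x).card = 4 := by omega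
    · rw [show x = 0 from funext fun s => notMem_supp.1 (by simp [Finset.card_eq_zero.1 hc])]
      exact zero_mem_centres K
    · obtain ⟨i, l, hil, hil'⟩ := Finset.card_eq_two.1 hc
      refine ⟨hx, fun t' c ht' => hM _ ?_⟩
      by_cases hc0 : c = 0
      · intro s
        exact ⟨s, 1, by rw [ht'.2.2, hc0, zero_mul, zero_smul, add_zero, one_smul]⟩
      refine mon_of_T K ht' (i := i) (l := l)
        (fun s hs hs' => notMem_supp.1 (by rw [hil']; simp [hs, hs'])) h2 ?_ ?_
      all_goals
        rw [norm_two K hq (mem_supp.1 (by rw [hil']; simp)), mul_one]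
        have hcc : K.bar c = c := by linear_combination ht'.2.1 - c * h2
        have := norm_two K hq hc0
        rw [hcc] at this
        exact (mul_self_eq_one_iff.1 this).elim id fun e => e.trans (by linear_combination -h2)
    · exact four x hc
  obtain ⟨A, hA, hA4⟩ := Finset.exists_subset_card_eq (s := supp x) (n := 4) (by omega)
  obtain ⟨i, B, hi, rfl, hB⟩ := Finset.card_eq_succ.1 hA4
  obtain ⟨l, c, d, hlc, hld, hcd, rfl⟩ := Finset.card_eq_three.1 hB
  simp only [Finset.mem_insert, Finset.mem_singleton, not_or] at hi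
  simp only [Finset.insert_subset_iff, Finset.singleton_subset_iff, mem_supp] at hA
  obtain ⟨xi, xl, xc, xd⟩ := hA
  obtain ⟨il, ic, id'⟩ := hi
  set w : V := (ω * ω * x i) • e[i] + (ω * x l) • e[l] + x c • e[c] + x d • e[d] with hwdef
  have w0 : ∀ s, s ≠ i → s ≠ l → s ≠ c → s ≠ d → w s = 0 := fun s a b e f => by simp [hwdef, a, b, e, f]
  have wi : w i = ω * ω * x i := by simp [hwdef, il, ic, id']
  have wl : w l = ω * x l := by simp [hwdef, Ne.symm il, hlc, hld]
  have wc : w c = x c := by simp [hwdef, Ne.symm ic, Ne.symm hlc, hcd]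
  have wd : w d = x d := by simp [hwdef, Ne.symm id', Ne.symm hld, Ne.symm hcd]
  have hw4' : (supp w).card = 4 := by
    rw [show supp w = {i, l, c, d} from ?_]
    · rw [Finset.card_insert_of_notMem (by simp [il, ic, id']),
        Finset.card_insert_of_notMem (by simp [hlc, hld]), Finset.card_pair hcd]
    ext s
    simp only [Finset.mem_insert, Finset.mem_singleton, mem_supp]
    refine ⟨fun hs => by_contra fun hc' => ?_, ?_⟩
    · rw [not_or, not_or, not_or] at hc'
      exact hs (w0 s hc'.1 hc'.2.1 hc'.2.2.1 hc'.2.2.2)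
    · rintro (rfl | rfl | rfl | rfl)
      · rw [wi]; exact mul_ne_zero (mul_ne_zero hω0 hω0) xi
      · rw [wl]; exact mul_ne_zero hω0 xl
      · rwa [wc]
      · rwa [wd]
  have hwc := four w hw4'
  have hxw : H x w = 1 := by
    simp only [hwdef, h_add_right K, h_smul_right K, h_single K, map_mul]
    have q1 := norm_two K hq xi
    have q2 := norm_two K hq xl
    have q3 := norm_two K hq xc
    have q4 := norm_two K hq xd
    have hbω : K.bar ω = ω * ω := by
      have hb : ω * K.bar ω = 1 := hωc
      linear_combination (ω * ω) * hb - K.bar ω * hω3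
    rw [hbω]
    linear_combination (ω * ω) * (ω * ω) * q1 + (ω * ω) * q2 + q3 + q4 + ω * hω3 + hω
  obtain ⟨t', ht'⟩ := exists_T K hwc.1 hone
  have htx : app t' x = x + w := by rw [ht'.2.2, hxw, one_mul, one_smul]
  suffices x + w ∈ centres K M by
    have := app_mem_centres K (M.inv_mem (hwc.2 t' _ ht')) this
    rwa [← htx, app_inv] at this
  refine ih _ ?_ (x + w) (by rw [← htx, h_app]; exact hx) rfl
  rw [← hxp]
  refine Finset.card_lt_card ⟨fun s hs => ?_, fun hle => ?_⟩
  · rw [mem_supp] at hs ⊢
    intro e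
    refine hs ?_
    rw [Pi.add_apply, e, w0 s (fun e' => xi (e' ▸ e)) (fun e' => xl (e' ▸ e)) (fun e' => xc (e' ▸ e))
      (fun e' => xd (e' ▸ e)), add_zero]
  · refine mem_supp.1 (hle (mem_supp.2 xc)) ?_
    rw [Pi.add_apply, wc]
    linear_combination x c * h2

/-- A centre with three non-zero coordinates and a zero one gives everything. -/
theorem top_of_centre (hn : 8 ≤ n) (hM : ∀ g, Mon g → g ∈ M) {k : V} (hk : k ∈ centres K M)
    (h3 : 3 ≤ (supp k).card) {b : Fin n} (hb : k b = 0) : M = ⊤ := by
  rcases eq_or_lt_of_le K.two_le with hq | hq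
  · exact top_two_of_centre K hq.symm hn hM hk h3 hb
  · obtain ⟨w, hw, hw2⟩ := exists_two_term K hM hk h3 hb
    exact top_of_two_term K hq (by omega) hM hw hw2

end CfsgLib.Classical.HermDecompMax
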