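import Cfsg.Agent.Lib.Classical.UnitaryDecompMax.SmallNine
import Cfsg.Agent.Lib.Classical.UnitaryDecompMax.Spread

set_option autoImplicit false
set_option linter.unusedSectionVars false

/-!
The monomial subgroup of `SU_n(q)` is maximal for `n ≥ 13`.
-/

namespace CfsgLib.Classical.HermDecompMax

open Matrix Cfsg CfsgLib.Classical.Herm
open CfsgLib.ClassicalAut (Unitary.Conj Unitary.space Unitary.herm_apply)

variable {F : Type*} [Field F] [Finite F] {q : ℕ} (K : Unitary.Conj F q) {n : ℕ}

local notation "H" => hermForm n F q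
local notation "V" => (Fin n → F)
local notation "G" => SU n F q
local notation "e[" s "]" => (Pi.single s 1 : Fin n → F)

variable {M : Subgroup (SU n F q)}

theorem two_zeros {v : V} (hv : (supp v).card + 2 ≤ n) : ∃ m m', m ≠ m' ∧ v m = 0 ∧ v m' = 0 := by
  classical
  obtain ⟨m, m', hm, hm', hne⟩ := Finset.one_lt_card_iff.1
    (show 1 < (Finset.univ \ supp v).card by
      rw [Finset.card_sdiff_of_subset (Finset.subset_univ _), Finset.card_univ, Fintype.card_fin]; omega)
  exact ⟨m, m', hne, notMem_supp.1 (Finset.mem_sdiff.1 hm).2, notMem_supp.1 (Finset.mem_sdiff.1 hm').2⟩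

include K

theorem two_le_supp {v : V} (h0 : v ≠ 0) (h : ¬ IsAxis v) : 2 ≤ (supp v).card := by
  classical
  by_contra hc
  obtain ⟨s, hs⟩ := Function.ne_iff.1 h0
  refine h ⟨s, v s, funext fun r => ?_⟩
  rcases eq_or_ne r s with rfl | hr
  · simp
  · have : v r = 0 := by_contra fun hr' => hr
      (Finset.card_le_one.1 (by omega) r (mem_supp.2 hr') s (mem_supp.2 hs))
    simp [hr, this]

theorem not_mon_inv {g : G} (hg : ¬ Mon g) : ¬ Mon g⁻¹ := fun h => hg (inv_inv g ▸ mon_inv K h)

theorem entry_swap (g : G) (s r : Fin n) : app g⁻¹ e[r] s = K.bar (app g e[s] r) := by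
  rw [← h_single K (app g⁻¹ e[r]) s, ← h_app g, app_inv', h_single_left K]

theorem conj_T {h t : G} {v : V} {c : F} (ht : IsT K t v c) : IsT K (h * t * h⁻¹) (app h v) c := by
  refine ⟨by rw [h_app]; exact ht.1, ht.2.1, fun x => ?_⟩
  rw [app_mul, app_mul, ht.2.2, app_add, app_smul, app_inv', ← h_app h, app_inv']

theorem exists_conj_pair (hM : ∀ g, Mon g → g ∈ M) {h : G} (hh : h ∈ M) {a b : Fin n} (hab : a ≠ b)
    {ζ : F} (hζ : Circ K ζ) :
    ∃ y ∈ M, ∀ x, app y x = x + ((ζ - 1) * H x (app h e[a])) • app h e[a] +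
      ((ζ⁻¹ - 1) * H x (app h e[b])) • app h e[b] := by
  obtain ⟨d, hd, hdx⟩ := exists_dpair K hab hζ
  refine ⟨h * d * h⁻¹, M.mul_mem (M.mul_mem hh (hM d hd)) (M.inv_mem hh), fun x => ?_⟩
  obtain ⟨y, rfl⟩ : ∃ y, app h y = x := ⟨_, app_inv' h x⟩
  have e : app d y = y + ((ζ - 1) * y a) • e[a] + ((ζ⁻¹ - 1) * y b) • e[b] := funext fun s => by
    rw [hdx]
    rcases eq_or_ne s a with rfl | hsa
    · simp [hab]; ring
    rcases eq_or_ne s b with rfl | hsb
    · simp [hsa]; ring
    · simp [hsa, hsb]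
  rw [app_mul, app_mul, app_inv, e, app_add, app_add, app_smul, app_smul, h_app, h_app, h_single K,
    h_single K]

/-- A related vector with at least six non-zero coordinates and a zero one. -/
theorem top_of_ax_big (hn : 8 ≤ n) (hM : ∀ g, Mon g → g ∈ M) {ν : F} (hν : Circ K ν) (hν1 : ν ≠ 1)
    {u : V} (h : Ax q M ν u) (h7 : 6 ≤ (supp u).card) {b : Fin n} (hb : u b = 0) : M = ⊤ := by
  classical
  rcases eq_or_lt_of_le K.two_le with hq | hq
  · obtain ⟨j, hj⟩ := Finset.card_pos.1 (show 0 < (supp u).card by omega)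
    have hjc : Circ K (u j) := norm_two K hq.symm (mem_supp.1 hj)
    have hjb : j ≠ b := fun e => mem_supp.1 hj (e ▸ hb)
    have hw : ((u j)⁻¹ • u) j = 1 := inv_mul_cancel₀ hjc.ne_zero
    have hk := centre_of_ax_unit K hν hν1 hM (ax_smul K hjc.inv h) hjb hw (by simp [hb])
    refine top_of_centre K hn hM hk ?_ (b := b) (by simp [hb, hjb.symm])
    have hsub : (supp u).erase j ⊆ supp ((u j)⁻¹ • u - e[j]) := fun s hs => by
      obtain ⟨hsj, hs⟩ := Finset.mem_erase.1 hs
      rw [mem_supp] at hs ⊢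
      simp [hsj, hs, hjc.ne_zero]
    have := Finset.card_le_card hsub
    rw [Finset.card_erase_of_mem hj] at this
    omega
  · obtain ⟨k, hk, h2, a, -, -, ha, -⟩ := exists_centre K hν hν1 hM h h7 hb
    rcases eq_or_lt_of_le h2 with h2 | h3
    · exact top_of_two_term K hq (by omega) hM hk h2.symm
    · exact top_of_centre K hn hM hk h3 ha

/-- A non-monomial element with an axis column. -/
theorem top_of_axis (hn : 8 ≤ n) (hM : ∀ g, Mon g → g ∈ M) {g : G} (hg : g ∈ M) (hgm : ¬ Mon g)
    {a : Fin n} (ha : IsAxis (app g e[a])) : M = ⊤ := by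
  obtain ⟨ζ, hζ, -, hζ2⟩ := exists_circ_sq_ne_one K
  obtain ⟨b, l, hb⟩ := ha
  obtain ⟨c, hc⟩ := not_forall.1 hgm
  have hca : c ≠ a := fun e => hc (e ▸ ⟨b, l, hb⟩)
  have hl : Circ K l := by
    have h := h_app g e[a] e[a]
    rw [hb, h_smul_left K, h_smul_right K, h_self_single K, h_self_single K, mul_one] at h
    exact h
  have h1 := rel_conj K hg (rel_single K hζ hM c a)
  rw [hb] at h1
  have hu : H (app g e[c]) (app g e[c]) = 1 := by rw [h_app, h_self_single K]
  have hA := ax_of_rel K hζ hM hu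
    (rel_smul K (circ_one K) hl (u := app g e[c]) (by rwa [one_smul]))
  have hb0 : app g e[c] b = 0 := by
    have h := h_app g e[c] e[a]
    rw [hb, h_smul_right K, h_single K, h_single K e[c] a, Pi.single_eq_of_ne hca.symm] at h
    exact (mul_eq_zero.1 h).resolve_left ((map_ne_zero K.bar).2 hl.ne_zero)
  obtain ⟨u', h', hb', h7⟩ :=
    exists_big K hζ hζ2 hn hM hA (two_le_supp K (app_single_ne_zero K g c) hc) hb0
  exact top_of_ax_big K hn hM hζ (fun e => hζ2 (by rw [e, one_pow])) h' h7 hb'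

theorem mon_or_top (hn : 8 ≤ n) (hM : ∀ g, Mon g → g ∈ M) {g : G} (hg : g ∈ M) {a : Fin n}
    (ha : app g e[a] = e[a]) : M = ⊤ ∨ Mon g := by
  by_cases h : Mon g
  · exact Or.inr h
  · exact Or.inl (top_of_axis K (by omega) hM hg h (a := a) ⟨a, 1, by rw [ha, one_smul]⟩)

/-- A column with two zeros. -/
theorem top_of_two_zeros (hn : 8 ≤ n) (hM : ∀ g, Mon g → g ∈ M) {g : G} (hg : g ∈ M) (hgm : ¬ Mon g)
    {k m m' : Fin n} (hne : m ≠ m') (hm : app g e[k] m = 0) (hm' : app g e[k] m' = 0) : M = ⊤ := by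
  classical
  obtain ⟨ζ, hζ, -, hζ2⟩ := exists_circ_sq_ne_one K
  set u := app g⁻¹ e[m] with hu
  set u' := app g⁻¹ e[m']
  obtain ⟨y, hy, hyx⟩ := exists_conj_pair K hM (M.inv_mem hg) hne hζ
  have hyk : app y e[k] = e[k] := by
    rw [hyx, h_single_left K, h_single_left K, entry_swap K, entry_swap K, hm, hm']
    simp
  refine (mon_or_top K (by omega) hM hy hyk).elim id fun hym => ?_
  have huu : H u u = 1 := by rw [h_app, h_self_single K]
  have hu'u' : H u' u' = 1 := by rw [h_app, h_self_single K]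
  have huu' : H u u' = 0 := by rw [h_app, h_single K]; simp [hne.symm]
  rcases mon_two_eigen K hym hζ hζ2 huu hu'u' huu' hyx with h | ⟨h3, -⟩
  · exact top_of_axis K (by omega) hM (M.inv_mem hg) (not_mon_inv K hgm) h
  set R := Finset.univ \ supp u with hR
  have hRc : 5 ≤ R.card := by
    rw [hR, Finset.card_sdiff_of_subset (Finset.subset_univ _), Finset.card_univ, Fintype.card_fin]; omega
  obtain ⟨k', hk'⟩ := Finset.card_pos.1 (show 0 < R.card by omega)
  obtain ⟨L, hL, hL4⟩ := Finset.exists_subset_card_eq (s := R.erase k') (n := 4) (by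
    rw [Finset.card_erase_of_mem hk']; omega)
  by_contra htop
  have key : ∀ l ∈ L, (supp (app g e[k'])).card ≤ 3 ∧ supp (app g e[l]) ⊆ supp (app g e[k']) := by
    intro l hl
    obtain ⟨hlk, hlR⟩ := Finset.mem_erase.1 (hL hl)
    have z : ∀ r ∈ R, app g e[r] m = 0 := fun r hr => by
      have := notMem_supp.1 (Finset.mem_sdiff.1 hr).2
      rw [hu, entry_swap K] at this
      exact (map_eq_zero_iff _ K.bar.injective).1 this
    obtain ⟨y, hy, hyx⟩ := exists_conj_pair K hM hg (Ne.symm hlk) hζ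
    have hym : app y e[m] = e[m] := by
      rw [hyx, h_single_left K, h_single_left K, z k' hk', z l hlR]
      simp
    have hmon := (mon_or_top K (by omega) hM hy hym).resolve_left htop
    rcases mon_two_eigen K hmon hζ hζ2 (u := app g e[k']) (u' := app g e[l]) (by rw [h_app, h_self_single K])
      (by rw [h_app, h_self_single K]) (by rw [h_app, h_single K]; simp [hlk]) hyx with h | h
    · exact absurd (top_of_axis K (by omega) hM hg hgm h) htop
    · exact h
  obtain ⟨l₀, hl₀⟩ := Finset.card_pos.1 (show 0 < L.card by omega)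
  set S := supp (app g e[k'])
  let v : {l // l ∈ L} → V := fun l => app g e[l.1]
  have hli : LinearIndependent F v := by
    rw [Fintype.linearIndependent_iff]
    intro w hw i
    have e : app g (∑ l, w l • e[l.1]) = 0 := by
      rw [show app g = lin g from rfl, map_sum]
      simp only [map_smul]
      exact hw
    have e' := app_injective g (e.trans (app_zero g).symm)
    have := congrFun e' i.1
    rw [Finset.sum_apply, Finset.sum_eq_single i (fun j _ hj => by
      simp [show i.1 ≠ j.1 from fun e => hj (Subtype.ext e.symm)]) (by simp)] at this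
    simpa using this
  have hsub : Submodule.span F (Set.range v) ≤
      Submodule.span F ((S.image fun s => e[s] : Finset V) : Set V) := by
    rw [Submodule.span_le]
    rintro _ ⟨l, rfl⟩
    have hz : ∀ s ∉ S, v l s = 0 := fun s hs => notMem_supp.1 fun h => hs ((key l.1 l.2).2 h)
    have : v l = ∑ s ∈ S, v l s • e[s] := funext fun r => by
      rw [Finset.sum_apply]
      by_cases hr : r ∈ S
      · rw [Finset.sum_eq_single r (fun s _ hs => by simp [hs.symm]) (by simp [hr])]; simp
      · rw [Finset.sum_eq_zero fun s hs => by simp [show r ≠ s from fun e => hr (e ▸ hs)]]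
        exact hz r hr
    rw [SetLike.mem_coe, this]
    exact Submodule.sum_mem _ fun s hs => Submodule.smul_mem _ _
      (Submodule.subset_span (Finset.mem_coe.2 (Finset.mem_image_of_mem _ hs)))
  have h1 := Submodule.finrank_mono hsub
  rw [finrank_span_eq_card hli, Fintype.card_coe, hL4] at h1
  have h2 := (finrank_span_finset_le_card (R := F) (S.image fun s => e[s])).trans Finset.card_image_le
  have := (key l₀ hl₀).1
  unfold Set.finrank at h2
  omega

theorem rho_smul_right (ν c : F) (u x : V) : rho q ν u (c • x) = c • rho q ν u x := by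
  simp only [rho, h_smul_left K]
  module

theorem exists_equal_norms {v : V} (hv : q ≤ (supp v).card) :
    ∃ i j, i ≠ j ∧ v i ≠ 0 ∧ v j ≠ 0 ∧ v i * K.bar (v i) = v j * K.bar (v j) := by
  classical
  cases nonempty_fintype F
  have hΦ : (Finset.univ.filter fun r : F => K.bar r = r ∧ r ≠ 0).card = q - 1 := by
    rw [← card_fixed K, Nat.card_eq_fintype_card, Fintype.card_subtype]
  obtain ⟨i, hi, j, hj, hij, e⟩ := Finset.exists_ne_map_eq_of_card_lt_of_maps_to
    (s := supp v) (f := fun s => v s * K.bar (v s))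
    (t := Finset.univ.filter fun r : F => K.bar r = r ∧ r ≠ 0)
    (by rw [hΦ]; have := K.two_le; omega) (fun s hs => by
      exact Finset.mem_filter.2 ⟨Finset.mem_univ _, bar_norm K _,
        norm_ne_zero K (mem_supp.1 (Finset.mem_coe.1 hs))⟩)
  exact ⟨i, j, hij, mem_supp.1 hi, mem_supp.1 hj, e⟩

/-- The column `v = g e_k` has exactly one zero, odd characteristic, `q + 1 ∣ n`. -/
theorem top_one_zero_odd (hn : 8 ≤ n) (hM : ∀ g, Mon g → g ∈ M) (h2 : (2 : F) ≠ 0)
    {g : G} (hg : g ∈ M) (hgm : ¬ Mon g) {k m i j : Fin n} (hm : app g e[k] m = 0) (hij : i ≠ j)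
    (hi : app g e[k] i ≠ 0) (hj : app g e[k] j ≠ 0)
    (hN : app g e[k] i * K.bar (app g e[k] i) = app g e[k] j * K.bar (app g e[k] j)) : M = ⊤ := by
  classical
  set v := app g e[k] with hv
  have hmi : m ≠ i := fun e => hi (e ▸ hm)
  have hmj : m ≠ j := fun e => hj (e ▸ hm)
  set z : Fin n → F := fun s =>
    if s = i then v j / v i else if s = j then v i / v j else if s = m then -1 else 1 with hz
  have hzc : ∀ s, Circ K (z s) := fun s => by
    simp only [hz]
    split_ifs
    · unfold Circ; rw [map_div₀, div_mul_div_comm, ← hN, div_self (norm_ne_zero K hi)]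
    · unfold Circ; rw [map_div₀, div_mul_div_comm, hN, div_self (norm_ne_zero K hj)]
    · exact (circ_one K).neg
    · exact circ_one K
  obtain ⟨μ, hμ, hμx⟩ := exists_mon K (Equiv.swap i j) z hzc (by
    rw [Equiv.Perm.sign_swap hij, ← Finset.prod_subset (Finset.subset_univ ({i, j, m} : Finset (Fin n)))
      (fun s _ hs => by
        simp only [Finset.mem_insert, Finset.mem_singleton, not_or] at hs
        simp [hz, hs.1, hs.2.1, hs.2.2]),
      Finset.prod_insert (by simp [hij, hmi.symm]), Finset.prod_pair (Ne.symm hmj)]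
    simp [hz, hij.symm, hmi, hmj]
    field_simp)
  set w : V := v j • e[j] - v i • e[i]
  have hμd : ∀ y, app μ y = y + (y i / v i - y j / v j) • w + (-2 * y m) • e[m] := fun y => funext fun r => by
    obtain ⟨s, rfl⟩ := (Equiv.swap i j).surjective r
    rw [hμx]
    rcases eq_or_ne s i with rfl | hsi
    · simp [hz, w, hmj.symm, hij.symm]; field_simp; ring
    rcases eq_or_ne s j with rfl | hsj
    · simp [hz, w, hsi, hmi.symm, hij]; field_simp; ring
    rw [Equiv.swap_apply_of_ne_of_ne hsi hsj]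
    rcases eq_or_ne s m with rfl | hsm
    · simp [hz, w, hsi, hsj]; ring
    · simp [hz, w, hsi, hsj, hsm]
  set x := g⁻¹ * μ * g
  have hx : x ∈ M := M.mul_mem (M.mul_mem (M.inv_mem hg) (hM μ hμ)) hg
  have hxd : ∀ y, app x y = y + (app g y i / v i - app g y j / v j) • app g⁻¹ w +
      (-2 * app g y m) • app g⁻¹ e[m] := fun y => by
    rw [app_mul, app_mul, hμd, app_add, app_add, app_smul, app_smul, app_inv]
  have hxk : app x e[k] = e[k] := by
    rw [hxd, ← hv, hm, div_self hi, div_self hj]; simp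
  refine (mon_or_top K (by omega) hM hx hxk).elim id fun hxm => ?_
  set u := app g⁻¹ e[m] with hu
  have h6 : (supp u).card ≤ 6 := card_moved K hxm (fun y => ⟨_, _, hxd y⟩) _ fun s hs =>
    moved_of_ne K (x := u) (fun e => by
      have h' : app x u = -u := by
        rw [hxd, hu, app_inv']; simp [hmi, hmj, hmi.symm, hmj.symm]; module
      rw [h', Pi.neg_apply] at e
      exact mul_ne_zero h2 (mem_supp.1 hs) (by linear_combination -e))
  obtain ⟨a, a', haa, ha, ha'⟩ := two_zeros (v := u) (by omega)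
  exact top_of_two_zeros K (by omega) hM (M.inv_mem hg) (not_mon_inv K hgm) haa ha ha'

/-- The same in characteristic two. -/
theorem top_one_zero_even (hn : 9 ≤ n) (hM : ∀ g, Mon g → g ∈ M) (h2 : (2 : F) = 0)
    {g : G} (hg : g ∈ M) (hgm : ¬ Mon g) {k m i j : Fin n} (hm : app g e[k] m = 0) (hij : i ≠ j)
    (hi : app g e[k] i ≠ 0) (hj : app g e[k] j ≠ 0)
    (hN : app g e[k] i * K.bar (app g e[k] i) = app g e[k] j * K.bar (app g e[k] j)) : M = ⊤ := by
  classical
  by_contra htop
  have hZ : ∀ h ∈ M, ¬ Mon h → ∀ a, (supp (app h e[a])).card + 2 ≤ n → False := fun h hh hhm a hc => by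
    obtain ⟨b, b', hbb, hb, hb'⟩ := two_zeros hc
    exact htop (top_of_two_zeros K (by omega) hM hh hhm hbb hb hb')
  obtain ⟨ν, hν, hν1, hν2⟩ := exists_circ_sq_ne_one K
  set v := app g e[k] with hv
  have hmi : m ≠ i := fun e => hi (e ▸ hm)
  have hmj : m ≠ j := fun e => hj (e ▸ hm)
  set N := v i * K.bar (v i)
  have hN0 : N ≠ 0 := norm_ne_zero K hi
  set c := N⁻¹
  have hc : c + K.bar c = 0 := by
    rw [show K.bar c = c by simp only [c, map_inv₀, N, bar_norm K]]; linear_combination c * h2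
  -- the phase transpositions
  have hW : ∀ z : F, Circ K z → ∃ t : G, Mon t ∧ IsT K t ((z * v i) • e[i] + v j • e[j]) c := fun z hz => by
    have hzz : z * K.bar z = 1 := hz
    have h0 : H ((z * v i) • e[i] + v j • e[j]) ((z * v i) • e[i] + v j • e[j]) = 0 := by
      simp only [h_add_left K, h_add_right K, h_smul_left K, h_smul_right K, h_single_single K, if_pos,
        hij, hij.symm, if_false, map_mul]
      linear_combination N * hzz - hN + N * h2
    obtain ⟨t, ht⟩ := exists_T K h0 hc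
    refine ⟨t, mon_of_T K ht (i := i) (l := j) (fun s a b => by simp [a, b]) h2 ?_ ?_, ht⟩
    · have : (z * v i) * K.bar (z * v i) = N := by rw [map_mul]; linear_combination N * hzz
      rw [show ((z * v i) • e[i] + v j • e[j]) i = z * v i by simp [hij], this]
      exact inv_mul_cancel₀ hN0
    · rw [show ((z * v i) • e[i] + v j • e[j]) j = v j by simp [hij.symm], ← hN]
      exact inv_mul_cancel₀ hN0
  obtain ⟨τ, hτ, hτT⟩ := hW 1 (circ_one K)
  rw [one_mul] at hτT
  set w₀ : V := v i • e[i] + v j • e[j] with hw₀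
  have hvw : H v w₀ = 0 := by
    simp only [hw₀, h_add_right K, h_smul_right K, h_single K]
    linear_combination -hN + N * h2
  have hxT : IsT K (g⁻¹ * τ * g) (app g⁻¹ w₀) c := by simpa using conj_T K (h := g⁻¹) hτT
  set w := app g⁻¹ w₀ with hw
  have hgw : app g w = w₀ := by rw [hw, app_inv']
  have hx : g⁻¹ * τ * g ∈ M := M.mul_mem (M.mul_mem (M.inv_mem hg) (hM τ hτ)) hg
  have hxk : app (g⁻¹ * τ * g) e[k] = e[k] := by
    rw [hxT.2.2, ← h_app g, hgw, ← hv, hvw]; simp
  have hw2 := card_supp_of_mon_T K ((mon_or_top K (by omega) hM hx hxk).resolve_left htop) (inv_ne_zero hN0) hxT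
  -- the rows
  set Ri := app g⁻¹ e[i] with hRi
  set Rm := app g⁻¹ e[m] with hRm
  have hRsupp : ∀ a, n ≤ (supp (app g⁻¹ e[a])).card + 1 := fun a => by
    by_contra hc'
    exact hZ g⁻¹ (M.inv_mem hg) (not_mon_inv K hgm) a (by omega)
  have hRmk : Rm k = 0 := by rw [hRm, entry_swap K, ← hv, hm, map_zero]
  set S := supp Ri \ insert k (supp w) with hS
  have hSc : 5 ≤ S.card := by
    have h1 := hRsupp i
    rw [← hRi] at h1
    have h2' := Finset.le_card_sdiff (insert k (supp w)) (supp Ri)
    have h3 := Finset.card_insert_le k (supp w)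
    rw [hS]; omega
  have hSR : ∀ s ∈ S, Ri s ≠ 0 ∧ Rm s ≠ 0 ∧ w s = 0 ∧ s ≠ k := fun s hs => by
    rw [hS, Finset.mem_sdiff, Finset.mem_insert, not_or, mem_supp, notMem_supp] at hs
    refine ⟨hs.1, fun e => ?_, hs.2.2, hs.2.1⟩
    have h1 := hRsupp m
    rw [← hRm] at h1
    have h3 : supp Rm ⊆ (Finset.univ.erase k).erase s := fun r hr => by
      rw [mem_supp] at hr
      simp only [Finset.mem_erase, Finset.mem_univ, and_true]
      exact ⟨fun e' => hr (e' ▸ e), fun e' => hr (e' ▸ hRmk)⟩
    have h4 := Finset.card_le_card h3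
    rw [Finset.card_erase_of_mem (Finset.mem_erase.2 ⟨hs.2.1, Finset.mem_univ _⟩),
      Finset.card_erase_of_mem (Finset.mem_univ _), Finset.card_univ, Fintype.card_fin] at h4
    omega
  have hwk : w k = 0 := by rw [← h_single K w k, ← h_app g, hgw, h_swap K, ← hv, hvw, map_zero]
  obtain ⟨s₀, hs₀⟩ := Finset.card_pos.1 (show 0 < S.card by omega)
  obtain ⟨A, hA, hA4⟩ := Finset.exists_subset_card_eq (s := S.erase s₀) (n := 4) (by
    rw [Finset.card_erase_of_mem hs₀]; omega)
  have hAS : ∀ s ∈ A, s ∈ S ∧ s ≠ s₀ := fun s hs =>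
    ⟨Finset.mem_of_mem_erase (hA hs), Finset.ne_of_mem_erase (hA hs)⟩
  set f : Fin n → F := fun s => Ri s * K.bar (Rm s) with hf
  obtain ⟨z, hz, hz1, hzs⟩ := circ_sum K (A := A) (by omega) (f := f)
    (fun s hs => mul_ne_zero (hSR s (hAS s hs).1).1 ((map_ne_zero K.bar).2 (hSR s (hAS s hs).1).2.1))
    (∑ s ∈ A, f s + f s₀ * (1 - ν))
  set z₁ := Function.update z s₀ ν with hz₁
  set z₂ := Function.update z₁ k (∏ s ∈ Finset.univ.erase k, z₁ s)⁻¹ with hz₂
  have hz₁c : ∀ s, Circ K (z₁ s) := fun s => by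
    simp only [hz₁, Function.update_apply]; split_ifs <;> first | exact hν | exact hz s
  obtain ⟨δ, hδ, hδx⟩ := exists_mon K 1 z₂ (fun s => by
      simp only [hz₂, Function.update_apply]
      split_ifs
      · exact (circ_prod fun r _ => hz₁c r).inv
      · exact hz₁c s) (by
      rw [Equiv.Perm.sign_one, Units.val_one, Int.cast_one, one_mul, ← Finset.mul_prod_erase _ _
        (Finset.mem_univ k), Finset.prod_congr rfl (fun s hs => by
          rw [hz₂, Function.update_of_ne (Finset.ne_of_mem_erase hs)]), hz₂, Function.update_self]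
      exact inv_mul_cancel₀ (Finset.prod_ne_zero_iff.2 fun s _ => (hz₁c s).ne_zero))
  replace hδx : ∀ x s, app δ x s = z₂ s * x s := hδx
  have hz₂s₀ : z₂ s₀ = ν := by
    rw [hz₂, Function.update_of_ne (hSR s₀ hs₀).2.2.2, hz₁, Function.update_self]
  have hz₂e : ∀ s, s ∉ S → s ≠ k → z₂ s = 1 := fun s hs hsk => by
    rw [hz₂, Function.update_of_ne hsk, hz₁, Function.update_of_ne (fun e : s = s₀ => hs (e ▸ hs₀)),
      hz1 s fun h => hs (hAS s h).1]
  have hδw : app δ w = w := funext fun s => by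
    rw [hδx]
    by_cases hs : w s = 0
    · rw [hs, mul_zero]
    · rw [hz₂e s (fun h => hs (hSR s h).2.2.1) (fun e => hs (e ▸ hwk)), one_mul]
  set g' := g * δ * g⁻¹ with hg'
  have hg'M : g' ∈ M := M.mul_mem (M.mul_mem hg (hM δ hδ)) (M.inv_mem hg)
  have hg'w : app g' w₀ = w₀ := by rw [hg', app_mul, app_mul, ← hw, hδw, hgw]
  have hg'i : app g' e[i] = app g (app δ Ri) := by rw [hg', app_mul, app_mul, hRi]
  have hzero : app g' e[i] m = 0 := by
    rw [← h_single K (app g' e[i]) m, hg'i, ← app_inv' g e[m], h_app, ← hRm, Unitary.herm_apply K]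
    have h0 : ∑ s, f s = 0 := by
      have := h_app g⁻¹ e[i] e[m]
      rw [← hRi, ← hRm, Unitary.herm_apply K, h_single K] at this
      simpa [hf, hmi] using this
    have hzA : ∀ s ∈ A, z₂ s = z s := fun s hs => by
      rw [hz₂, Function.update_of_ne (hSR s (hAS s hs).1).2.2.2, hz₁, Function.update_of_ne (hAS s hs).2]
    have e1 : ∀ s, app δ Ri s * K.bar (Rm s) = f s * z₂ s := fun s => by rw [hδx, hf]; ring
    rw [Finset.sum_congr rfl fun s _ => e1 s]
    have hs₀A : s₀ ∉ A := fun h => (hAS s₀ h).2 rfl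
    have e2 : ∀ s, s ∉ insert s₀ A → f s * z₂ s = f s := fun s hs => by
      rw [Finset.mem_insert, not_or] at hs
      by_cases hsk : s = k
      · simp [hf, hsk, hRmk]
      · rw [hz₂, Function.update_of_ne hsk, hz₁, Function.update_of_ne hs.1, hz1 s hs.2, mul_one]
    rw [← Finset.sum_sdiff (Finset.subset_univ (insert s₀ A)),
      Finset.sum_congr rfl (fun s hs => e2 s (Finset.mem_sdiff.1 hs).2), Finset.sum_insert hs₀A, hz₂s₀,
      Finset.sum_congr rfl (fun s (hs : s ∈ A) => by rw [hzA s hs]), hzs]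
    rw [← Finset.sum_sdiff (Finset.subset_univ (insert s₀ A)), Finset.sum_insert hs₀A] at h0
    linear_combination h0
  obtain ⟨t, htm, htT⟩ := hW ν hν
  set u := app g' ((ν * v i) • e[i] + v j • e[j]) with hu
  have huT : IsT K (g' * t * g'⁻¹) u c := conj_T K htT
  have hue : u = w₀ + ((ν - 1) * v i) • app g' e[i] := by
    rw [← hg'w, hw₀, hu, ← app_smul, ← app_add]
    congr 1
    module
  have hum : u m = 0 := by rw [hue]; simp [hw₀, hzero, hmi, hmj]
  have hum' : app (g' * t * g'⁻¹) e[m] = e[m] := by rw [huT.2.2, h_single_left K, hum]; simp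
  have hu2 := card_supp_of_mon_T K ((mon_or_top K (by omega) hM
    (M.mul_mem (M.mul_mem hg'M (hM t htm)) (M.inv_mem hg'M)) hum').resolve_left htop) (inv_ne_zero hN0) huT
  have hg'm : Mon g' := by
    by_contra hc'
    refine hZ g' hg'M hc' i ?_
    have hsub : supp (app g' e[i]) ⊆ supp u ∪ {i, j} := fun s hs => by
      rw [mem_supp] at hs
      rw [Finset.mem_union, mem_supp, Finset.mem_insert, Finset.mem_singleton]
      by_contra hcs
      simp only [not_or, not_not] at hcs
      refine mul_ne_zero (mul_ne_zero (sub_ne_zero.2 hν1) hi) hs ?_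
      have e := congrFun hue s
      simpa [hw₀, hcs.1, hcs.2.1, hcs.2.2] using e.symm
    have h4 := (Finset.card_le_card hsub).trans (Finset.card_union_le _ _)
    have h5 := Finset.card_le_two (a := i) (b := j)
    omega
  obtain ⟨σ, l, hl, hσ, hσ'⟩ := hg'm.exists_perm K
  have hRis₀ := (hSR s₀ hs₀).1
  have hfix : app g' (app g' e[i]) = e[i] → False := fun e => by
    rw [hg'i, hg', app_mul, app_mul, app_inv] at e
    have e' : app δ (app δ Ri) = Ri := by rw [← app_inv g (app δ (app δ Ri)), e, hRi]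
    have := congrFun e' s₀
    rw [hδx, hδx, hz₂s₀, ← mul_assoc] at this
    exact hν2 (mul_right_cancel₀ hRis₀ (by linear_combination this))
  have hev := fun s => hσ' w₀ s
  rw [hg'w] at hev
  have hsi : σ i = i ∨ σ i = j := by
    by_contra hc'
    rw [not_or] at hc'
    have := hev i
    simp [hw₀, hc'.1, hc'.2, hij, hi, (hl i).ne_zero] at this
  rcases hsi with h | h
  · refine hfix ?_
    have := hev i
    simp [hw₀, h, hij] at this
    have hl1 : l i = 1 := mul_right_cancel₀ hi (by linear_combination -this)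
    rw [hσ, h, app_smul, hσ, h, hl1, one_smul, one_smul]
  · refine hfix ?_
    have hσj : σ j = i := by
      obtain ⟨r, hr⟩ := σ.surjective i
      rcases eq_or_ne r j with rfl | hrj
      · exact hr
      have := hev r
      rcases eq_or_ne r i with rfl | hri
      · exact absurd (h.symm.trans hr) (Ne.symm hij)
      simp [hw₀, hr, hij, hri, hrj, hi] at this
    have e1 := hev i
    have e2 := hev j
    simp [hw₀, h, hσj, hij, hij.symm] at e1 e2
    rw [hσ, h, app_smul, hσ, hσj, smul_smul,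
      show l i * l j = 1 from mul_right_cancel₀ hj (by linear_combination -e1 - l i * e2), one_smul]

/-- An element with a zero entry. -/
theorem top_of_zero (hn : 8 ≤ n) (hM : ∀ g, Mon g → g ∈ M) {g : G} (hg : g ∈ M) (hgm : ¬ Mon g)
    {k m : Fin n} (hm : app g e[k] m = 0) : M = ⊤ := by
  classical
  set v := app g e[k] with hv
  by_cases hax : IsAxis v
  · exact top_of_axis K (by omega) hM hg hgm hax
  by_cases h2 : (supp v).card + 2 ≤ n
  · obtain ⟨a, a', haa, ha, ha'⟩ := two_zeros h2
    exact top_of_two_zeros K (by omega) hM hg hgm haa ha ha'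
  by_cases hdiv : q + 1 ∣ n
  · have hqn := Nat.le_of_dvd (by omega) hdiv
    obtain ⟨i, j, hij, hi, hj, hN⟩ := exists_equal_norms K (v := v) (by omega)
    by_cases h : (2 : F) = 0
    · have hn9 : 9 ≤ n := by
        by_contra hc
        have hd8 : q + 1 ∣ 2 ^ 3 := (show n = 2 ^ 3 by norm_num; omega) ▸ hdiv
        obtain ⟨k', -, hk'⟩ := (Nat.dvd_prime_pow Nat.prime_two).1 hd8
        cases nonempty_fintype F
        have hev : Even q := by
          by_contra ho
          have hF : Odd (Fintype.card F) := by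
            rw [← Nat.card_eq_fintype_card, K.card]; exact (Nat.not_even_iff_odd.1 ho).pow
          have hne : ringChar F ≠ 2 := fun e => by
            have := FiniteField.even_card_of_char_two e
            rw [Nat.odd_iff] at hF
            omega
          exact Ring.two_ne_zero hne h
        rcases Nat.eq_zero_or_pos k' with rfl | hk0
        · have := K.two_le
          omega
        · obtain ⟨a, rfl⟩ := hev
          have : 2 ∣ 2 ^ k' := dvd_pow_self 2 (by omega)
          omega
      exact top_one_zero_even K hn9 hM h hg hgm hm hij hi hj hN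
    · exact top_one_zero_odd K hn hM h hg hgm hm hij hi hj hN
  obtain ⟨ζ, hζ, ho⟩ := exists_circ_gen K
  set ν := (ζ ^ n)⁻¹ with hνdef
  have hν : Circ K ν := (hζ.pow n).inv
  have hν1 : ν ≠ 1 := fun e => hdiv (ho ▸ orderOf_dvd_of_pow_eq_one (inv_eq_one.1 e))
  have hμ : ∀ a : Fin n, ∃ μ : G, Mon μ ∧ ∀ x, app μ x = ζ • rho q ν e[a] x := fun a => by
    obtain ⟨μ, hμ, hμx⟩ := exists_mon K 1 (Function.update (fun _ => ζ) a (ζ * ν)) (fun s => by
      rw [Function.update_apply]; split_ifs <;> first | exact hζ.mul hν | exact hζ) (by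
      rw [Equiv.Perm.sign_one, Units.val_one, Int.cast_one, one_mul, Finset.prod_update_of_mem
        (Finset.mem_univ a), Finset.prod_const, Finset.card_sdiff_of_subset (Finset.subset_univ _),
        Finset.card_univ, Fintype.card_fin, Finset.card_singleton, hνdef, mul_comm ζ, mul_assoc,
        ← pow_succ', Nat.sub_add_cancel (by omega)]
      exact inv_mul_cancel₀ (pow_ne_zero _ hζ.ne_zero))
    refine ⟨μ, hμ, fun x => funext fun s => ?_⟩
    have := hμx x s
    rw [Equiv.Perm.one_apply] at this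
    rw [this, rho, h_single K]
    rcases eq_or_ne s a with rfl | hs
    · simp; ring
    · simp [hs]
  obtain ⟨μ, hμm, hμx⟩ := hμ k
  obtain ⟨μ', hμ'm, hμ'x⟩ := hμ m
  have hrel : Rel q M ν v e[m] := by
    refine ⟨g * μ * g⁻¹ * μ'⁻¹,
      M.mul_mem (M.mul_mem (M.mul_mem hg (hM μ hμm)) (M.inv_mem hg)) (M.inv_mem (hM μ' hμ'm)), fun x => ?_⟩
    have h1 : app μ'⁻¹ x = ζ⁻¹ • rho q ν⁻¹ e[m] x := app_injective μ' (by
      rw [app_inv', hμ'x, rho_smul_right K, smul_smul, mul_inv_cancel₀ hζ.ne_zero, one_smul,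
        rho_inv K hν.ne_zero (h_self_single K m)])
    rw [app_mul, app_mul, app_mul, hμx, app_smul, rho_app K, app_inv', h1, rho_smul_right K,
      smul_smul, mul_inv_cancel₀ hζ.ne_zero, one_smul]
  have hvv : H v v = 1 := by rw [hv, h_app, h_self_single K]
  exact top_of_ax_big K hn hM hν hν1 (ax_of_rel K hν hM hvv hrel) (by omega) hm

/-- Two solutions in dimension twelve differing in at most three places. -/
theorem exists_twelve (hn : n = 12) {f : Fin n → F} (hf : ∀ s, f s ≠ 0) :
    ∃ z : (Fin n → F) × (Fin n → F),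
      ((∀ s, Circ K (z.1 s)) ∧ ∏ s, z.1 s = 1 ∧ ∑ s, f s * z.1 s = 0) ∧ True ∧
      (((∀ s, Circ K (z.2 s)) ∧ ∏ s, z.2 s = 1 ∧ ∑ s, f s * z.2 s = 0) ∧
        ∃ T : Finset (Fin n), T.card ≤ 3 ∧ ∀ s ∉ T, z.1 s = z.2 s) ∧ z.1 ≠ z.2 := by
  classical
  obtain ⟨T, -, hT⟩ := Finset.exists_subset_card_eq (s := (Finset.univ : Finset (Fin n))) (n := 3)
    (by rw [Finset.card_univ, Fintype.card_fin]; omega)
  obtain ⟨A, hA, hA5⟩ := Finset.exists_subset_card_eq (s := Finset.univ \ T) (n := 5) (by
    rw [Finset.card_sdiff_of_subset (Finset.subset_univ _), Finset.card_univ, Fintype.card_fin, hT]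
    omega)
  have hAT : Disjoint A T := Finset.disjoint_left.2 fun x hx => (Finset.mem_sdiff.1 (hA hx)).2
  set B := Finset.univ \ (A ∪ T) with hB
  have hB4 : B.card = 4 := by
    rw [hB, Finset.card_sdiff_of_subset (Finset.subset_univ _), Finset.card_union_of_disjoint hAT,
      Finset.card_univ, Fintype.card_fin, hA5, hT]
    omega
  -- two triples with the same sum and product
  obtain ⟨w, w', hww, hw, hw', hws, hwp⟩ : ∃ w w' : {s // s ∈ T} → F, w ≠ w' ∧ (∀ s, Circ K (w s)) ∧
      (∀ s, Circ K (w' s)) ∧ ∑ s, f s.1 * w s = ∑ s, f s.1 * w' s ∧ ∏ s, w s = ∏ s, w' s := by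
    haveI := Fintype.ofFinite F
    let C := {z : F // Circ K z}
    let φ : ({s // s ∈ T} → C) → F × C := fun w =>
      (∑ s, f s.1 * (w s).1, ⟨∏ s, (w s).1, circ_prod fun s _ => (w s).2⟩)
    have hcard : Fintype.card C = q + 1 := by
      rw [← Nat.card_eq_fintype_card]; exact Herm.card_norm_one K
    have hlt : Fintype.card (F × C) < Fintype.card ({s // s ∈ T} → C) := by
      rw [Fintype.card_prod, Fintype.card_fun, Fintype.card_coe, hT, hcard]
      have : Fintype.card F = q ^ 2 := by rw [← Nat.card_eq_fintype_card]; exact K.card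
      rw [this]
      nlinarith
    obtain ⟨w, w', hne, e⟩ := Fintype.exists_ne_map_eq_of_card_lt φ hlt
    exact ⟨fun s => (w s).1, fun s => (w' s).1, fun h => hne (funext fun s => Subtype.ext (congrFun h s)),
      fun s => (w s).2, fun s => (w' s).2, congrArg Prod.fst e,
      congrArg Subtype.val (congrArg Prod.snd e)⟩
  obtain ⟨za, hza, -, hsa⟩ := circ_sum K (A := A) (by omega) (f := f) (fun s _ => hf s) 0
  obtain ⟨zb, hzb, -, hsb⟩ := circ_sum K (A := B) (by omega) (f := f) (fun s _ => hf s)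
    (-∑ s, f s.1 * w s)
  set d := (∏ s ∈ A, za s) * (∏ s ∈ B, zb s) * ∏ s, w s with hd
  have hdc : Circ K d := ((circ_prod fun s _ => hza s).mul (circ_prod fun s _ => hzb s)).mul
    (circ_prod fun s _ => hw s)
  have hd0 := hdc.ne_zero
  set α := (d ^ 3)⁻¹ with hα
  set μ := d ^ 2 with hμ
  let Z : ({s // s ∈ T} → F) → Fin n → F := fun v s =>
    if h : s ∈ T then μ * v ⟨s, h⟩ else if s ∈ A then za s * α else zb s * μ
  have hsplit : ∀ φ : Fin n → F,
      ∏ s, φ s = (∏ s ∈ A, φ s) * (∏ s ∈ B, φ s) * ∏ s : {s // s ∈ T}, φ s.1 := by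
    intro φ
    rw [← Finset.prod_sdiff (Finset.subset_univ (A ∪ T)), Finset.prod_union hAT, ← hB,
      ← Finset.prod_coe_sort T φ]
    ac_rfl
  have hZA : ∀ v, ∀ s ∈ A, Z v s = za s * α := fun v s hs => by
    show dite _ _ _ = _
    rw [dif_neg (Finset.disjoint_left.1 hAT hs), if_pos hs]
  have hZB : ∀ v, ∀ s ∈ B, Z v s = zb s * μ := fun v s hs => by
    have := (Finset.mem_sdiff.1 hs).2
    rw [Finset.mem_union, not_or] at this
    show dite _ _ _ = _
    rw [dif_neg this.2, if_neg this.1]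
  have hZT : ∀ v (s : {s // s ∈ T}), Z v s.1 = μ * v s := fun v s => dif_pos s.2
  have key : ∀ v, (∀ s, Circ K (v s)) → ∑ s, f s.1 * v s = ∑ s, f s.1 * w s →
      ∏ s, v s = ∏ s, w s →
      (∀ s, Circ K (Z v s)) ∧ ∏ s, Z v s = 1 ∧ ∑ s, f s * Z v s = 0 := by
    intro v hv hvs hvp
    refine ⟨fun s => ?_, ?_, ?_⟩
    · show Circ K (dite _ _ _)
      split_ifs
      · exact (hdc.pow 2).mul (hv _)
      · exact (hza s).mul (hdc.pow 3).inv
      · exact (hzb s).mul (hdc.pow 2)
    · rw [hsplit, Finset.prod_congr rfl (hZA v), Finset.prod_congr rfl (hZB v),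
        Finset.prod_congr rfl (fun s _ => hZT v s), Finset.prod_mul_distrib, Finset.prod_mul_distrib,
        Finset.prod_mul_distrib, Finset.prod_const, Finset.prod_const, Finset.prod_const, hA5, hB4,
        Finset.card_univ, Fintype.card_coe, hT, hvp, hα, hμ]
      have e : (∏ s ∈ A, za s) * (∏ s ∈ B, zb s) * ∏ s, w s = d := hd.symm
      field_simp
      linear_combination d ^ 14 * e
    · rw [← Finset.sum_sdiff (Finset.subset_univ (A ∪ T)), Finset.sum_union hAT, ← hB,
        ← Finset.sum_coe_sort T (fun s => f s * Z v s),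
        Finset.sum_congr rfl (fun s (hs : s ∈ A) => show f s * Z v s = α * (f s * za s) by
          rw [hZA v s hs]; ring),
        Finset.sum_congr rfl (fun s (hs : s ∈ B) => show f s * Z v s = μ * (f s * zb s) by
          rw [hZB v s hs]; ring),
        Finset.sum_congr rfl (fun s _ => show f s.1 * Z v s.1 = μ * (f s.1 * v s) by
          rw [hZT]; ring),
        ← Finset.mul_sum, ← Finset.mul_sum, ← Finset.mul_sum, hsa, hsb, hvs]
      ring
  refine ⟨(Z w, Z w'), key w hw rfl rfl, trivial, ⟨key w' hw' hws.symm hwp.symm, T, hT.le,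
    fun s hs => by show dite _ _ _ = dite _ _ _; rw [dif_neg hs, dif_neg hs]⟩, fun h => hww (funext fun s => ?_)⟩
  have e := congrFun h s.1
  simp only [hZT] at e
  exact mul_left_cancel₀ (pow_ne_zero 2 hd0) e

/-- A monomial conjugate of a nearly scalar diagonal element has an eigen-axis. -/
theorem exists_fixed_of_few {g d : G} {z : Fin n → F} (hm : Mon (g * d * g⁻¹))
    (hd : ∀ x s, app d x s = z s * x s) {T : Finset (Fin n)} (hT : 2 * T.card < n) {c₀ : F}
    (hz : ∀ s ∉ T, z s = c₀) : ∃ a, app d (app g⁻¹ e[a]) = c₀ • app g⁻¹ e[a] := by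
  classical
  by_contra hc
  push Not at hc
  obtain ⟨σ, c, -, hσ, -⟩ := hm.exists_perm K
  set x := g * d * g⁻¹ with hx
  let W : Submodule F V := Submodule.span F ((T.image fun s => app g e[s] : Finset V) : Set V)
  let v : Fin n → V := fun a => c a • e[σ a] - c₀ • e[a]
  have hmem : ∀ a, v a ∈ W := by
    intro a
    have e1 : v a = app g (app d (app g⁻¹ e[a]) - c₀ • app g⁻¹ e[a]) := by
      rw [show app g = lin g from rfl, map_sub, map_smul]
      show v a = app g (app d (app g⁻¹ e[a])) - c₀ • app g (app g⁻¹ e[a])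
      rw [app_inv', ← app_mul, ← app_mul, ← hx, hσ]
    set y := app g⁻¹ e[a]
    have e2 : app d y - c₀ • y = ∑ s ∈ T, ((z s - c₀) * y s) • e[s] := funext fun r => by
      rw [Pi.sub_apply, Pi.smul_apply, smul_eq_mul, hd, Finset.sum_apply]
      by_cases hr : r ∈ T
      · rw [Finset.sum_eq_single r (fun s _ hs => by simp [hs.symm]) (by simp [hr])]
        simp; ring
      · rw [Finset.sum_eq_zero fun s hs => by simp [show r ≠ s from fun e => hr (e ▸ hs)], hz r hr]
        ring
    rw [e1, e2, show app g = lin g from rfl, map_sum]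
    refine Submodule.sum_mem _ fun s hs => ?_
    rw [map_smul]
    exact Submodule.smul_mem _ _ (Submodule.subset_span (Finset.mem_coe.2
      (Finset.mem_image_of_mem (fun s => app g e[s]) hs)))
  have hdiag : ∀ a, v a a ≠ 0 := fun a h => by
    have e := hσ a
    rw [hx, app_mul, app_mul] at e
    by_cases hs : σ a = a
    · simp [v, hs] at h
      refine hc a (app_injective g (e.trans ?_))
      rw [hs, sub_eq_zero.1 h, app_smul, app_inv']
    · simp [v, Ne.symm hs] at h
      refine hc a (app_injective g (e.trans ?_))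
      have hd0 : ∀ y, app d (app g⁻¹ e[a]) = y → y ≠ 0 := fun y hy hy0 =>
        app_single_ne_zero K g⁻¹ a (app_injective d (hy.trans (hy0.trans (app_zero d).symm)))
      exfalso
      have : c₀ = 0 := h
      obtain ⟨t, -, ht⟩ := Finset.exists_mem_notMem_of_card_lt_card (s := T)
        (t := (Finset.univ : Finset (Fin n))) (by rw [Finset.card_univ, Fintype.card_fin]; omega)
      have h0 : app d e[t] = 0 := funext fun r => by
        rw [hd]
        rcases eq_or_ne r t with rfl | hr
        · rw [hz r ht, this]; simp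
        · simp [hr]
      exact app_single_ne_zero K d t h0
  have grow : ∀ k, k ≤ T.card + 1 → ∃ X : Finset (Fin n), X.card ≤ 2 * k ∧ ∃ U : Submodule F V, U ≤ W ∧
      k ≤ Module.finrank F U ∧ ∀ u ∈ U, ∀ r ∉ X, u r = 0 := by
    intro k
    induction k with
    | zero => exact fun _ => ⟨∅, by simp, ⊥, bot_le, Nat.zero_le _, fun u hu r _ => by
        rw [(Submodule.mem_bot F).1 hu]; rfl⟩
    | succ k ih =>
      intro hk
      obtain ⟨X, hX, U, hUW, hUk, hU⟩ := ih (by omega)
      obtain ⟨a, -, ha⟩ := Finset.exists_mem_notMem_of_card_lt_card (s := X)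
        (t := (Finset.univ : Finset (Fin n))) (by rw [Finset.card_univ, Fintype.card_fin]; omega)
      refine ⟨insert a (insert (σ a) X), ?_, U ⊔ Submodule.span F {v a},
        sup_le hUW (Submodule.span_le.2 (Set.singleton_subset_iff.2 (hmem a))), ?_, fun u hu r hr => ?_⟩
      · have := Finset.card_insert_le a (insert (σ a) X)
        have := Finset.card_insert_le (σ a) X
        omega
      · have hlt : U < U ⊔ Submodule.span F {v a} := lt_of_le_not_ge le_sup_left fun hle =>
          hdiag a (hU _ (hle (Submodule.mem_sup_right (Submodule.mem_span_singleton_self _))) a ha)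
        have := Submodule.finrank_lt_finrank_of_lt hlt
        omega
      · simp only [Finset.mem_insert, not_or] at hr
        obtain ⟨u₁, hu₁, u₂, hu₂, rfl⟩ := Submodule.mem_sup.1 hu
        obtain ⟨t, rfl⟩ := Submodule.mem_span_singleton.1 hu₂
        rw [Pi.add_apply, hU u₁ hu₁ r hr.2.2]
        simp [v, hr.1, hr.2.1]
  obtain ⟨X, -, U, hUW, hU5, -⟩ := grow (T.card + 1) le_rfl
  have h1 := Submodule.finrank_mono hUW
  have h2 := (finrank_span_finset_le_card (R := F) (T.image fun s => app g e[s])).trans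
    Finset.card_image_le
  unfold Set.finrank at h2
  simp only [W] at h1
  omega

theorem exists_fixed_of_small (hn : 9 ≤ n) {g d : G} {z : Fin n → F} (hm : Mon (g * d * g⁻¹))
    (hd : ∀ x s, app d x s = z s * x s) {T : Finset (Fin n)} (hT : T.card ≤ 4) {c₀ : F}
    (hz : ∀ s ∉ T, z s = c₀) : ∃ a, app d (app g⁻¹ e[a]) = c₀ • app g⁻¹ e[a] :=
  exists_fixed_of_few K hm hd (by omega) hz

/-- The monomial subgroup is maximal. -/
theorem top_of_not_mon (hn : 9 ≤ n) (hM : ∀ g, Mon g → g ∈ M) {g : G} (hg : g ∈ M) (hgm : ¬ Mon g) :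
    M = ⊤ := by
  classical
  by_contra htop
  have hfull : ∀ a b, app g e[a] b ≠ 0 := fun a b e => htop (top_of_zero K (by omega) hM hg hgm e)
  set m : Fin n := ⟨0, by omega⟩
  set m' : Fin n := ⟨1, by omega⟩
  have hmm : m ≠ m' := by simp [m, m']
  set f : Fin n → F := fun s => app g⁻¹ e[m'] s * K.bar (app g⁻¹ e[m] s) with hf
  have hf0 : ∀ s, f s ≠ 0 := fun s => by
    rw [hf]; dsimp only
    rw [entry_swap K, entry_swap K, K.bar_bar]
    exact mul_ne_zero ((map_ne_zero K.bar).2 (hfull _ _)) (hfull _ _)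
  let Good : (Fin n → F) → Prop := fun z => ∃ d : G, (∀ x s, app d x s = z s * x s) ∧ Mon (g * d * g⁻¹)
  have hmul : ∀ z z', Good z → Good z' → Good (fun s => z s * z' s) := by
    rintro z z' ⟨d, hd, hdm⟩ ⟨d', hd', hdm'⟩
    refine ⟨d * d', fun x s => by rw [app_mul, hd, hd', mul_assoc], ?_⟩
    have := mon_mul hdm hdm'
    rwa [show g * d * g⁻¹ * (g * d' * g⁻¹) = g * (d * d') * g⁻¹ by group] at this
  have hinv : ∀ z, Good z → Good (fun s => (z s)⁻¹) := by
    rintro z ⟨d, hd, hdm⟩
    refine ⟨d⁻¹, fun x s => ?_, ?_⟩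
    · have hz : z s ≠ 0 := fun e => by
        have h := congrFun (app_inv' d e[s]) s
        rw [hd, e, zero_mul, Pi.single_eq_same] at h
        exact zero_ne_one h
      have h := congrFun (app_inv' d x) s
      rw [hd] at h
      rw [← h, ← mul_assoc, inv_mul_cancel₀ hz, one_mul]
    · have := mon_inv K hdm
      rwa [show (g * d * g⁻¹)⁻¹ = g * d⁻¹ * g⁻¹ by group] at this
  have hsol : ∀ z : Fin n → F, (∀ s, Circ K (z s)) → ∏ s, z s = 1 → ∑ s, f s * z s = 0 → Good z := by
    intro z hz hp hs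
    obtain ⟨d, hd, hdx⟩ := exists_mon K 1 z hz (by
      rw [Equiv.Perm.sign_one, Units.val_one, Int.cast_one, one_mul, hp])
    replace hdx : ∀ x s, app d x s = z s * x s := hdx
    refine ⟨d, hdx, by_contra fun hc => htop (top_of_zero K (by omega) hM
      (M.mul_mem (M.mul_mem hg (hM d hd)) (M.inv_mem hg)) hc (k := m') (m := m) ?_)⟩
    rw [← h_single K (app (g * d * g⁻¹) e[m']) m, app_mul, app_mul, ← app_inv' g e[m], h_app,
      Unitary.herm_apply K, ← hs]
    exact Finset.sum_congr rfl fun s _ => by rw [hdx, hf]; ring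
  by_cases hn12 : n ≤ 12
  · obtain ⟨z₁, z₂, hz₁, hz₂, T, c₀, hT, hzo, t, ht, hzt⟩ : SmallPair K f := by
      rcases Nat.lt_or_ge n 12 with h | h
      · rcases Nat.lt_or_ge n 10 with h' | h'
        · exact small_nine K (by omega) hf0
        · exact small_ten_eleven K (by omega) hf0
      · obtain ⟨z, hz, -, ⟨hz2, T, hT, hzo⟩, hne⟩ := exists_twelve K (le_antisymm hn12 h) hf0
        refine ⟨z.1, z.2, hz, hz2, T, 1, by omega, fun s hs => by rw [one_mul]; exact hzo s hs, ?_⟩
        by_contra hc'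
        push Not at hc'
        exact hne (funext fun s => if hs : s ∈ T then (hc' s hs).trans (one_mul _) else hzo s hs)
    obtain ⟨d, hd, hdm⟩ := hsol z₁ hz₁.1 hz₁.2.1 hz₁.2.2
    obtain ⟨d', hd', hdm'⟩ := hsol z₂ hz₂.1 hz₂.2.1 hz₂.2.2
    obtain ⟨e, he, hem⟩ := hmul _ _ ⟨d, hd, hdm⟩ (hinv _ ⟨d', hd', hdm'⟩)
    obtain ⟨a, ha⟩ := exists_fixed_of_small K hn hem he (T := T) hT (c₀ := c₀) fun s hs => by
      rw [hzo s hs, mul_assoc, mul_inv_cancel₀ (hz₂.1 s).ne_zero, mul_one]
    have h0 := congrFun ha t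
    rw [he, Pi.smul_apply, smul_eq_mul] at h0
    refine hfull t a ?_
    rw [← map_eq_zero_iff _ K.bar.injective, ← entry_swap K g t a]
    by_contra h1
    refine hzt ?_
    exact (eq_mul_inv_iff_mul_eq₀ (hz₂.1 t).ne_zero).1 (mul_right_cancel₀ h1 h0).symm |>.symm
  -- the scaled partitions
  have hχ : ∀ A B : Finset (Fin n), A.card = 4 → B.card = 5 → Disjoint A B → ∀ ν : F, Circ K ν →
      Good (fun s => if s ∈ A then ν ^ 5 else if s ∈ B then (ν ^ 4)⁻¹ else 1) := by
    intro A B hA hB hAB ν hν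
    set C := Finset.univ \ (A ∪ B) with hC
    have hCc : 4 ≤ C.card := by
      rw [hC, Finset.card_sdiff_of_subset (Finset.subset_univ _), Finset.card_univ, Fintype.card_fin,
        Finset.card_union_of_disjoint hAB, hA, hB]
      omega
    obtain ⟨za, hza, -, hsa⟩ := circ_sum K (A := A) (by omega) (f := f) (fun s _ => hf0 s) 0
    obtain ⟨zb, hzb, -, hsb⟩ := circ_sum K (A := B) (by omega) (f := f) (fun s _ => hf0 s) 0
    obtain ⟨zc, hzc, -, hsc⟩ := circ_sum K (A := C) hCc (f := f) (fun s _ => hf0 s) 0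
    have hBA : ∀ s ∈ B, s ∉ A := fun s hs h => Finset.disjoint_left.1 hAB h hs
    have hCm : ∀ s ∈ Finset.univ \ (A ∪ B), s ∉ A ∧ s ∉ B := fun s hs =>
      ⟨fun h => (Finset.mem_sdiff.1 hs).2 (Finset.mem_union_left _ h),
        fun h => (Finset.mem_sdiff.1 hs).2 (Finset.mem_union_right _ h)⟩
    set d := (∏ s ∈ A, za s) * (∏ s ∈ B, zb s) * ∏ s ∈ C, zc s with hd
    have hdc : Circ K d := ((circ_prod fun s _ => hza s).mul (circ_prod fun s _ => hzb s)).mul
      (circ_prod fun s _ => hzc s)
    clear_value d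
    let Z : F → F → Fin n → F := fun α β s => if s ∈ A then za s * α else if s ∈ B then zb s * β else zc s
    have hZA : ∀ α β, ∀ s ∈ A, Z α β s = za s * α := fun α β s hs => if_pos hs
    have hZB : ∀ α β, ∀ s ∈ B, Z α β s = zb s * β := fun α β s hs =>
      (if_neg (hBA s hs)).trans (if_pos hs)
    have hZC : ∀ α β, ∀ s ∈ Finset.univ \ (A ∪ B), Z α β s = zc s := fun α β s hs =>
      (if_neg (hCm s hs).1).trans (if_neg (hCm s hs).2)
    have hgood : ∀ α β : F, Circ K α → Circ K β → d * α ^ 4 * β ^ 5 = 1 → Good (Z α β) := by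
      intro α β hα hβ hp
      refine hsol _ (fun s => ?_) ?_ ?_
      · show Circ K (if s ∈ A then za s * α else if s ∈ B then zb s * β else zc s)
        split_ifs
        · exact (hza s).mul hα
        · exact (hzb s).mul hβ
        · exact hzc s
      · rw [← Finset.prod_sdiff (Finset.subset_univ (A ∪ B)), Finset.prod_union hAB,
          Finset.prod_congr rfl (hZA α β), Finset.prod_congr rfl (hZB α β), Finset.prod_congr rfl (hZC α β),
          Finset.prod_mul_distrib, Finset.prod_mul_distrib, Finset.prod_const, Finset.prod_const, hA, hB,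
          ← hC, ← hp, hd]
        ring
      · rw [← Finset.sum_sdiff (Finset.subset_univ (A ∪ B)), Finset.sum_union hAB,
          Finset.sum_congr rfl (fun s (hs : s ∈ A) => show f s * Z α β s = f s * za s * α by rw [hZA α β s hs]; ring),
          Finset.sum_congr rfl (fun s (hs : s ∈ B) => show f s * Z α β s = f s * zb s * β by rw [hZB α β s hs]; ring),
          Finset.sum_congr rfl (fun s (hs : s ∈ Finset.univ \ (A ∪ B)) => show f s * Z α β s = f s * zc s by rw [hZC α β s hs]),
          ← Finset.sum_mul, ← Finset.sum_mul, hsa, hsb, ← hC, hsc]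
        ring
    have hd0 := hdc.ne_zero
    have hν0 := hν.ne_zero
    have g1 := hgood d d⁻¹ hdc hdc.inv (by field_simp)
    have g2 := hgood (d * ν ^ 5) (d⁻¹ * (ν ^ 4)⁻¹) (hdc.mul (hν.pow 5)) (hdc.inv.mul (hν.pow 4).inv) (by
      field_simp)
    convert hmul _ _ g2 (hinv _ g1) using 1
    funext s
    have := (hza s).ne_zero
    have := (hzb s).ne_zero
    have := (hzc s).ne_zero
    simp only [Z]
    split_ifs <;> field_simp
  obtain ⟨a, b, c, hab, hac, hbc, A, B, hA, hB, hAB, haA, hbA, hcA, haB, hbB, hcB⟩ :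
      ∃ a b c : Fin n, a ≠ b ∧ a ≠ c ∧ b ≠ c ∧ ∃ A B : Finset (Fin n), A.card = 3 ∧ B.card = 4 ∧
        Disjoint A B ∧ a ∉ A ∧ b ∉ A ∧ c ∉ A ∧ a ∉ B ∧ b ∉ B ∧ c ∉ B := by
    obtain ⟨T, -, hT⟩ := Finset.exists_subset_card_eq (s := (Finset.univ : Finset (Fin n))) (n := 3)
      (by rw [Finset.card_univ, Fintype.card_fin]; omega)
    obtain ⟨a, b, c, hab, hac, hbc, rfl⟩ := Finset.card_eq_three.1 hT
    obtain ⟨A, hA, hA3⟩ := Finset.exists_subset_card_eq (s := Finset.univ \ {a, b, c}) (n := 3) (by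
      rw [Finset.card_sdiff_of_subset (Finset.subset_univ _), Finset.card_univ, Fintype.card_fin, hT]; omega)
    obtain ⟨B, hB, hB4⟩ := Finset.exists_subset_card_eq (s := (Finset.univ \ {a, b, c}) \ A) (n := 4) (by
      rw [Finset.card_sdiff_of_subset hA, Finset.card_sdiff_of_subset (Finset.subset_univ _),
        Finset.card_univ, Fintype.card_fin, hT, hA3]; omega)
    have n1 : ∀ x ∈ ({a, b, c} : Finset (Fin n)), x ∉ A ∧ x ∉ B := fun x hx =>
      ⟨fun h => (Finset.mem_sdiff.1 (hA h)).2 hx,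
        fun h => (Finset.mem_sdiff.1 (Finset.mem_sdiff.1 (hB h)).1).2 hx⟩
    refine ⟨a, b, c, hab, hac, hbc, A, B, hA3, hB4,
      Finset.disjoint_left.2 fun x hxA hxB => (Finset.mem_sdiff.1 (hB hxB)).2 hxA, ?_⟩
    obtain ⟨a1, a2⟩ := n1 a (by simp)
    obtain ⟨b1, b2⟩ := n1 b (by simp)
    obtain ⟨c1, c2⟩ := n1 c (by simp)
    exact ⟨a1, b1, c1, a2, b2, c2⟩
  have hins : ∀ x y, x ∉ A → x ∉ B → y ∉ A → y ∉ B → x ≠ y →
      ∀ ν : F, Circ K ν → Good (fun s => if s ∈ insert x A then ν ^ 5 else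
        if s ∈ insert y B then (ν ^ 4)⁻¹ else 1) := fun x y x1 x2 y1 y2 hxy ν hν =>
    hχ _ _ (by rw [Finset.card_insert_of_notMem x1, hA]) (by rw [Finset.card_insert_of_notMem y2, hB])
      (by simp [Finset.disjoint_left] at hAB ⊢; exact ⟨⟨hxy, x2⟩, fun s hs => ⟨fun e => y1 (e ▸ hs), hAB hs⟩⟩) ν hν
  obtain ⟨ν, hν, ho⟩ := exists_circ_gen K
  have hν0 := hν.ne_zero
  obtain ⟨x, y, η, hxy, hη, hη2, hgood⟩ : ∃ x y : Fin n, ∃ η : F, x ≠ y ∧ Circ K η ∧ η ^ 2 ≠ 1 ∧
      Good (fun s => if s = x then η else if s = y then η⁻¹ else 1) := by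
    by_cases h5 : (ν ^ 5) ^ 2 = 1
    · refine ⟨c, b, ν ^ 4, hbc.symm, hν.pow 4, fun h4 => ?_, ?_⟩
      · have : ν ^ 2 = 1 := by
          have e1 : ν ^ 10 = 1 := by rw [← h5]; ring
          have e2 : ν ^ 8 = 1 := by rw [← h4]; ring
          linear_combination e1 - ν ^ 2 * e2
        have := Nat.le_of_dvd two_pos (orderOf_dvd_of_pow_eq_one this)
        have := K.two_le
        omega
      · convert hmul _ _ (hins a b haA haB hbA hbB hab ν hν)
          (hinv _ (hins a c haA haB hcA hcB hac ν hν)) using 1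
        funext s
        simp only [Finset.mem_insert]
        rcases eq_or_ne s c with rfl | h1
        · simp [hac.symm, hbc.symm, hcA, hcB]
        rcases eq_or_ne s b with rfl | h2
        · simp [hab.symm, hbc, hbA, hbB, hν0]
        simp only [h1, h2, if_false, false_or]
        split_ifs <;> simp [hν0]
    · refine ⟨a, c, ν ^ 5, hac, hν.pow 5, h5, ?_⟩
      convert hmul _ _ (hins a b haA haB hbA hbB hab ν hν)
        (hinv _ (hins c b hcA hcB hbA hbB hbc.symm ν hν)) using 1
      funext s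
      simp only [Finset.mem_insert]
      rcases eq_or_ne s a with rfl | h1
      · simp [hab, hac, haA, haB]
      rcases eq_or_ne s c with rfl | h2
      · simp [hac.symm, hbc.symm, hcA, hcB]
      simp only [h1, h2, if_false, false_or]
      split_ifs <;> simp [hν0]
  obtain ⟨d, hd, hdm⟩ := hgood
  have hform : ∀ x', app (g * d * g⁻¹) x' = x' + ((η - 1) * H x' (app g e[x])) • app g e[x] +
      ((η⁻¹ - 1) * H x' (app g e[y])) • app g e[y] := fun x' => by
    obtain ⟨y', rfl⟩ : ∃ y', app g y' = x' := ⟨_, app_inv' g x'⟩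
    have e : app d y' = y' + ((η - 1) * y' x) • e[x] + ((η⁻¹ - 1) * y' y) • e[y] := funext fun s => by
      rw [hd]
      rcases eq_or_ne s x with rfl | hsa
      · simp [hxy]; ring
      rcases eq_or_ne s y with rfl | hsb
      · simp [hsa]; ring
      · simp [hsa, hsb]
    rw [app_mul, app_mul, app_inv, e, app_add, app_add, app_smul, app_smul, h_app, h_app, h_single K,
      h_single K]
  rcases mon_two_eigen K hdm hη hη2 (u := app g e[x]) (u' := app g e[y]) (by rw [h_app, h_self_single K])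
    (by rw [h_app, h_self_single K]) (by rw [h_app, h_single K]; simp [hxy.symm]) hform with h | ⟨h, -⟩
  · exact htop (top_of_axis K (by omega) hM hg hgm h)
  · rw [show supp (app g e[x]) = Finset.univ from Finset.eq_univ_of_forall fun s => mem_supp.2 (hfull x s),
      Finset.card_univ, Fintype.card_fin] at h
    omega

end CfsgLib.Classical.HermDecompMax
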