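import Cfsg.Agent.Lib.Classical.UnitaryDecompMax.Monomial

set_option autoImplicit false
set_option linter.unusedSectionVars false

/-!
In `SU_6(q)`, `q ≥ 3`, a group containing the monomial subgroup and a non-monomial element with a zero
entry is everything.
-/

namespace CfsgLib.Classical.HermDecompMax

open Matrix Cfsg CfsgLib.Classical.Herm
open CfsgLib.ClassicalAut (Unitary.Conj Unitary.space Unitary.herm_apply)

variable {F : Type*} [Field F] [Finite F] {q : ℕ} (K : Unitary.Conj F q) {n : ℕ}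

local notation "H" => hermForm n F q
local notation "V" => (Fin n → F)
local notation "G" => SU n F q
local notation "e[" s "]" => (Pi.single s 1 : Fin n → F)

variable {M : Subgroup (SU n F q)}

include K

theorem exists_circ_cube (hq : 3 ≤ q) : ∃ ζ : F, Circ K ζ ∧ ζ ^ 2 ≠ 1 ∧ ζ ^ 3 ≠ 1 := by
  obtain ⟨ζ, hζ, ho⟩ := exists_circ_gen K
  refine ⟨ζ, hζ, fun e => ?_, fun e => ?_⟩ <;>
  · have := Nat.le_of_dvd (by norm_num) (orderOf_dvd_of_pow_eq_one e)
    omega

/-- A monomial element acting by inverse phases, of order not dividing three, on two orthogonal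
vectors. -/
theorem mon_two_eigen_two {g : G} (hg : Mon g) {u u' : V} {ζ : F} (hζ : Circ K ζ) (hζ2 : ζ ^ 2 ≠ 1)
    (hζ3 : ζ ^ 3 ≠ 1) (hu : H u u = 1) (hu' : H u' u' = 1) (huu' : H u u' = 0)
    (h : ∀ x, app g x = x + ((ζ - 1) * H x u) • u + ((ζ⁻¹ - 1) * H x u') • u') :
    IsAxis u ∨ ((supp u).card ≤ 2 ∧ supp u' ⊆ supp u) := by
  classical
  rcases mon_two_eigen K hg hζ hζ2 hu hu' huu' h with hax | ⟨h3, hs'⟩
  · exact Or.inl hax
  by_cases h2 : (supp u).card ≤ 2
  · exact Or.inr ⟨h2, hs'⟩
  by_cases hax : IsAxis u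
  · exact Or.inl hax
  exfalso
  have hu'u := h_eq_zero_symm K huu'
  have hζ0 := hζ.ne_zero
  have hε : ζ - 1 ≠ 0 := sub_ne_zero.2 fun e => hζ2 (by rw [e, one_pow])
  have hne : ζ ≠ ζ⁻¹ := fun e => hζ2 (by rw [sq]; nth_rw 2 [e]; exact mul_inv_cancel₀ hζ0)
  obtain ⟨σ, c, hc, hr, hc'⟩ := hg.exists_perm K
  have huv : app g u = ζ • u := by rw [h, hu, huu', mul_zero, zero_smul, add_zero]; module
  have hu'v : app g u' = ζ⁻¹ • u' := by rw [h, hu', hu'u, mul_zero, zero_smul, add_zero]; module
  have hinv : ∀ s, u s ≠ 0 → u (σ s) ≠ 0 := fun s hs e => by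
    have h1 := hc' u s
    rw [huv, Pi.smul_apply, e, smul_zero] at h1
    exact mul_ne_zero (hc s).ne_zero hs h1.symm
  have hfree : ∀ s, u s ≠ 0 → σ s ≠ s := by
    intro s hs e
    have h1 := hc' u s
    rw [huv, Pi.smul_apply, smul_eq_mul, e] at h1
    have hcs : c s = ζ := (mul_right_cancel₀ hs h1).symm
    have he : app g e[s] = ζ • e[s] := by rw [hr, e, hcs]
    have h2 : H e[s] u' = 0 := by
      have e2 := congrArg (fun y => H y u') (h e[s])
      simp only [he, h_add_left K, h_smul_left K, huu', hu', mul_zero, add_zero, mul_one] at e2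
      exact (mul_eq_zero.1 (show (ζ - ζ⁻¹) * H e[s] u' = 0 by linear_combination e2)).resolve_left
        (sub_ne_zero.2 hne)
    have e3 := h e[s]
    rw [he, h2, mul_zero, zero_smul, add_zero, h_single_left K, mul_smul] at e3
    have e4 : (ζ - 1) • (e[s] - K.bar (u s) • u) = 0 := by
      rw [smul_sub, sub_smul, one_smul, e3]; module
    have e5 := sub_eq_zero.1 ((smul_eq_zero.1 e4).resolve_left hε)
    refine hax ⟨s, (K.bar (u s))⁻¹, ?_⟩
    rw [e5, smul_smul, inv_mul_cancel₀ ((map_ne_zero K.bar).2 hs), one_smul]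
  -- the three points
  have hthree : ∀ s, u s ≠ 0 → σ (σ (σ s)) = s := by
    intro s hs
    have hst := hfree s hs
    have htr := hfree _ (hinv s hs)
    have hsub : ∀ a, u a ≠ 0 → a ∈ supp u := fun a ha => mem_supp.2 ha
    have key : ∀ a, u a ≠ 0 → σ (σ s) ≠ s → a = s ∨ a = σ s ∨ a = σ (σ s) := by
      intro a ha hne'
      by_contra hc3
      simp only [not_or] at hc3
      have h4 : ({a, s, σ s, σ (σ s)} : Finset (Fin n)) ⊆ supp u := by
        intro x hx
        simp only [Finset.mem_insert, Finset.mem_singleton] at hx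
        rcases hx with rfl | rfl | rfl | rfl
        · exact hsub _ ha
        · exact hsub _ hs
        · exact hsub _ (hinv s hs)
        · exact hsub _ (hinv _ (hinv s hs))
      have := Finset.card_le_card h4
      rw [Finset.card_insert_of_notMem (by simp [hc3.1, hc3.2.1, hc3.2.2]),
        Finset.card_insert_of_notMem (by simp [hst.symm, hne'.symm]), Finset.card_pair htr.symm] at this
      omega
    by_cases h2' : σ (σ s) = s
    · exfalso
      obtain ⟨w, hw, hws⟩ := Finset.exists_mem_notMem_of_card_lt_card (s := ({s, σ s} : Finset (Fin n)))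
        (t := supp u) (by rw [Finset.card_pair hst.symm]; omega)
      simp only [Finset.mem_insert, Finset.mem_singleton, not_or] at hws
      rw [mem_supp] at hw
      have a1 : σ w ≠ s := fun e => hws.2 (σ.injective (e.trans h2'.symm))
      have a2 : σ w ≠ σ s := fun e => hws.1 (σ.injective e)
      have a3 := hfree w hw
      have h4 : ({σ w, w, s, σ s} : Finset (Fin n)) ⊆ supp u := by
        intro x hx
        simp only [Finset.mem_insert, Finset.mem_singleton] at hx
        rcases hx with rfl | rfl | rfl | rfl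
        · exact hsub _ (hinv w hw)
        · exact hsub _ hw
        · exact hsub _ hs
        · exact hsub _ (hinv s hs)
      have := Finset.card_le_card h4
      rw [Finset.card_insert_of_notMem (by simp [a1, a2, a3]),
        Finset.card_insert_of_notMem (by simp [hws.1, hws.2]), Finset.card_pair hst.symm] at this
      omega
    rcases key _ (hinv _ (hinv _ (hinv s hs))) h2' with e | e | e
    · exact e
    · exact absurd (σ.injective e) h2'
    · exact absurd e (hfree _ (hinv _ (hinv s hs)))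
  -- a fixed vector on the three points
  set O := supp u with hO
  let ι : ({s // s ∈ O} → F) → V := fun w i => if hi : i ∈ O then w ⟨i, hi⟩ else 0
  have ι_add : ∀ w w', ι (w + w') = ι w + ι w' := fun w w' => funext fun i => by
    by_cases hi : i ∈ O <;> simp [ι, hi]
  have ι_smul : ∀ (a : F) w, ι (a • w) = a • ι w := fun a w => funext fun i => by
    by_cases hi : i ∈ O <;> simp [ι, hi]
  let L : ({s // s ∈ O} → F) →ₗ[F] (Fin 2 → F) :=
    { toFun := fun w => ![H (ι w) u, H (ι w) u']
      map_add' := fun w w' => by simp [ι_add, h_add_left K]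
      map_smul' := fun a w => by simp [ι_smul, h_smul_left K] }
  obtain ⟨w, hw, hw0⟩ := (Submodule.ne_bot_iff _).1 (LinearMap.ker_ne_bot_of_finrank_lt (f := L) (by
    rw [Module.finrank_fintype_fun_eq_card, Module.finrank_fintype_fun_eq_card, Fintype.card_coe,
      Fintype.card_fin]
    omega))
  obtain ⟨i, hi⟩ := Function.ne_iff.1 hw0
  rw [LinearMap.mem_ker] at hw
  set x := ι w with hx
  have hxu : H x u = 0 := by simpa [L] using congrFun hw 0
  have hxu' : H x u' = 0 := by simpa [L] using congrFun hw 1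
  have hgx : app g x = x := by rw [h, hxu, hxu']; simp
  have hxi : x i.1 ≠ 0 := by simpa [hx, ι, i.2] using hi
  have hcube : ∀ y : V, app g (app g (app g y)) i.1 =
      c (σ (σ i.1)) * (c (σ i.1) * (c i.1 * y i.1)) := by
    intro y
    conv_lhs => rw [← hthree i.1 (mem_supp.1 i.2)]
    rw [hc', hc', hc']
  have e1 := hcube x
  rw [hgx, hgx, hgx] at e1
  have e2 := hcube u
  rw [huv, app_smul, huv, app_smul, app_smul, huv] at e2
  simp only [Pi.smul_apply, smul_eq_mul] at e2
  have hK : c (σ (σ i.1)) * c (σ i.1) * c i.1 = 1 :=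
    mul_right_cancel₀ hxi (by linear_combination -e1)
  exact hζ3 (mul_right_cancel₀ (mem_supp.1 i.2) (by linear_combination e2 + u i.1 * hK))

/-- A related vector which is not an axis and has a zero coordinate. -/
theorem top_of_ax_six (hq : 3 ≤ q) (hn : n = 6) (hM : ∀ g, Mon g → g ∈ M) {ν : F} (hν : Circ K ν)
    (hν1 : ν ≠ 1) {u : V}
    (h : Ax q M ν u) (h4 : 4 ≤ (supp u).card) {b : Fin n} (hb : u b = 0) : M = ⊤ := by
  classical
  obtain ⟨j, hj⟩ := Finset.card_pos.1 (show 0 < (supp u).card by omega)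
  obtain ⟨A, hA, hA3⟩ := Finset.exists_subset_card_eq (s := (supp u).erase j) (n := 3) (by
    rw [Finset.card_erase_of_mem hj]; omega)
  obtain ⟨i₁, i₂, i₃, h12, h13, h23, hA'⟩ := Finset.card_eq_three.1 hA3
  have hAu : ∀ s ∈ A, u s ≠ 0 := fun s hs => mem_supp.1 (Finset.mem_of_mem_erase (hA hs))
  have hjA : j ∉ A := fun e => (Finset.mem_erase.1 (hA e)).1 rfl
  have hNj : u j * K.bar (u j) ≠ 0 := norm_ne_zero K (mem_supp.1 hj)
  have hjb : j ≠ b := fun e => mem_supp.1 hj (e ▸ hb)
  set ε := ν - 1 with hεdef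
  have hε : ε ≠ 0 := sub_ne_zero.2 hν1
  set N : Fin n → F := fun s => u s * K.bar (u s) with hN
  set S := ∑ s ∈ A, N s with hS
  set R := ∑ s ∈ Finset.univ \ A, N s with hR
  have hRS : R + S = 1 := by
    rw [hR, hS, Finset.sum_sdiff (Finset.subset_univ A), hN]
    exact norm_eq_one K h.1
  -- three scalars of the same norm
  obtain ⟨a, ha, ha1, ha2⟩ : ∃ a : F, a * K.bar a = (N j)⁻¹ ∧ a ≠ 1 + ε * R ∧
      a ≠ 1 + ε * R / (1 + ε * S) := by
    obtain ⟨a₀, ha₀⟩ := K.exists_norm (N j)⁻¹ (by rw [map_inv₀, hN, bar_norm K])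
    have ha00 : a₀ ≠ 0 := fun e => inv_ne_zero hNj (by rw [hN] at ha₀; rw [← ha₀, e, zero_mul])
    obtain ⟨ζ, hζ, hζ2, -⟩ := exists_circ_cube K hq
    have hd : ∀ z, Circ K z → a₀ * z * K.bar (a₀ * z) = (N j)⁻¹ := fun z hz => by
      have : z * K.bar z = 1 := hz
      rw [map_mul, ← ha₀]
      linear_combination (a₀ * K.bar a₀) * this
    by_contra hc
    push Not at hc
    have key : ∀ z, Circ K z → a₀ * z = 1 + ε * R ∨ a₀ * z = 1 + ε * R / (1 + ε * S) := fun z hz =>
      or_iff_not_imp_left.2 (hc _ (hd z hz))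
    have hn1 : ζ ≠ 1 := fun e => hζ2 (by rw [e, one_pow])
    have d1 : a₀ * 1 ≠ a₀ * ζ := fun e => hn1 (mul_left_cancel₀ ha00 e).symm
    have d2 : a₀ * 1 ≠ a₀ * ζ ^ 2 := fun e => hζ2 (mul_left_cancel₀ ha00 e).symm
    have d3 : a₀ * ζ ≠ a₀ * ζ ^ 2 := fun e => hn1 (by
      have := mul_left_cancel₀ ha00 e
      rw [sq] at this
      exact (mul_eq_left₀ hζ.ne_zero).1 this.symm)
    rcases key 1 (circ_one K) with e1 | e1 <;> rcases key ζ hζ with e2 | e2 <;>
      rcases key (ζ ^ 2) (hζ.pow 2) with e3 | e3 <;>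
      first
        | exact d1 (e1.trans e2.symm)
        | exact d2 (e1.trans e3.symm)
        | exact d3 (e2.trans e3.symm)
  set W := (a - 1) / ε with hW
  have hεW : ε * W = a - 1 := mul_div_cancel₀ _ hε
  have ht0 : W - R ≠ 0 := fun e => ha1 (by linear_combination ε * e - hεW)
  obtain ⟨z₁, z₂, z₃, hz₁, hz₂, hz₃, hz⟩ := circ_three K
    (norm_ne_zero K (hAu i₁ (by rw [hA']; simp))) (norm_ne_zero K (hAu i₂ (by rw [hA']; simp)))
    (norm_ne_zero K (hAu i₃ (by rw [hA']; simp))) ht0
  set z : Fin n → F := Function.update (Function.update (Function.update (fun _ => 1) i₁ z₁) i₂ z₂) i₃ z₃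
    with hzdef
  have e1 : z i₁ = z₁ := by simp [hzdef, h12, h13]
  have e2 : z i₂ = z₂ := by simp [hzdef, h23]
  have e3 : z i₃ = z₃ := by simp [hzdef]
  have hz1 : ∀ s, s ∉ A → z s = 1 := fun s hs => by
    rw [hA'] at hs
    simp only [Finset.mem_insert, Finset.mem_singleton, not_or] at hs
    simp [hzdef, hs.1, hs.2.1, hs.2.2]
  have hzc : ∀ s, Circ K (z s) := fun s => by
    simp only [hzdef, Function.update_apply]
    split_ifs <;> first | assumption | exact circ_one K
  have hsum : ∑ s ∈ A, N s * z s = W - R := by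
    rw [hA', Finset.sum_insert (by simp [h12, h13]), Finset.sum_pair h23, e1, e2, e3, ← hz, hN]
    ring
  obtain ⟨g, hg, hgx⟩ := exists_mon_off K 1 (fun s => K.bar (z s)) (fun s => (hzc s).bar) b
  set v := app g u
  have hv : ∀ s, v s = K.bar (z s) * u s := hgx u hb
  have hvb : v b = 0 := by rw [hv, hb, mul_zero]
  have hHW : H u v = W := by
    have e : ∀ s, u s * K.bar (v s) = N s * z s := fun s => by
      rw [hv, map_mul, K.bar_bar, hN]; ring
    rw [Unitary.herm_apply K, Finset.sum_congr rfl (fun s _ => e s),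
      ← Finset.sum_sdiff (Finset.subset_univ A), hsum,
      Finset.sum_congr rfl (fun s hs => by rw [hz1 s (Finset.mem_sdiff.1 hs).2, mul_one]), ← hR]
    ring
  set u' := rho q ν v u with hu'
  have hAu' : Ax q M ν u' := ax_rho K hν hM (ax_app K hν hM hg h) h hvb hb
  have hu's : ∀ s, u' s = u s * (1 + (a - 1) * K.bar (z s)) := fun s => by
    rw [hu', rho, Pi.add_apply, Pi.smul_apply, hHW, smul_eq_mul, hv, ← hεdef, hεW]
    ring
  have hwj : Circ K (u' j) := by
    unfold Circ
    rw [hu's, hz1 j hjA, map_one, mul_one, add_sub_cancel, map_mul, mul_mul_mul_comm, ha]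
    exact mul_inv_cancel₀ hNj
  set w := (u' j)⁻¹ • u' with hwdef
  have hwj1 : w j = 1 := inv_mul_cancel₀ hwj.ne_zero
  have hwb : w b = 0 := by simp [hwdef, hu', rho, hvb, hb]
  have hk := centre_of_ax_unit K hν hν1 hM (ax_smul K hwj.inv hAu') hjb hwj1 hwb
  set k := w - e[j] with hkdef
  obtain ⟨s, hs, hs0⟩ : ∃ s ∈ A, 1 + (a - 1) * K.bar (z s) ≠ 0 := by
    by_contra hc
    push Not at hc
    have hzz : ∀ s ∈ A, z s = 1 - a := fun s hs => by
      have h1 : z s * K.bar (z s) = 1 := hzc s
      linear_combination (z s) * hc s hs - (a - 1) * h1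
    rw [Finset.sum_congr rfl (fun s (hs : s ∈ A) => by rw [hzz s hs]), ← Finset.sum_mul, ← hS] at hsum
    have e : (a - 1) * (1 + ε * S) = ε * R := by linear_combination (-ε) * hsum - hεW
    by_cases h0 : 1 + ε * S = 0
    · rw [h0, mul_zero] at e
      have hR0 := (mul_eq_zero.1 e.symm).resolve_left hε
      exact hν.ne_zero (by linear_combination h0 - ε * hRS + ε * hR0 - hεdef)
    · refine ha2 (sub_eq_iff_eq_add'.1 ?_)
      rw [eq_div_iff h0]
      exact e
  have hks : k s ≠ 0 := by
    have : s ≠ j := fun e => hjA (e ▸ hs)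
    simp [hkdef, hwdef, this, hu's s, hAu s hs, hs0, hwj.ne_zero]
  have hkb : k b = 0 := by simp [hkdef, hwb, hjb.symm]
  rcases le_or_gt 3 (supp k).card with h3 | h3
  · obtain ⟨w', hw', hw'2⟩ := exists_two_term K hM hk h3 hkb
    exact top_of_two_term K hq (by omega) hM hw' hw'2
  refine top_of_two_term K hq (by omega) hM hk (le_antisymm (by omega) (by_contra fun hlt => ?_))
  have h1 : (supp k).card = 1 := le_antisymm (by omega) (Finset.card_pos.2 ⟨s, mem_supp.2 hks⟩)
  obtain ⟨r, hr⟩ := Finset.card_eq_one.1 h1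
  have h0 := hk.1
  rw [sum_norm K, hr, Finset.sum_singleton] at h0
  exact norm_ne_zero K (mem_supp.1 (by rw [hr]; simp)) h0

/-- A related vector which is not an axis and has a zero coordinate. -/
theorem top_of_ax_zero_six (hq : 3 ≤ q) (hn : n = 6) (hM : ∀ g, Mon g → g ∈ M) {ν : F} (hν : Circ K ν)
    (hν2 : ν ^ 2 ≠ 1) {u : V} (h : Ax q M ν u) (h2 : 2 ≤ (supp u).card) {b : Fin n} (hb : u b = 0) :
    M = ⊤ := by
  have hν1 : ν ≠ 1 := fun e => hν2 (by rw [e, one_pow])
  by_cases h4 : 4 ≤ (supp u).card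
  · exact top_of_ax_six K hq hn hM hν hν1 h h4 hb
  obtain ⟨u', h', hb', hlt⟩ := exists_grow K hν hν2 hM h h2 hb (by omega)
  by_cases h4' : 4 ≤ (supp u').card
  · exact top_of_ax_six K hq hn hM hν hν1 h' h4' hb'
  obtain ⟨u'', h'', hb'', hlt'⟩ := exists_grow K hν hν2 hM h' (by omega) hb' (by omega)
  exact top_of_ax_six K hq hn hM hν hν1 h'' (by omega) hb''

/-- A non-monomial element with an axis column. -/
theorem top_of_axis_six (hq : 3 ≤ q) (hn : n = 6) (hM : ∀ g, Mon g → g ∈ M) {g : G} (hg : g ∈ M) (hgm : ¬ Mon g)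
    {a : Fin n} (ha : IsAxis (app g e[a])) : M = ⊤ := by
  obtain ⟨ζ, hζ, -, hζ2⟩ := exists_circ_sq_ne_one K
  obtain ⟨b, l, hb⟩ := ha
  obtain ⟨c, hc⟩ := not_forall.1 hgm
  have hca : c ≠ a := fun e => hc (e ▸ ⟨b, l, hb⟩)
  have hl : Circ K l := by
    have h := h_app g e[a] e[a]
    rw [hb, h_smul_left K, h_smul_right K, h_self_single K, h_self_single K, mul_one] at h
    exact h
  have h1 := rel_conj K hg (rel_single K hζ hM c a)
  rw [hb] at h1
  have hu : H (app g e[c]) (app g e[c]) = 1 := by rw [h_app, h_self_single K]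
  have hA := ax_of_rel K hζ hM hu
    (rel_smul K (circ_one K) hl (u := app g e[c]) (by rwa [one_smul]))
  have hb0 : app g e[c] b = 0 := by
    have h := h_app g e[c] e[a]
    rw [hb, h_smul_right K, h_single K, h_single K e[c] a, Pi.single_eq_of_ne hca.symm] at h
    exact (mul_eq_zero.1 h).resolve_left ((map_ne_zero K.bar).2 hl.ne_zero)
  exact top_of_ax_zero_six K hq hn hM hζ hζ2 hA (two_le_supp K (app_single_ne_zero K g c) hc) hb0

theorem mon_or_top_six (hq : 3 ≤ q) (hn : n = 6) (hM : ∀ g, Mon g → g ∈ M) {g : G} (hg : g ∈ M)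
    {a : Fin n} (ha : app g e[a] = e[a]) : M = ⊤ ∨ Mon g := by
  by_cases h : Mon g
  · exact Or.inr h
  · exact Or.inl (top_of_axis_six K hq hn hM hg h (a := a) ⟨a, 1, by rw [ha, one_smul]⟩)

/-- A column with two zeros. -/
theorem top_of_two_zeros_six (hq : 3 ≤ q) (hn : n = 6) (hM : ∀ g, Mon g → g ∈ M) {g : G} (hg : g ∈ M)
    (hgm : ¬ Mon g) {k m m' : Fin n} (hne : m ≠ m') (hm : app g e[k] m = 0) (hm' : app g e[k] m' = 0) :
    M = ⊤ := by
  classical
  obtain ⟨ζ, hζ, hζ2, hζ3⟩ := exists_circ_cube K hq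
  set u := app g⁻¹ e[m] with hu
  set u' := app g⁻¹ e[m']
  obtain ⟨y, hy, hyx⟩ := exists_conj_pair K hM (M.inv_mem hg) hne hζ
  have hyk : app y e[k] = e[k] := by
    rw [hyx, h_single_left K, h_single_left K, entry_swap K, entry_swap K, hm, hm']
    simp
  refine (mon_or_top_six K hq hn hM hy hyk).elim id fun hym => ?_
  have huu : H u u = 1 := by rw [h_app, h_self_single K]
  have hu'u' : H u' u' = 1 := by rw [h_app, h_self_single K]
  have huu' : H u u' = 0 := by rw [h_app, h_single K]; simp [hne.symm]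
  rcases mon_two_eigen_two K hym hζ hζ2 hζ3 huu hu'u' huu' hyx with h | ⟨h3, -⟩
  · exact top_of_axis_six K hq hn hM (M.inv_mem hg) (not_mon_inv K hgm) h
  set R := Finset.univ \ supp u with hR
  have hRc : 4 ≤ R.card := by
    rw [hR, Finset.card_sdiff_of_subset (Finset.subset_univ _), Finset.card_univ, Fintype.card_fin]; omega
  obtain ⟨k', hk'⟩ := Finset.card_pos.1 (show 0 < R.card by omega)
  obtain ⟨L, hL, hL4⟩ := Finset.exists_subset_card_eq (s := R.erase k') (n := 3) (by
    rw [Finset.card_erase_of_mem hk']; omega)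
  by_contra htop
  have key : ∀ l ∈ L, (supp (app g e[k'])).card ≤ 2 ∧ supp (app g e[l]) ⊆ supp (app g e[k']) := by
    intro l hl
    obtain ⟨hlk, hlR⟩ := Finset.mem_erase.1 (hL hl)
    have z : ∀ r ∈ R, app g e[r] m = 0 := fun r hr => by
      have := notMem_supp.1 (Finset.mem_sdiff.1 hr).2
      rw [hu, entry_swap K] at this
      exact (map_eq_zero_iff _ K.bar.injective).1 this
    obtain ⟨y, hy, hyx⟩ := exists_conj_pair K hM hg (Ne.symm hlk) hζ
    have hym : app y e[m] = e[m] := by
      rw [hyx, h_single_left K, h_single_left K, z k' hk', z l hlR]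
      simp
    have hmon := (mon_or_top_six K hq hn hM hy hym).resolve_left htop
    rcases mon_two_eigen_two K hmon hζ hζ2 hζ3 (u := app g e[k']) (u' := app g e[l]) (by rw [h_app, h_self_single K])
      (by rw [h_app, h_self_single K]) (by rw [h_app, h_single K]; simp [hlk]) hyx with h | h
    · exact absurd (top_of_axis_six K hq hn hM hg hgm h) htop
    · exact h
  obtain ⟨l₀, hl₀⟩ := Finset.card_pos.1 (show 0 < L.card by omega)
  set S := supp (app g e[k'])
  let v : {l // l ∈ L} → V := fun l => app g e[l.1]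
  have hli : LinearIndependent F v := by
    rw [Fintype.linearIndependent_iff]
    intro w hw i
    have e : app g (∑ l, w l • e[l.1]) = 0 := by
      rw [show app g = lin g from rfl, map_sum]
      simp only [map_smul]
      exact hw
    have e' := app_injective g (e.trans (app_zero g).symm)
    have := congrFun e' i.1
    rw [Finset.sum_apply, Finset.sum_eq_single i (fun j _ hj => by
      simp [show i.1 ≠ j.1 from fun e => hj (Subtype.ext e.symm)]) (by simp)] at this
    simpa using this
  have hsub : Submodule.span F (Set.range v) ≤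
      Submodule.span F ((S.image fun s => e[s] : Finset V) : Set V) := by
    rw [Submodule.span_le]
    rintro _ ⟨l, rfl⟩
    have hz : ∀ s ∉ S, v l s = 0 := fun s hs => notMem_supp.1 fun h => hs ((key l.1 l.2).2 h)
    have : v l = ∑ s ∈ S, v l s • e[s] := funext fun r => by
      rw [Finset.sum_apply]
      by_cases hr : r ∈ S
      · rw [Finset.sum_eq_single r (fun s _ hs => by simp [hs.symm]) (by simp [hr])]; simp
      · rw [Finset.sum_eq_zero fun s hs => by simp [show r ≠ s from fun e => hr (e ▸ hs)]]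
        exact hz r hr
    rw [SetLike.mem_coe, this]
    exact Submodule.sum_mem _ fun s hs => Submodule.smul_mem _ _
      (Submodule.subset_span (Finset.mem_coe.2 (Finset.mem_image_of_mem _ hs)))
  have h1 := Submodule.finrank_mono hsub
  rw [finrank_span_eq_card hli, Fintype.card_coe, hL4] at h1
  have h2 := (finrank_span_finset_le_card (R := F) (S.image fun s => e[s])).trans Finset.card_image_le
  have := (key l₀ hl₀).1
  unfold Set.finrank at h2
  omega

/-- A monomial involution moving everything into a plane moves at most four coordinate vectors. -/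
theorem card_moved_invol {g : G} (hg : Mon g) (hg2 : ∀ x, app g (app g x) = x) {a b : V}
    (h : ∀ x, ∃ α β : F, app g x = x + α • a + β • b) (S : Finset (Fin n))
    (hS : ∀ s ∈ S, app g e[s] ≠ e[s]) : S.card ≤ 4 := by
  classical
  by_contra hc
  obtain ⟨σ, c, hcc, hr, -⟩ := hg.exists_perm K
  have hσ : ∀ s, σ (σ s) = s := fun s => by
    by_contra hne
    have e := congrFun (hg2 e[s]) s
    rw [hr, app_smul, hr, smul_smul] at e
    simp [Ne.symm hne] at e
  let B : Fin n → Finset (Fin n) := fun s => {s, σ s}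
  have hB : ∀ s, (B s).card ≤ 2 := fun s => Finset.card_le_two
  obtain ⟨s₁, h₁⟩ := Finset.card_pos.1 (show 0 < S.card by omega)
  obtain ⟨s₂, h₂⟩ := Finset.card_pos.1 (show 0 < (S \ B s₁).card by
    have := Finset.le_card_sdiff (B s₁) S; have := hB s₁; omega)
  obtain ⟨s₃, h₃⟩ := Finset.card_pos.1 (show 0 < ((S \ B s₁) \ B s₂).card by
    have := Finset.le_card_sdiff (B s₁) S; have := hB s₁
    have := Finset.le_card_sdiff (B s₂) (S \ B s₁); have := hB s₂; omega)
  simp only [B, Finset.mem_sdiff, Finset.mem_insert, Finset.mem_singleton, not_or] at h₂ h₃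
  obtain ⟨h₂S, n12, n12'⟩ := h₂
  obtain ⟨⟨h₃S, n13, n13'⟩, n23, n23'⟩ := h₃
  have hsym : ∀ s r, r ≠ σ s → s ≠ σ r := fun s r h e => h (by rw [e, hσ])
  let p : Fin 3 → Fin n := ![s₁, s₂, s₃]
  have hp : ∀ i j, i ≠ j → p j ≠ p i ∧ p j ≠ σ (p i) := by
    intro i j hij
    fin_cases i <;> fin_cases j <;> first
      | exact absurd rfl hij
      | exact ⟨n12, n12'⟩ | exact ⟨n13, n13'⟩ | exact ⟨n23, n23'⟩
      | exact ⟨Ne.symm n12, hsym _ _ n12'⟩ | exact ⟨Ne.symm n13, hsym _ _ n13'⟩
      | exact ⟨Ne.symm n23, hsym _ _ n23'⟩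
  have hpS : ∀ i, p i ∈ S := by intro i; fin_cases i <;> assumption
  let v : Fin 3 → V := fun i => app g e[p i] - e[p i]
  have hoff : ∀ i j, i ≠ j → v i (p j) = 0 := fun i j hij => by
    simp [v, hr, (hp i j hij).1, (hp i j hij).2]
  have hon : ∀ i, v i (p i) ≠ 0 := fun i e => by
    simp only [v, hr, Pi.sub_apply, Pi.smul_apply, Pi.single_eq_same, smul_eq_mul] at e
    by_cases hi : p i = σ (p i)
    · rw [← hi, Pi.single_eq_same, mul_one, sub_eq_zero] at e
      exact hS _ (hpS i) (by rw [hr, ← hi, e, one_smul])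
    · simp [hi] at e
  have hli : LinearIndependent F v := by
    rw [Fintype.linearIndependent_iff]
    intro w hw i
    have e := congrFun hw (p i)
    rw [Finset.sum_apply, Finset.sum_eq_single i (fun j _ hj => by simp [hoff j i hj])
      (by simp)] at e
    exact (mul_eq_zero.1 e).resolve_right (hon i)
  have hle : Set.range v ⊆ (Submodule.span F (Set.range ![a, b]) : Set V) := by
    rintro _ ⟨i, rfl⟩
    obtain ⟨α, β, e⟩ := h e[p i]
    show app g e[p i] - e[p i] ∈ _
    rw [e, add_assoc, add_sub_cancel_left]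
    exact add_mem (Submodule.smul_mem _ _ (Submodule.subset_span ⟨0, rfl⟩))
      (Submodule.smul_mem _ _ (Submodule.subset_span ⟨1, rfl⟩))
  have h3 := finrank_span_eq_card hli
  have h4 := Submodule.finrank_mono (Submodule.span_le.2 hle)
  have h5 : Module.finrank F (Submodule.span F (Set.range ![a, b])) ≤ 2 :=
    (finrank_range_le_card (R := F) ![a, b]).trans_eq (Fintype.card_fin 2)
  rw [h3, Fintype.card_fin] at h4
  omega

/-- The column `v = g e_k` has exactly one zero, odd characteristic, `q + 1 ∣ 6`. -/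
theorem top_one_zero_six (hq : 3 ≤ q) (hn : n = 6) (hM : ∀ g, Mon g → g ∈ M) (h2 : (2 : F) ≠ 0)
    {g : G} (hg : g ∈ M) (hgm : ¬ Mon g) {k m i j : Fin n} (hm : app g e[k] m = 0) (hij : i ≠ j)
    (hi : app g e[k] i ≠ 0) (hj : app g e[k] j ≠ 0)
    (hN : app g e[k] i * K.bar (app g e[k] i) = app g e[k] j * K.bar (app g e[k] j)) : M = ⊤ := by
  classical
  set v := app g e[k] with hv
  have hmi : m ≠ i := fun e => hi (e ▸ hm)
  have hmj : m ≠ j := fun e => hj (e ▸ hm)
  set z : Fin n → F := fun s =>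
    if s = i then v j / v i else if s = j then v i / v j else if s = m then -1 else 1 with hz
  have hzc : ∀ s, Circ K (z s) := fun s => by
    simp only [hz]
    split_ifs
    · unfold Circ; rw [map_div₀, div_mul_div_comm, ← hN, div_self (norm_ne_zero K hi)]
    · unfold Circ; rw [map_div₀, div_mul_div_comm, hN, div_self (norm_ne_zero K hj)]
    · exact (circ_one K).neg
    · exact circ_one K
  obtain ⟨μ, hμ, hμx⟩ := exists_mon K (Equiv.swap i j) z hzc (by
    rw [Equiv.Perm.sign_swap hij, ← Finset.prod_subset (Finset.subset_univ ({i, j, m} : Finset (Fin n)))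
      (fun s _ hs => by
        simp only [Finset.mem_insert, Finset.mem_singleton, not_or] at hs
        simp [hz, hs.1, hs.2.1, hs.2.2]),
      Finset.prod_insert (by simp [hij, hmi.symm]), Finset.prod_pair (Ne.symm hmj)]
    simp [hz, hij.symm, hmi, hmj]
    field_simp)
  set w : V := v j • e[j] - v i • e[i]
  have hμd : ∀ y, app μ y = y + (y i / v i - y j / v j) • w + (-2 * y m) • e[m] := fun y => funext fun r => by
    obtain ⟨s, rfl⟩ := (Equiv.swap i j).surjective r
    rw [hμx]
    rcases eq_or_ne s i with rfl | hsi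
    · simp [hz, w, hmj.symm, hij.symm]; field_simp; ring
    rcases eq_or_ne s j with rfl | hsj
    · simp [hz, w, hsi, hmi.symm, hij]; field_simp; ring
    rw [Equiv.swap_apply_of_ne_of_ne hsi hsj]
    rcases eq_or_ne s m with rfl | hsm
    · simp [hz, w, hsi, hsj]; ring
    · simp [hz, w, hsi, hsj, hsm]
  set x := g⁻¹ * μ * g
  have hx : x ∈ M := M.mul_mem (M.mul_mem (M.inv_mem hg) (hM μ hμ)) hg
  have hxd : ∀ y, app x y = y + (app g y i / v i - app g y j / v j) • app g⁻¹ w +
      (-2 * app g y m) • app g⁻¹ e[m] := fun y => by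
    rw [app_mul, app_mul, hμd, app_add, app_add, app_smul, app_smul, app_inv]
  have hxk : app x e[k] = e[k] := by
    rw [hxd, ← hv, hm, div_self hi, div_self hj]; simp
  refine (mon_or_top_six K hq hn hM hx hxk).elim id fun hxm => ?_
  set u := app g⁻¹ e[m] with hu
  have hμ2 : ∀ y, app μ (app μ y) = y := fun y => funext fun s => by
    obtain ⟨r, rfl⟩ : ∃ r, Equiv.swap i j (Equiv.swap i j r) = s := ⟨s, by simp⟩
    rw [hμx, hμx, Equiv.swap_apply_self, ← mul_assoc]
    conv_rhs => rw [← one_mul (y r)]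
    congr 1
    rcases eq_or_ne r i with rfl | hri
    · simp [hz, hij.symm]; field_simp
    rcases eq_or_ne r j with rfl | hrj
    · simp [hz, hij.symm]; field_simp
    rw [Equiv.swap_apply_of_ne_of_ne hri hrj]
    simp only [hz, if_neg hri, if_neg hrj]
    split_ifs <;> ring
  have hx2 : ∀ y, app x (app x y) = y := fun y => by
    simp only [x, app_mul, app_inv', hμ2, app_inv]
  have h6 : (supp u).card ≤ 4 := card_moved_invol K hxm hx2 (fun y => ⟨_, _, hxd y⟩) _ fun s hs =>
    moved_of_ne K (x := u) (fun e => by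
      have h' : app x u = -u := by
        rw [hxd, hu, app_inv']; simp [hmi, hmj, hmi.symm, hmj.symm]; module
      rw [h', Pi.neg_apply] at e
      exact mul_ne_zero h2 (mem_supp.1 hs) (by linear_combination -e))
  obtain ⟨a, a', haa, ha, ha'⟩ := two_zeros (v := u) (by omega)
  exact top_of_two_zeros_six K hq hn hM (M.inv_mem hg) (not_mon_inv K hgm) haa ha ha'

/-- An element with a zero entry. -/
theorem top_of_zero_six (hq : 3 ≤ q) (hn : n = 6) (hM : ∀ g, Mon g → g ∈ M) {g : G} (hg : g ∈ M)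
    (hgm : ¬ Mon g) {k m : Fin n} (hm : app g e[k] m = 0) : M = ⊤ := by
  classical
  set v := app g e[k] with hv
  by_cases hax : IsAxis v
  · exact top_of_axis_six K hq hn hM hg hgm hax
  by_cases h2 : (supp v).card + 2 ≤ n
  · obtain ⟨a, a', haa, ha, ha'⟩ := two_zeros h2
    exact top_of_two_zeros_six K hq hn hM hg hgm haa ha ha'
  by_cases hdiv : q + 1 ∣ n
  · have hqn := Nat.le_of_dvd (by omega) hdiv
    have hq5 : q = 5 := by
      have hd6 : q + 1 ∣ 6 := hn ▸ hdiv
      have hq6 : q + 1 ≤ 6 := Nat.le_of_dvd (by norm_num) hd6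
      have h5 : q = 3 ∨ q = 4 ∨ q = 5 := by omega
      rcases h5 with e | e | e <;> rw [e] at hd6 <;> first | exact e | norm_num at hd6
    obtain ⟨i, j, hij, hi, hj, hN⟩ := exists_equal_norms K (v := v) (by omega)
    refine top_one_zero_six K hq hn hM (Ring.two_ne_zero fun e => ?_) hg hgm hm hij hi hj hN
    cases nonempty_fintype F
    have h1 := FiniteField.even_card_of_char_two e
    rw [← Nat.card_eq_fintype_card, K.card, hq5] at h1
    norm_num at h1
  obtain ⟨ζ, hζ, ho⟩ := exists_circ_gen K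
  set ν := (ζ ^ n)⁻¹ with hνdef
  have hν : Circ K ν := (hζ.pow n).inv
  have hν1 : ν ≠ 1 := fun e => hdiv (ho ▸ orderOf_dvd_of_pow_eq_one (inv_eq_one.1 e))
  have hμ : ∀ a : Fin n, ∃ μ : G, Mon μ ∧ ∀ x, app μ x = ζ • rho q ν e[a] x := fun a => by
    obtain ⟨μ, hμ, hμx⟩ := exists_mon K 1 (Function.update (fun _ => ζ) a (ζ * ν)) (fun s => by
      rw [Function.update_apply]; split_ifs <;> first | exact hζ.mul hν | exact hζ) (by
      rw [Equiv.Perm.sign_one, Units.val_one, Int.cast_one, one_mul, Finset.prod_update_of_mem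
        (Finset.mem_univ a), Finset.prod_const, Finset.card_sdiff_of_subset (Finset.subset_univ _),
        Finset.card_univ, Fintype.card_fin, Finset.card_singleton, hνdef, mul_comm ζ, mul_assoc,
        ← pow_succ', Nat.sub_add_cancel (by omega)]
      exact inv_mul_cancel₀ (pow_ne_zero _ hζ.ne_zero))
    refine ⟨μ, hμ, fun x => funext fun s => ?_⟩
    have := hμx x s
    rw [Equiv.Perm.one_apply] at this
    rw [this, rho, h_single K]
    rcases eq_or_ne s a with rfl | hs
    · simp; ring
    · simp [hs]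
  obtain ⟨μ, hμm, hμx⟩ := hμ k
  obtain ⟨μ', hμ'm, hμ'x⟩ := hμ m
  have hrel : Rel q M ν v e[m] := by
    refine ⟨g * μ * g⁻¹ * μ'⁻¹,
      M.mul_mem (M.mul_mem (M.mul_mem hg (hM μ hμm)) (M.inv_mem hg)) (M.inv_mem (hM μ' hμ'm)), fun x => ?_⟩
    have h1 : app μ'⁻¹ x = ζ⁻¹ • rho q ν⁻¹ e[m] x := app_injective μ' (by
      rw [app_inv', hμ'x, rho_smul_right K, smul_smul, mul_inv_cancel₀ hζ.ne_zero, one_smul,
        rho_inv K hν.ne_zero (h_self_single K m)])
    rw [app_mul, app_mul, app_mul, hμx, app_smul, rho_app K, app_inv', h1, rho_smul_right K,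
      smul_smul, mul_inv_cancel₀ hζ.ne_zero, one_smul]
  have hvv : H v v = 1 := by rw [hv, h_app, h_self_single K]
  exact top_of_ax_six K hq hn hM hν hν1 (ax_of_rel K hν hM hvv hrel) (by omega) hm

end CfsgLib.Classical.HermDecompMax
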