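import Cfsg.Agent.Lib.Classical.UnitaryDecompMax.SmallSol

/-!
Two zero weighted sums of norm-one scalars with product one on nine places, agreeing up to a common
factor outside four places.
-/

set_option autoImplicit false
set_option linter.unusedSectionVars false

namespace CfsgLib.Classical.HermDecompMax

open CfsgLib.Classical.Herm
open CfsgLib.ClassicalAut (Unitary.Conj)

variable {F : Type*} [Field F] [Finite F] {q n : ℕ} (K : Unitary.Conj F q)

/-- Four places whose norms do not sum to zero, unless all nine norms agree. -/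
theorem exists_four_nine (hn : n = 9) {N : Fin n → F} {x y : Fin n} (hxy : N x ≠ N y) :
    ∃ A : Finset (Fin n), A.card = 4 ∧ ∑ s ∈ A, N s ≠ 0 := by
  classical
  have hne : x ≠ y := fun e => hxy (by rw [e])
  obtain ⟨B, hB, hB3⟩ := Finset.exists_subset_card_eq (s := Finset.univ \ {x, y}) (n := 3) (by
    rw [Finset.card_sdiff_of_subset (Finset.subset_univ _), Finset.card_univ, Fintype.card_fin,
      Finset.card_pair hne]
    omega)
  have hx : x ∉ B := fun h => by simpa using (Finset.mem_sdiff.1 (hB h)).2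
  have hy : y ∉ B := fun h => by simpa using (Finset.mem_sdiff.1 (hB h)).2
  by_cases h : ∑ s ∈ insert x B, N s = 0
  · refine ⟨insert y B, by rw [Finset.card_insert_of_notMem hy, hB3], fun h' => hxy ?_⟩
    rw [Finset.sum_insert hx] at h
    rw [Finset.sum_insert hy] at h'
    linear_combination h - h'
  · exact ⟨insert x B, by rw [Finset.card_insert_of_notMem hx, hB3], h⟩

/-- Two block solutions with different ratios on the four places. -/
theorem small_nine_blocks (hn : n = 9) {f za za' zb : Fin n → F} {A : Finset (Fin n)} (hA : A.card = 4)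
    (hza : ∀ s, Circ K (za s)) (hza' : ∀ s, Circ K (za' s)) (hzb : ∀ s, Circ K (zb s))
    (hsa : ∑ s ∈ A, f s * za s = 0) (hsa' : ∑ s ∈ A, f s * za' s = 0)
    (hsb : ∑ s ∈ Finset.univ \ A, f s * zb s = 0) {d t : Fin n} (hd : d ∈ A) (ht : t ∈ A)
    (hdd : za d = za' d) (htt : za t ≠ za' t) : SmallPair K f := by
  classical
  let Z : (Fin n → F) → Fin n → F := fun u s => if s ∈ A then u s else zb s
  have hZ : ∀ u : Fin n → F, (∀ s, Circ K (u s)) → ∑ s ∈ A, f s * u s = 0 →
      (∀ s, Circ K (Z u s)) ∧ ∃ α, Circ K α ∧ Sol K f (fun s => Z u s * if s ∈ A then α else α⁻¹) := by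
    intro u hu hsu
    have hc : ∀ s, Circ K (Z u s) := fun s => by
      simp only [Z]; split_ifs <;> [exact hu s; exact hzb s]
    have hp : Circ K (∏ s, Z u s) := circ_prod fun s _ => hc s
    refine ⟨hc, _, hp, sol_of_blocks A hc ?_ ?_ hp hp.inv ?_⟩
    · rw [← hsu]; exact Finset.sum_congr rfl fun s hs => by simp [Z, hs]
    · rw [← hsb]; exact Finset.sum_congr rfl fun s hs => by simp [Z, (Finset.mem_sdiff.1 hs).2]
    · rw [hA, show n - 4 = 5 by omega]
      field_simp [hp.ne_zero]
  obtain ⟨-, α, hα, h1⟩ := hZ za hza hsa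
  obtain ⟨-, α', hα', h2⟩ := hZ za' hza' hsa'
  have hα0 := hα.ne_zero
  have hα'0 := hα'.ne_zero
  refine ⟨_, _, h1, h2, A, α⁻¹ * α', hA.le, fun s hs => ?_, ?_⟩
  · simp [Z, hs]; field_simp
  by_contra hc
  push Not at hc
  have e1 := hc d hd
  have e2 := hc t ht
  simp only [Z, hd, ht, if_true] at e1 e2
  rw [hdd] at e1
  have : α = α⁻¹ * α' * α' := mul_left_cancel₀ (hza' d).ne_zero (by linear_combination e1)
  refine htt (mul_right_cancel₀ hα0 ?_)
  linear_combination e2 - za' t * this

/-- Nine places, the characteristic two case with unequal norms. -/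
theorem small_nine_unequal (hn : n = 9) (h2 : (2 : F) = 0) {f : Fin n → F} (hf : ∀ s, f s ≠ 0) {x y : Fin n}
    (hxy : f x * K.bar (f x) ≠ f y * K.bar (f y)) : SmallPair K f := by
  classical
  obtain ⟨A, hA, hsum⟩ := exists_four_nine (N := fun s => f s * K.bar (f s)) hn hxy
  obtain ⟨d, B, hd, rfl, hB⟩ := Finset.card_eq_succ.1 hA
  obtain ⟨a, b, c, hab, hac, hbc, rfl⟩ := Finset.card_eq_three.1 hB
  simp only [Finset.mem_insert, Finset.mem_singleton, not_or] at hd
  obtain ⟨hda, hdb, hdc⟩ := hd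
  set S := -f d with hS
  have hS0 : S ≠ 0 := neg_ne_zero.2 (hf d)
  obtain ⟨x₁, x₂, x₃, h1, h2', h3, hs⟩ := circ_three K (hf a) (hf b) (hf c) hS0
  set W := S / K.bar S with hW
  have hSb : K.bar S ≠ 0 := (map_ne_zero K.bar).2 hS0
  have hWc : Circ K W := by
    unfold Circ
    rw [hW, map_div₀, K.bar_bar, div_mul_div_comm, mul_comm S, div_self (mul_ne_zero hSb hS0)]
  let mir : F → F → F := fun e z => W * K.bar z * (K.bar e / e)
  have hmir : ∀ e z : F, e ≠ 0 → Circ K z → Circ K (mir e z) := fun e z he hz => by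
    refine (hWc.mul hz.bar).mul ?_
    unfold Circ
    rw [map_div₀, K.bar_bar, div_mul_div_comm, mul_comm e, div_self]
    exact mul_ne_zero ((map_ne_zero K.bar).2 he) he
  have hemir : ∀ e z : F, e ≠ 0 → e * mir e z = W * K.bar (e * z) := fun e z he => by
    simp only [mir, map_mul]; field_simp
  let Z : F → F → F → Fin n → F := fun u v w s =>
    if s = a then u else if s = b then v else if s = c then w else 1
  have hZc : ∀ u v w, Circ K u → Circ K v → Circ K w → ∀ s, Circ K (Z u v w s) := fun u v w hu hv hw s => by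
    simp only [Z]; split_ifs <;> first | assumption | exact circ_one K
  have hZs : ∀ u v w, f a * u + f b * v + f c * w = S →
      ∑ s ∈ ({d, a, b, c} : Finset (Fin n)), f s * Z u v w s = 0 := fun u v w e => by
    rw [Finset.sum_insert (by simp [hda, hdb, hdc]), Finset.sum_insert (by simp [hab, hac]),
      Finset.sum_pair hbc]
    simp [Z, hda, hdb, hdc, hab.symm, hac.symm, hbc.symm]
    linear_combination e + hS
  have hsm : f a * mir (f a) x₁ + f b * mir (f b) x₂ + f c * mir (f c) x₃ = S := by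
    rw [hemir _ _ (hf a), hemir _ _ (hf b), hemir _ _ (hf c), ← mul_add, ← mul_add, ← map_add, ← map_add,
      hs, hW, div_mul_cancel₀ _ hSb]
  obtain ⟨zb, hzb, -, hsb⟩ := circ_sum K (A := Finset.univ \ ({d, a, b, c} : Finset (Fin n))) (by
    rw [Finset.card_sdiff_of_subset (Finset.subset_univ _), Finset.card_univ, Fintype.card_fin, hA]
    omega) (f := f) (fun s _ => hf s) 0
  have hdz : ∀ u v w u' v' w', Z u v w d = Z u' v' w' d := fun u v w u' v' w' => by simp [Z, hda, hdb, hdc]
  by_cases hall : x₁ = mir (f a) x₁ ∧ x₂ = mir (f b) x₂ ∧ x₃ = mir (f c) x₃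
  · refine absurd ?_ hsum
    obtain ⟨e1, e2, e3⟩ := hall
    have key : ∀ e z : F, e ≠ 0 → Circ K z → z = mir e z →
        K.bar (e * z / S) = e * z / S ∧ e * K.bar e = (e * z / S) ^ 2 * (S * K.bar S) := by
      intro e z he hz hez
      have h' : e * z = W * K.bar (e * z) := by
        conv_lhs => rw [hez]
        exact hemir e z he
      have hfix : K.bar (e * z / S) = e * z / S := by
        rw [map_div₀]
        conv_rhs => rw [h', hW]
        field_simp
      refine ⟨hfix, ?_⟩
      have hzz : z * K.bar z = 1 := hz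
      calc e * K.bar e = (e * z / S) * K.bar (e * z / S) * (S * K.bar S) := by
            rw [map_div₀, map_mul]; field_simp; linear_combination -(K.bar e) * hzz
        _ = _ := by rw [hfix]; ring
    obtain ⟨-, k1⟩ := key _ _ (hf a) h1 e1
    obtain ⟨-, k2⟩ := key _ _ (hf b) h2' e2
    obtain ⟨-, k3⟩ := key _ _ (hf c) h3 e3
    have hsq : (f a * x₁ / S) ^ 2 + (f b * x₂ / S) ^ 2 + (f c * x₃ / S) ^ 2 = 1 := by
      have h1' : f a * x₁ / S + f b * x₂ / S + f c * x₃ / S = 1 := by
        rw [← add_div, ← add_div, hs, div_self hS0]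
      linear_combination (f a * x₁ / S + f b * x₂ / S + f c * x₃ / S + 1) * h1' -
        (f a * x₁ / S * (f b * x₂ / S) + f a * x₁ / S * (f c * x₃ / S) +
          f b * x₂ / S * (f c * x₃ / S)) * h2
    have hSd : S * K.bar S = f d * K.bar (f d) := by rw [hS, map_neg]; ring
    rw [Finset.sum_insert (by simp [hda, hdb, hdc]), Finset.sum_insert (by simp [hab, hac]),
      Finset.sum_pair hbc, k1, k2, k3]
    linear_combination (S * K.bar S) * hsq + hSd + (f d * K.bar (f d)) * h2
  obtain ⟨t, ht, htt⟩ : ∃ t ∈ ({d, a, b, c} : Finset (Fin n)),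
      Z x₁ x₂ x₃ t ≠ Z (mir (f a) x₁) (mir (f b) x₂) (mir (f c) x₃) t := by
    rw [not_and_or, not_and_or] at hall
    rcases hall with h | h | h
    · exact ⟨a, by simp, by simpa [Z] using h⟩
    · exact ⟨b, by simp, by simpa [Z, hab.symm] using h⟩
    · exact ⟨c, by simp, by simpa [Z, hac.symm, hbc.symm] using h⟩
  exact small_nine_blocks K hn hA (hZc _ _ _ h1 h2' h3)
    (hZc _ _ _ (hmir _ _ (hf a) h1) (hmir _ _ (hf b) h2') (hmir _ _ (hf c) h3)) hzb
    (hZs _ _ _ hs) (hZs _ _ _ hsm) hsb (Finset.mem_insert_self d _) ht (hdz _ _ _ _ _ _) htt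

/-- Nine places, characteristic two, equal norms, a cube root of unity of norm one. -/
theorem small_nine_equal (hn : n = 9) (h2 : (2 : F) = 0) {ω : F} (hω : Circ K ω) (hω3 : ω ^ 2 + ω + 1 = 0)
    {f : Fin n → F} (hf : ∀ s, f s ≠ 0) (heq : ∀ x y, f x * K.bar (f x) = f y * K.bar (f y)) :
    SmallPair K f := by
  classical
  subst hn
  set g : Fin 9 → F := fun s => f 0 / f s with hg
  have hgc : ∀ s, Circ K (g s) := fun s => by
    unfold Circ
    rw [hg]; dsimp only
    rw [map_div₀, div_mul_div_comm, heq 0 s, div_self (fun e => hf s (norm_eq_zero K e))]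
  obtain ⟨a, ha, haP⟩ := exists_sqrt_two K h2 (d := (∏ s, g s)⁻¹) (circ_prod fun s _ => hgc s).inv
  have hω0 := hω.ne_zero
  have hω2 : ω * ω * ω = 1 := by linear_combination (ω - 1) * hω3
  have key : ∀ u : Fin 9 → F, (∀ s, Circ K (u s)) → ∑ s, u s = 0 → ∏ s, u s = a ^ 2 →
      Sol K f (fun s => g s * u s) := by
    intro u hu hs hp
    refine ⟨fun s => (hgc s).mul (hu s), ?_, ?_⟩
    · rw [Finset.prod_mul_distrib, hp, ← haP]
      exact mul_inv_cancel₀ (circ_prod fun s _ => hgc s : Circ K (∏ s, g s)).ne_zero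
    · rw [← mul_zero (f 0), ← hs, Finset.mul_sum]
      refine Finset.sum_congr rfl fun s _ => ?_
      rw [hg]; dsimp only
      field_simp [hf s]
  have hc : ∀ u v w : F, Circ K u → Circ K v → Circ K w → ∀ s, Circ K ((![u, u, 1, 1, 1, 1, 1, v, w] : Fin 9 → F) s) := by
    intro u v w hu hv hw s
    fin_cases s <;> simp <;> first | assumption | exact circ_one K
  refine ⟨_, _, key ![a, a, 1, 1, 1, 1, 1, ω, ω * ω] (hc _ _ _ ha hω (hω.mul hω)) ?_ ?_,
    key ![a, a, 1, 1, 1, 1, 1, ω * ω, ω] (hc _ _ _ ha (hω.mul hω) hω) ?_ ?_, {7, 8}, 1, ?_, ?_, 7,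
    by simp, ?_⟩
  · simp [Fin.sum_univ_succ]; linear_combination hω3 + (a + 2) * h2
  · simp [Fin.prod_univ_succ]; linear_combination (a ^ 2) * hω2
  · simp [Fin.sum_univ_succ]; linear_combination hω3 + (a + 2) * h2
  · simp [Fin.prod_univ_succ]; linear_combination (a ^ 2) * hω2
  · simp
  · intro s hs
    fin_cases s <;> simp_all
  · intro e
    simp at e
    have h1 : ω = 1 := by
      have hg0 := (hgc 7).ne_zero
      have : ω = ω * ω := e.resolve_right hg0
      exact mul_left_cancel₀ hω0 (by linear_combination -this)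
    rw [h1] at hω3
    exact one_ne_zero (α := F) (by linear_combination hω3 - h2)

/-- Two solutions with a common part outside four places, nine places. -/
theorem small_nine (hn : n = 9) {f : Fin n → F} (hf : ∀ s, f s ≠ 0) : SmallPair K f := by
  classical
  obtain ⟨ν, hν, hνo⟩ := exists_circ_gen K
  by_cases h9 : ν ^ 9 = 1
  · have hdvd : q + 1 ∣ 9 := hνo ▸ orderOf_dvd_of_pow_eq_one h9
    have hq2 := K.two_le
    have hle := Nat.le_of_dvd (by norm_num) hdvd
    have hq : q = 2 ∨ q = 8 := by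
      have : q ≤ 8 := by omega
      interval_cases q <;> simp_all
    have h2 : (2 : F) = 0 := by
      cases nonempty_fintype F
      have h := FiniteField.cast_card_eq_zero F
      rw [← Nat.card_eq_fintype_card, K.card] at h
      rcases hq with rfl | rfl
      · exact pow_eq_zero_iff (n := 2) (by norm_num) |>.1 (by push_cast at h; linear_combination h)
      · exact pow_eq_zero_iff (n := 6) (by norm_num) |>.1 (by push_cast at h; linear_combination h)
    obtain ⟨ω, hω, hω3⟩ : ∃ ω : F, Circ K ω ∧ ω ^ 2 + ω + 1 = 0 := by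
      refine ⟨ν ^ ((q + 1) / 3), hν.pow _, ?_⟩
      have h3 : (q + 1) / 3 * 3 = q + 1 := by rcases hq with rfl | rfl <;> norm_num
      have hne : ν ^ ((q + 1) / 3) ≠ 1 := fun e => by
        have := Nat.le_of_dvd (by omega) (hνo ▸ orderOf_dvd_of_pow_eq_one e)
        omega
      have hcube : (ν ^ ((q + 1) / 3)) ^ 3 = 1 := by rw [← pow_mul, h3, ← hνo, pow_orderOf_eq_one]
      exact mul_left_cancel₀ (sub_ne_zero.2 hne) (by linear_combination hcube)
    by_cases heq : ∀ x y, f x * K.bar (f x) = f y * K.bar (f y)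
    · exact small_nine_equal K hn h2 hω hω3 hf heq
    · push Not at heq
      obtain ⟨x, y, hxy⟩ := heq
      exact small_nine_unequal K hn h2 hf hxy
  obtain ⟨A, -, hA⟩ := Finset.exists_subset_card_eq (s := (Finset.univ : Finset (Fin n))) (n := 4)
    (by rw [Finset.card_univ, Fintype.card_fin]; omega)
  obtain ⟨za, hza, -, hsa⟩ := circ_sum K (A := A) (by omega) (f := f) (fun s _ => hf s) 0
  obtain ⟨zb, hzb, -, hsb⟩ := circ_sum K (A := Finset.univ \ A) (by
    rw [Finset.card_sdiff_of_subset (Finset.subset_univ _), Finset.card_univ, Fintype.card_fin, hA]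
    omega) (f := f) (fun s _ => hf s) 0
  set z : Fin n → F := fun s => if s ∈ A then za s else zb s with hzdef
  have hz : ∀ s, Circ K (z s) := fun s => by
    simp only [hzdef]; split_ifs <;> [exact hza s; exact hzb s]
  have hzA : ∑ s ∈ A, f s * z s = 0 := by
    rw [← hsa]; exact Finset.sum_congr rfl fun s hs => by simp [hzdef, hs]
  have hzB : ∑ s ∈ Finset.univ \ A, f s * z s = 0 := by
    rw [← hsb]; exact Finset.sum_congr rfl fun s hs => by simp [hzdef, (Finset.mem_sdiff.1 hs).2]
  obtain ⟨d, hd⟩ : ∃ d, d = ∏ s, z s := ⟨_, rfl⟩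
  have hdc : Circ K d := hd ▸ circ_prod fun s _ => hz s
  have hd0 := hdc.ne_zero
  have hν0 := hν.ne_zero
  obtain ⟨t, ht⟩ := Finset.card_pos.1 (show 0 < A.card by omega)
  refine ⟨_, _, sol_of_blocks A hz hzA hzB (α := d) (β := d⁻¹) hdc hdc.inv (by
      rw [hA, show n - 4 = 5 by omega, ← hd]; field_simp),
    sol_of_blocks A hz hzA hzB (α := d * ν ^ 5) (β := d⁻¹ * (ν ^ 4)⁻¹) (hdc.mul (hν.pow 5))
      (hdc.inv.mul (hν.pow 4).inv) (by rw [hA, show n - 4 = 5 by omega, ← hd]; field_simp),
    A, ν ^ 4, hA.le, fun s hs => by simp [hs]; field_simp, t, ht, fun e => h9 ?_⟩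
  simp only [ht, if_true] at e
  have hz0 := (hz t).ne_zero
  field_simp at e
  linear_combination -e

end CfsgLib.Classical.HermDecompMax
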