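import Cfsg.Agent.Lib.Classical.UnitaryDecompMax.Scalars

/-!
Zero weighted sums of norm-one scalars with product one on ten or eleven places.
-/

set_option autoImplicit false
set_option linter.unusedSectionVars false

namespace CfsgLib.Classical.HermDecompMax

open CfsgLib.Classical.Herm
open CfsgLib.ClassicalAut (Unitary.Conj)

variable {F : Type*} [Field F] [Finite F] {q n : ℕ} (K : Unitary.Conj F q)

/-- A weighted sum equal to zero with product one. -/
def Sol (f z : Fin n → F) : Prop :=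
  (∀ s, Circ K (z s)) ∧ ∏ s, z s = 1 ∧ ∑ s, f s * z s = 0

variable {K}

/-- Scaling two blocks. -/
theorem sol_of_blocks {f z : Fin n → F} (A : Finset (Fin n)) (hz : ∀ s, Circ K (z s))
    (h1 : ∑ s ∈ A, f s * z s = 0) (h2 : ∑ s ∈ Finset.univ \ A, f s * z s = 0) {α β : F}
    (hα : Circ K α) (hβ : Circ K β)
    (hp : α ^ A.card * β ^ (n - A.card) * ∏ s, z s = 1) :
    Sol K f (fun s => z s * if s ∈ A then α else β) := by
  classical
  refine ⟨fun s => by dsimp only; split_ifs <;> [exact (hz s).mul hα; exact (hz s).mul hβ], ?_, ?_⟩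
  · rw [Finset.prod_mul_distrib, Finset.prod_ite, Finset.prod_const, Finset.prod_const, ← hp,
      show (Finset.univ.filter fun s => s ∈ A) = A by ext s; simp,
      show (Finset.univ.filter fun s => ¬ s ∈ A) = Finset.univ \ A by ext s; simp,
      Finset.card_sdiff_of_subset (Finset.subset_univ _), Finset.card_univ, Fintype.card_fin]
    ring
  · rw [← Finset.sum_sdiff (Finset.subset_univ A),
      Finset.sum_congr rfl (fun s hs => show f s * (z s * if s ∈ A then α else β) = f s * z s * β by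
        rw [if_neg (Finset.mem_sdiff.1 hs).2, mul_assoc]),
      Finset.sum_congr rfl (fun s (hs : s ∈ A) => show f s * (z s * if s ∈ A then α else β) = f s * z s * α by
        rw [if_pos hs, mul_assoc]), ← Finset.sum_mul, ← Finset.sum_mul, h1, h2, zero_mul, zero_mul,
      add_zero]

variable (K)

/-- Pairwise distinct places. -/
theorem exists_places {k : ℕ} (hk : k ≤ n) : ∃ p : Fin k → Fin n, Function.Injective p :=
  ⟨Fin.castLE hk, Fin.castLE_injective hk⟩

theorem circ_eq_pow {ζ : F} (hζ : Circ K ζ) (ho : orderOf ζ = q + 1) {d : F} (hd : Circ K d) :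
    ∃ k, d = ζ ^ k := by
  classical
  cases nonempty_fintype F
  have hsub : (Finset.range (q + 1)).image (fun k => ζ ^ k) ⊆ Finset.univ.filter fun z : F => Circ K z :=
    fun z hz => by
      obtain ⟨k, -, rfl⟩ := Finset.mem_image.1 hz
      exact Finset.mem_filter.2 ⟨Finset.mem_univ _, hζ.pow k⟩
  have hcard : (Finset.univ.filter fun z : F => Circ K z).card = q + 1 := by
    rw [← card_norm_one K, Nat.card_eq_fintype_card, Fintype.card_subtype]
    rfl
  have heq := Finset.eq_of_subset_of_card_le hsub (by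
    rw [hcard, Finset.card_image_of_injOn (fun a ha b hb e => by
      have := Finset.mem_range.1 ha; have := Finset.mem_range.1 hb
      exact pow_injOn_Iio_orderOf (by simp [ho]; omega) (by simp [ho]; omega) e),
      Finset.card_range])
  have hm : d ∈ (Finset.range (q + 1)).image (fun k => ζ ^ k) :=
    heq ▸ Finset.mem_filter.2 ⟨Finset.mem_univ _, hd⟩
  obtain ⟨k, -, e⟩ := Finset.mem_image.1 hm
  exact ⟨k, e.symm⟩

theorem exists_sqrt_two (h2 : (2 : F) = 0) {d : F} (hd : Circ K d) : ∃ y, Circ K y ∧ d = y ^ 2 := by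
  cases nonempty_fintype F
  refine ⟨d ^ (q / 2 + 1), hd.pow _, ?_⟩
  have hodd : ¬ Odd q := fun ho => by
    have hF : Odd (Fintype.card F) := by rw [← Nat.card_eq_fintype_card, K.card]; exact ho.pow
    have hne : ringChar F ≠ 2 := fun h => by
      have := FiniteField.even_card_of_char_two h
      rw [Nat.odd_iff] at hF
      omega
    exact Ring.two_ne_zero hne h2
  have he : 2 * (q / 2) = q := Nat.two_mul_div_two_of_even (Nat.not_odd_iff_even.1 hodd)
  have h1 : d ^ q = d⁻¹ := by rw [← K.bar_apply, hd.bar_eq]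
  rw [← pow_mul, show (q / 2 + 1) * 2 = q + 2 by omega, pow_add, h1]
  field_simp [hd.ne_zero]

/-- Two triples with the same weighted sum and product. -/
theorem exists_two_triples (f : Fin n → F) {T : Finset (Fin n)} (hT : T.card = 3) :
    ∃ w w' : Fin n → F, (∀ s, Circ K (w s)) ∧ (∀ s, Circ K (w' s)) ∧
      ∑ s ∈ T, f s * w s = ∑ s ∈ T, f s * w' s ∧ ∏ s ∈ T, w s = ∏ s ∈ T, w' s ∧
      (∀ s ∉ T, w s = 1 ∧ w' s = 1) ∧ ∃ t ∈ T, w t ≠ w' t := by
  classical
  haveI := Fintype.ofFinite F
  let C := {z : F // Circ K z}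
  let ext' : ({s // s ∈ T} → C) → Fin n → F := fun w s => if h : s ∈ T then (w ⟨s, h⟩).1 else 1
  have hc : ∀ w s, Circ K (ext' w s) := fun w s => by
    show Circ K (dite _ _ _)
    split_ifs
    · exact (w _).2
    · exact circ_one K
  let φ : ({s // s ∈ T} → C) → F × C := fun w =>
    (∑ s ∈ T, f s * ext' w s, ⟨∏ s ∈ T, ext' w s, circ_prod fun s _ => hc w s⟩)
  have hcard : Fintype.card C = q + 1 := by
    rw [← Nat.card_eq_fintype_card]; exact Herm.card_norm_one K
  have hlt : Fintype.card (F × C) < Fintype.card ({s // s ∈ T} → C) := by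
    rw [Fintype.card_prod, Fintype.card_fun, Fintype.card_coe, hT, hcard]
    have : Fintype.card F = q ^ 2 := by rw [← Nat.card_eq_fintype_card]; exact K.card
    rw [this]
    nlinarith
  obtain ⟨w, w', hne, e⟩ := Fintype.exists_ne_map_eq_of_card_lt φ hlt
  refine ⟨ext' w, ext' w', hc w, hc w', congrArg Prod.fst e, congrArg Subtype.val (congrArg Prod.snd e),
    fun s hs => ⟨dif_neg hs, dif_neg hs⟩, ?_⟩
  by_contra hall
  push Not at hall
  refine hne (funext fun s => Subtype.ext ?_)
  have := hall s.1 s.2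
  simpa [ext', s.2] using this

/-- Two solutions with a common part outside a small set. -/
def SmallPair (f : Fin n → F) : Prop :=
  ∃ z z' : Fin n → F, Sol K f z ∧ Sol K f z' ∧ ∃ T : Finset (Fin n), ∃ c : F,
    T.card ≤ 4 ∧ (∀ s ∉ T, z s = c * z' s) ∧ ∃ t ∈ T, z t ≠ c * z' t

variable {K}

/-- From two triples and a common completion. -/
theorem small_of_completion {f w w' v : Fin n → F} {T A : Finset (Fin n)} {α β : F} (hT : T.card ≤ 4)
    (hw : ∀ s, Circ K (w s)) (hw' : ∀ s, Circ K (w' s)) (hv : ∀ s, Circ K (v s))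
    (hS : ∑ s ∈ T, f s * w s = ∑ s ∈ T, f s * w' s) (hP : ∏ s ∈ T, w s = ∏ s ∈ T, w' s)
    (hne : ∃ t ∈ T, w t ≠ w' t) (hTA : Disjoint T A ∨ T = A)
    (h1 : ∑ s ∈ A, f s * (if s ∈ T then w s else v s) = 0)
    (h2 : ∑ s ∈ Finset.univ \ A, f s * (if s ∈ T then w s else v s) = 0)
    (hα : Circ K α) (hβ : Circ K β)
    (hp : α ^ A.card * β ^ (n - A.card) * ∏ s, (if s ∈ T then w s else v s) = 1) :
    SmallPair K f := by
  classical
  have hzc : ∀ u : Fin n → F, (∀ s, Circ K (u s)) → ∀ s, Circ K (if s ∈ T then u s else v s) :=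
    fun u hu s => by split_ifs <;> [exact hu s; exact hv s]
  have hsum : ∀ X : Finset (Fin n), (T ⊆ X ∨ Disjoint T X) →
      ∑ s ∈ X, f s * (if s ∈ T then w' s else v s) = ∑ s ∈ X, f s * (if s ∈ T then w s else v s) := by
    rintro X (hX | hX)
    · rw [← Finset.sum_sdiff hX, ← Finset.sum_sdiff hX]
      congr 1
      · refine Finset.sum_congr rfl fun s hs => ?_
        rw [if_neg (Finset.mem_sdiff.1 hs).2, if_neg (Finset.mem_sdiff.1 hs).2]
      · rw [Finset.sum_congr rfl (fun s (hs : s ∈ T) => by rw [if_pos hs] :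
            ∀ s ∈ T, f s * (if s ∈ T then w' s else v s) = f s * w' s), ← hS]
        exact Finset.sum_congr rfl fun s hs => by rw [if_pos hs]
    · refine Finset.sum_congr rfl fun s hs => ?_
      rw [if_neg (Finset.disjoint_right.1 hX hs), if_neg (Finset.disjoint_right.1 hX hs)]
  have hprod : ∏ s, (if s ∈ T then w' s else v s) = ∏ s, (if s ∈ T then w s else v s) := by
    rw [← Finset.prod_sdiff (Finset.subset_univ T), ← Finset.prod_sdiff (Finset.subset_univ T)]
    congr 1
    · refine Finset.prod_congr rfl fun s hs => ?_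
      rw [if_neg (Finset.mem_sdiff.1 hs).2, if_neg (Finset.mem_sdiff.1 hs).2]
    · rw [Finset.prod_congr rfl (fun s (hs : s ∈ T) => (if_pos hs : (if s ∈ T then w' s else v s) = w' s)),
        ← hP]
      exact Finset.prod_congr rfl fun s hs => by rw [if_pos hs]
  have hA : T ⊆ A ∨ Disjoint T A := hTA.elim Or.inr fun e => Or.inl e.le
  have hA' : T ⊆ Finset.univ \ A ∨ Disjoint T (Finset.univ \ A) := hTA.elim
    (fun h => Or.inl fun s hs => Finset.mem_sdiff.2 ⟨Finset.mem_univ _, Finset.disjoint_left.1 h hs⟩)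
    (fun e => Or.inr (e ▸ Finset.disjoint_sdiff))
  refine ⟨_, _, sol_of_blocks A (hzc w hw) h1 h2 hα hβ hp,
    sol_of_blocks A (hzc w' hw') ((hsum A hA).trans h1) ((hsum _ hA').trans h2) hα hβ
      (by rw [hprod]; exact hp), T, 1, hT, fun s hs => by simp [hs], ?_⟩
  obtain ⟨t, ht, hne⟩ := hne
  refine ⟨t, ht, fun e => hne (mul_right_cancel₀ (b := if t ∈ A then α else β) ?_ ?_)⟩
  · split_ifs <;> [exact hα.ne_zero; exact hβ.ne_zero]
  · simpa [ht] using e

variable (K)

theorem small_eleven (hn : n = 11) {f : Fin n → F} (hf : ∀ s, f s ≠ 0) : SmallPair K f := by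
  classical
  obtain ⟨T, -, hT⟩ := Finset.exists_subset_card_eq (s := (Finset.univ : Finset (Fin n))) (n := 3)
    (by rw [Finset.card_univ, Fintype.card_fin]; omega)
  obtain ⟨A, hA, hA4⟩ := Finset.exists_subset_card_eq (s := Finset.univ \ T) (n := 4) (by
    rw [Finset.card_sdiff_of_subset (Finset.subset_univ _), Finset.card_univ, Fintype.card_fin, hT]
    omega)
  have hTA : Disjoint T A := Finset.disjoint_right.2 fun x hx => (Finset.mem_sdiff.1 (hA hx)).2
  set B := (Finset.univ \ A) \ T with hB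
  have hTB : T ⊆ Finset.univ \ A := fun s hs =>
    Finset.mem_sdiff.2 ⟨Finset.mem_univ _, Finset.disjoint_left.1 hTA hs⟩
  have hB4 : B.card = 4 := by
    rw [hB, Finset.card_sdiff_of_subset hTB, Finset.card_sdiff_of_subset (Finset.subset_univ _),
      Finset.card_univ, Fintype.card_fin, hA4, hT]
    omega
  obtain ⟨w, w', hw, hw', hS, hP, -, hne⟩ := exists_two_triples K f hT
  obtain ⟨za, hza, -, hsa⟩ := circ_sum K (A := A) (by omega) (f := f) (fun s _ => hf s) 0
  obtain ⟨zb, hzb, -, hsb⟩ := circ_sum K (A := B) (by omega) (f := f) (fun s _ => hf s)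
    (-∑ s ∈ T, f s * w s)
  set v : Fin n → F := fun s => if s ∈ A then za s else zb s
  have hv : ∀ s, Circ K (v s) := fun s => by
    simp only [v]; split_ifs <;> [exact hza s; exact hzb s]
  obtain ⟨d, hd⟩ : ∃ d, d = ∏ s, (if s ∈ T then w s else v s) := ⟨_, rfl⟩
  have hdc : Circ K d := hd ▸ circ_prod fun s _ => by split_ifs <;> [exact hw s; exact hv s]
  refine small_of_completion (α := (d ^ 2)⁻¹) (β := d) (by omega) hw hw' hv hS hP hne (Or.inl hTA) ?_ ?_
    (hdc.pow 2).inv hdc ?_
  · rw [← hsa]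
    exact Finset.sum_congr rfl fun s hs => by
      rw [if_neg (Finset.disjoint_right.1 hTA hs)]; simp [v, hs]
  · rw [← Finset.sum_sdiff hTB, Finset.sum_congr rfl (fun s (hs : s ∈ B) => show
        f s * (if s ∈ T then w s else v s) = f s * zb s by
          rw [if_neg (Finset.mem_sdiff.1 hs).2]
          simp [v, (Finset.mem_sdiff.1 (Finset.mem_sdiff.1 hs).1).2]),
      hsb, Finset.sum_congr rfl (fun s (hs : s ∈ T) => by rw [if_pos hs] :
        ∀ s ∈ T, f s * (if s ∈ T then w s else v s) = f s * w s)]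
    ring
  · rw [← hd, hA4, show n - 4 = 7 by omega]
    field_simp [hdc.ne_zero]

theorem small_ten_even (hn : n = 10) (h2 : (2 : F) = 0) {f : Fin n → F} (hf : ∀ s, f s ≠ 0) :
    SmallPair K f := by
  classical
  obtain ⟨p, hp⟩ := exists_places (n := n) (k := 10) (by omega)
  set T : Finset (Fin n) := {p 0, p 1, p 2} with hTdef
  have hT : T.card = 3 := Finset.card_eq_three.2 ⟨p 0, p 1, p 2, by simp [hp.eq_iff], by simp [hp.eq_iff],
    by simp [hp.eq_iff], rfl⟩
  obtain ⟨w, w', hw, hw', hS, hP, -, hne⟩ := exists_two_triples K f hT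
  by_cases h0 : ∑ s ∈ T, f s * w s = 0
  · obtain ⟨v, hv, -, hsv⟩ := circ_sum K (A := Finset.univ \ T)
      (by rw [Finset.card_sdiff_of_subset (Finset.subset_univ _), Finset.card_univ, Fintype.card_fin, hT]; omega)
      (f := f) (fun s _ => hf s) 0
    obtain ⟨d, hd⟩ : ∃ d, d = ∏ s, (if s ∈ T then w s else v s) := ⟨_, rfl⟩
    have hdc : Circ K d := hd ▸ circ_prod fun s _ => by split_ifs <;> [exact hw s; exact hv s]
    refine small_of_completion (A := T) (α := d ^ 2) (β := d⁻¹) (by omega) hw hw' hv hS hP hne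
      (Or.inr rfl) ?_ ?_ (hdc.pow 2) hdc.inv ?_
    · rw [← h0]
      exact Finset.sum_congr rfl fun s hs => by rw [if_pos hs]
    · rw [← hsv]
      exact Finset.sum_congr rfl fun s hs => by rw [if_neg (Finset.mem_sdiff.1 hs).2]
    · rw [← hd, hT, show n - 3 = 7 by omega]
      field_simp [hdc.ne_zero]
  · set A : Finset (Fin n) := {p 3, p 4, p 5, p 6}
    have hA : A.card = 4 := by simp [A, hp.eq_iff]
    have hTA : Disjoint T A := by simp [T, A, hp.eq_iff]
    obtain ⟨za, hza, -, hsa⟩ := circ_sum K (A := A) (by omega) (f := f) (fun s _ => hf s) 0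
    obtain ⟨z₁, z₂, z₃, h1, h2', h3, hs⟩ := circ_three K (hf (p 7)) (hf (p 8)) (hf (p 9))
      (neg_ne_zero.2 h0)
    set v : Fin n → F := fun s =>
      if s = p 7 then z₁ else if s = p 8 then z₂ else if s = p 9 then z₃ else za s
    have hv : ∀ s, Circ K (v s) := fun s => by
      simp only [v]; split_ifs <;> first | assumption | exact hza s
    have huniv : Finset.univ \ A = T ∪ {p 7, p 8, p 9} := by
      refine (Finset.eq_of_subset_of_card_le (fun s hs => ?_) ?_).symm
      · simp only [T, Finset.mem_union, Finset.mem_insert, Finset.mem_singleton] at hs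
        rcases hs with (rfl | rfl | rfl) | (rfl | rfl | rfl) <;> simp [A, hp.eq_iff]
      · rw [Finset.card_union_of_disjoint (by simp [T, hp.eq_iff]),
          Finset.card_sdiff_of_subset (Finset.subset_univ _), Finset.card_univ, Fintype.card_fin, hT, hA]
        simp [hp.eq_iff]
        omega
    obtain ⟨d, hd⟩ : ∃ d, d = ∏ s, (if s ∈ T then w s else v s) := ⟨_, rfl⟩
    have hdc : Circ K d := hd ▸ circ_prod fun s _ => by split_ifs <;> [exact hw s; exact hv s]
    obtain ⟨y, hy, hdy⟩ := exists_sqrt_two K h2 hdc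
    refine small_of_completion (A := A) (α := y) (β := y⁻¹) (by omega) hw hw' hv hS hP hne
      (Or.inl hTA) ?_ ?_ hy hy.inv ?_
    · rw [← hsa]
      refine Finset.sum_congr rfl fun s hs => ?_
      rw [if_neg (Finset.disjoint_right.1 hTA hs)]
      simp only [A, Finset.mem_insert, Finset.mem_singleton] at hs
      rcases hs with rfl | rfl | rfl | rfl <;> simp [v, hp.eq_iff]
    · rw [huniv, Finset.sum_union (by simp [T, hp.eq_iff]),
        Finset.sum_congr rfl (fun s (hs : s ∈ T) => by rw [if_pos hs] :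
          ∀ s ∈ T, f s * (if s ∈ T then w s else v s) = f s * w s)]
      simp [T, v, hp.eq_iff]
      simp [T, hp.eq_iff] at hs ⊢
      linear_combination hs
    · rw [← hd, hA, show n - 4 = 6 by omega, hdy]
      field_simp [hy.ne_zero]

theorem exists_ratio (x : F) (hx : Circ K x) : ∃ s : F, s ≠ 0 ∧ K.bar s = s * x := by
  by_cases h : 1 + K.bar x = 0
  · obtain ⟨θ, hθ0, hθ⟩ := exists_skew K
    refine ⟨θ, hθ0, ?_⟩
    have hx1 : x = -1 := by
      have h' := congrArg K.bar h
      rw [map_add, map_one, K.bar_bar, map_zero] at h'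
      linear_combination h'
    rw [hx1]; linear_combination hθ
  · refine ⟨1 + K.bar x, h, ?_⟩
    rw [map_add, map_one, K.bar_bar]
    have h1 : x * K.bar x = 1 := hx
    linear_combination -h1

theorem small_ten_odd (hn : n = 10) (h2 : (2 : F) ≠ 0) {f : Fin n → F} (hf : ∀ s, f s ≠ 0) :
    SmallPair K f := by
  classical
  obtain ⟨p, hp⟩ := exists_places (n := n) (k := 10) (by omega)
  set A : Finset (Fin n) := {p 0, p 1, p 2, p 3}
  have hA : A.card = 4 := by simp [A, hp.eq_iff]
  have huniv : Finset.univ \ A = {p 4, p 5, p 6, p 7, p 8, p 9} := by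
    refine (Finset.eq_of_subset_of_card_le (fun s hs => ?_) ?_).symm
    · simp only [Finset.mem_insert, Finset.mem_singleton] at hs
      rcases hs with rfl | rfl | rfl | rfl | rfl | rfl <;> simp [A, hp.eq_iff]
    · rw [Finset.card_sdiff_of_subset (Finset.subset_univ _), Finset.card_univ, Fintype.card_fin, hA]
      simp [hp.eq_iff]
      omega
  obtain ⟨za, hza, -, hsa⟩ := circ_sum K (A := A) (by omega) (f := f) (fun s _ => hf s) 0
  obtain ⟨ζ, hζ, ho⟩ := exists_circ_gen K
  set a := f (p 4) with hadef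
  set b := f (p 5) with hbdef
  set c := f (p 6) with hcdef
  have ha : a ≠ 0 := hf _
  have hb : b ≠ 0 := hf _
  have hc : c ≠ 0 := hf _
  obtain ⟨R, hR, hRe⟩ : ∃ R, Circ K R ∧ R = K.bar (a * b * c) / (a * b * c) :=
    ⟨_, by
      unfold Circ
      rw [map_div₀, K.bar_bar, div_mul_div_comm, mul_comm (a * b * c), div_self]
      exact mul_ne_zero ((map_ne_zero K.bar).2 (mul_ne_zero (mul_ne_zero ha hb) hc))
        (mul_ne_zero (mul_ne_zero ha hb) hc), rfl⟩
  obtain ⟨S, hS0, hSb⟩ := exists_ratio K (R * ζ) (hR.mul hζ)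
  obtain ⟨z₁, z₂, z₃, h1, h2', h3, hs⟩ := circ_three K ha hb hc hS0
  obtain ⟨z₄, z₅, z₆, h4, h5, h6, ht⟩ := circ_three K (hf (p 7)) (hf (p 8)) (hf (p 9))
    (neg_ne_zero.2 hS0)
  set W := (R * ζ)⁻¹ with hW
  have hWc : Circ K W := (hR.mul hζ).inv
  have hWS : W * K.bar S = S := by
    rw [hW, hSb]; field_simp [hR.ne_zero, hζ.ne_zero]
  have mir : ∀ e z : F, e ≠ 0 → Circ K z → Circ K (W * K.bar z * (K.bar e / e)) := fun e z he hz => by
    refine (hWc.mul hz.bar).mul ?_
    unfold Circ
    rw [map_div₀, K.bar_bar, div_mul_div_comm, mul_comm e, div_self]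
    exact mul_ne_zero ((map_ne_zero K.bar).2 he) he
  let V : F → F → F → Fin n → F := fun x y u s =>
    if s = p 4 then x else if s = p 5 then y else if s = p 6 then u else
      if s = p 7 then z₄ else if s = p 8 then z₅ else if s = p 9 then z₆ else za s
  have key : ∀ x y u, Circ K x → Circ K y → Circ K u → a * x + b * y + c * u = S →
      (∀ s, Circ K (V x y u s)) ∧ ∑ s ∈ A, f s * V x y u s = 0 ∧
        ∑ s ∈ Finset.univ \ A, f s * V x y u s = 0 ∧
        ∏ s, V x y u s = (∏ s ∈ A, za s) * (z₄ * z₅ * z₆) * (x * y * u) := by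
    intro x y u hx hy hu e
    have hVA : ∀ s ∈ A, V x y u s = za s := fun s hs' => by
      simp only [A, Finset.mem_insert, Finset.mem_singleton] at hs'
      rcases hs' with rfl | rfl | rfl | rfl <;> simp [V, hp.eq_iff]
    refine ⟨fun s => ?_, ?_, ?_, ?_⟩
    · simp only [V]; split_ifs <;> first | assumption | exact hza s
    · rw [← hsa]; exact Finset.sum_congr rfl fun s hs' => by rw [hVA s hs']
    · rw [huniv]
      simp [V, hp.eq_iff]
      rw [← hadef, ← hbdef, ← hcdef]
      linear_combination e + ht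
    · rw [← Finset.prod_sdiff (Finset.subset_univ A), huniv, Finset.prod_congr rfl hVA]
      simp [V, hp.eq_iff]
      ring
  obtain ⟨z, hz, hzA, hzB, y, hy, hzy⟩ : ∃ z : Fin n → F, (∀ s, Circ K (z s)) ∧
      ∑ s ∈ A, f s * z s = 0 ∧ ∑ s ∈ Finset.univ \ A, f s * z s = 0 ∧
      ∃ y, Circ K y ∧ ∏ s, z s = y ^ 2 := by
    obtain ⟨k1, k2, k3, k4⟩ := key z₁ z₂ z₃ h1 h2' h3 hs
    obtain ⟨l1, l2, l3, l4⟩ := key _ _ _ (mir a z₁ ha h1) (mir b z₂ hb h2') (mir c z₃ hc h3) (by
      have e := congrArg K.bar hs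
      simp only [map_add, map_mul] at e
      field_simp
      linear_combination W * e + hWS)
    obtain ⟨k, hk⟩ := circ_eq_pow K hζ ho (circ_prod fun s _ => k1 s : Circ K (∏ s, V z₁ z₂ z₃ s))
    rcases Nat.even_or_odd' k with ⟨j, rfl | rfl⟩
    · exact ⟨_, k1, k2, k3, ζ ^ j, hζ.pow j, by rw [hk]; ring⟩
    · refine ⟨_, l1, l2, l3, ζ ^ j * W * (z₁ * z₂ * z₃)⁻¹,
        ((hζ.pow j).mul hWc).mul ((h1.mul h2').mul h3).inv, ?_⟩
      have hk' : (∏ s ∈ A, za s) * (z₄ * z₅ * z₆) * (z₁ * z₂ * z₃) = ζ ^ (2 * j + 1) := by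
        rw [← k4]; exact hk
      rw [l4, h1.bar_eq, h2'.bar_eq, h3.bar_eq]
      have hab : K.bar a / a * (K.bar b / b) * (K.bar c / c) = R := by
        rw [hRe, map_mul, map_mul, div_mul_div_comm, div_mul_div_comm]
      have e2 : W * R * ζ = 1 := by
        rw [hW, mul_assoc]; exact inv_mul_cancel₀ (mul_ne_zero hR.ne_zero hζ.ne_zero)
      have hn1 := h1.ne_zero
      have hn2 := h2'.ne_zero
      have hn3 := h3.ne_zero
      calc _ = (∏ s ∈ A, za s) * (z₄ * z₅ * z₆) * (z₁ * z₂ * z₃) * W ^ 3 *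
            (K.bar a / a * (K.bar b / b) * (K.bar c / c)) * ((z₁ * z₂ * z₃)⁻¹) ^ 2 := by
              field_simp
        _ = ζ ^ (2 * j + 1) * W ^ 3 * R * ((z₁ * z₂ * z₃)⁻¹) ^ 2 := by rw [hk', hab]
        _ = _ := by linear_combination (ζ ^ (2 * j) * W ^ 2 * ((z₁ * z₂ * z₃)⁻¹) ^ 2) * e2
  obtain ⟨ν, hν, hνo⟩ := exists_circ_gen K
  have hν5 : ν ^ 5 ≠ 1 := fun e => by
    have hd := orderOf_dvd_of_pow_eq_one e
    rw [hνo] at hd
    have h5 : Nat.Prime 5 := by norm_num
    rcases (Nat.dvd_prime h5).1 hd with h | h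
    · have := K.two_le; omega
    · have : q = 4 := by omega
      subst this
      refine h2 ?_
      cases nonempty_fintype F
      have h16 := FiniteField.cast_card_eq_zero F
      rw [← Nat.card_eq_fintype_card, K.card] at h16
      norm_num at h16
      exact pow_eq_zero_iff (n := 4) (by norm_num) |>.1 (by linear_combination h16)
  have hy0 := hy.ne_zero
  have hν0 := hν.ne_zero
  refine ⟨_, _, sol_of_blocks A hz hzA hzB (α := y * ν ^ 3) (β := y⁻¹ * (ν ^ 2)⁻¹)
      (hy.mul (hν.pow 3)) (hy.inv.mul (hν.pow 2).inv)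
      (by rw [hA, show n - 4 = 6 by omega, hzy]; field_simp),
    sol_of_blocks A hz hzA hzB (α := y) (β := y⁻¹) hy hy.inv
      (by rw [hA, show n - 4 = 6 by omega, hzy]; field_simp),
    A, (ν ^ 2)⁻¹, hA.le, fun s hs' => by simp [hs']; ring, p 0, by simp [A], fun e => hν5 ?_⟩
  simp only [show p 0 ∈ A by simp [A], if_true] at e
  have hz0 := (hz (p 0)).ne_zero
  field_simp at e
  linear_combination e

/-- Two solutions with a common part outside a small set, ten or eleven places. -/
theorem small_ten_eleven (hn : n = 10 ∨ n = 11) {f : Fin n → F} (hf : ∀ s, f s ≠ 0) :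
    SmallPair K f := by
  rcases hn with hn | hn
  · by_cases h2 : (2 : F) = 0
    · exact small_ten_even K hn h2 hf
    · exact small_ten_odd K hn h2 hf
  · exact small_eleven K hn hf

end CfsgLib.Classical.HermDecompMax
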